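import Mathlib
import Cfsg.Prelude.Def_CaseTheorems

/-!
Core facts about `O_p`, `O_{p'}` and the Hall--Higman lemma `C_G(O_p(G)) ≤ O_p(G)` for finite
solvable groups with `O_{p'}(G) = 1`.  The proofs in this file are copies (under a fresh namespace, so
that later edits of the originals cannot break this file) of lemmas landed by helper94
(`Lib/Helper94/Solvable.lean`) and helper55 (`Lib/Helper55/Cores.lean`).
-/

set_option autoImplicit false

namespace Cfsg.Agent.Helper54

open Cfsg
open scoped commutatorElement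

variable {G : Type*} [Group G]

/-- Descent along the derived series of a normal solvable subgroup `C`: if every normal subgroup `A ≤ C` of `G`
with `⁅A, A⁆ ≤ Z` satisfies `A ≤ Z`, then `C ≤ Z`. -/
theorem derived_descent (C Z : Subgroup G) [hC : C.Normal] [hs : Group.IsSolvable C]
    (hstep : ∀ A : Subgroup G, A.Normal → A ≤ C → ⁅A, A⁆ ≤ Z → A ≤ Z) : C ≤ Z := by
  obtain ⟨N, hN⟩ := (Group.isSolvable_def C).mp hs
  have key : ∀ k n : ℕ, n + k = N → (derivedSeries C n).map C.subtype ≤ Z := by
    intro k
    induction k with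
    | zero =>
      intro n hn
      rw [add_zero] at hn
      rw [hn, hN, Subgroup.map_bot]
      exact bot_le
    | succ k ih =>
      intro n hn
      have h1 := ih (n + 1) (by omega)
      apply hstep
      · exact ConjAct.normal_of_characteristic_of_normal
      · exact Subgroup.map_subtype_le _
      · rw [← Subgroup.map_commutator, ← derivedSeries_succ]
        exact h1
  have h0 := key N 0 (by omega)
  rw [derivedSeries_zero, ← MonoidHom.range_eq_map, Subgroup.range_subtype] at h0
  exact h0

/-- A subgroup all of whose commutators are central in it is nilpotent. -/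
theorem isNilpotent_of_commutators_central (A : Subgroup G)
    (h : ∀ x ∈ A, ∀ y ∈ A, ∀ z ∈ A, ⁅x, y⁆ * z = z * ⁅x, y⁆) : Group.IsNilpotent A := by
  rw [Subgroup.nilpotent_iff_finite_descending_central_series]
  refine ⟨2, fun n => if n = 0 then ⊤ else if n = 1 then Subgroup.center A else ⊥, ⟨by simp, ?_⟩, by simp⟩
  intro x n hx g
  rcases n with _ | _ | n
  · simp only [zero_add, one_ne_zero, if_false, if_true]
    rw [Subgroup.mem_center_iff]
    intro z
    apply Subtype.ext
    have := h x x.2 g g.2 z z.2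
    simp only [Subgroup.coe_mul, commutatorElement_def, Subgroup.coe_inv] at this ⊢
    exact this.symm
  · simp only [zero_add, one_ne_zero, if_false, if_true] at hx
    have h2 : (1 : ℕ) + 1 ≠ 0 := by omega
    have h3 : (1 : ℕ) + 1 ≠ 1 := by omega
    simp only [zero_add, h2, h3, if_false, Subgroup.mem_bot]
    rw [commutatorElement_eq_one_iff_mul_comm]
    exact (Subgroup.mem_center_iff.mp hx g).symm
  · have h2 : n + 1 + 1 ≠ 0 := by omega
    have h3 : n + 1 + 1 ≠ 1 := by omega
    simp only [h2, h3, if_false, Subgroup.mem_bot] at hx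
    subst hx
    have h4 : n + 1 + 1 + 1 ≠ 0 := by omega
    have h5 : n + 1 + 1 + 1 ≠ 1 := by omega
    simp only [h4, h5, if_false, Subgroup.mem_bot]
    exact commutatorElement_one_left g

/-- A normal subgroup `A ≤ C_G(T)` with `⁅A, A⁆ ≤ T` has central commutators. -/
theorem commutators_central_of_le_centralizer (A T : Subgroup G)
    (hAC : A ≤ Subgroup.centralizer (T : Set G)) (hAA : ⁅A, A⁆ ≤ T) :
    ∀ x ∈ A, ∀ y ∈ A, ∀ z ∈ A, ⁅x, y⁆ * z = z * ⁅x, y⁆ := by
  intro x hx y hy z hz
  have h1 : ⁅x, y⁆ ∈ T := hAA (Subgroup.commutator_mem_commutator hx hy)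
  exact hAC hz _ h1

theorem card_sup_coprime [Finite G] {p : ℕ} (H K : Subgroup G) [K.Normal]
    (hH : (Nat.card H).Coprime p) (hK : (Nat.card K).Coprime p) :
    (Nat.card ↥(H ⊔ K)).Coprime p := by
  have h1 : Nat.card ↥(H ⊔ K) = Nat.card K * K.relIndex (H ⊔ K) := by
    rw [← Subgroup.relIndex_bot_left, ← Subgroup.relIndex_bot_left,
      Subgroup.relIndex_mul_relIndex ⊥ K (H ⊔ K) bot_le le_sup_right]
  rw [h1, Subgroup.relIndex_sup_right]
  exact Nat.Coprime.mul_left hK (Nat.Coprime.coprime_dvd_left (Subgroup.relIndex_dvd_card K H) hH)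

theorem pPrimeCore_mem [Finite G] (p : ℕ) :
    (pPrimeCore p G).Normal ∧ (Nat.card (pPrimeCore p G)).Coprime p := by
  refine ⟨inferInstance, ?_⟩
  set X : Set (Subgroup G) := {N : Subgroup G | N.Normal ∧ (Nat.card N).Coprime p} with hX
  have hfin : X.Finite := Set.toFinite X
  have hne : X.Nonempty := ⟨⊥, inferInstance, by simp⟩
  obtain ⟨M, hM, hmax⟩ := Set.exists_max_image X (fun N => Nat.card N) hfin hne
  have hle : ∀ K ∈ X, K ≤ M := by
    intro K hK
    have := hM.1
    have hKM : K ⊔ M ∈ X := ⟨by have := hK.1; infer_instance, card_sup_coprime K M hK.2 hM.2⟩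
    have h1 := hmax _ hKM
    have h2 : M = K ⊔ M := Subgroup.eq_of_le_of_card_ge le_sup_right h1
    rw [h2]; exact le_sup_left
  have heq : pPrimeCore p G = M := le_antisymm (sSup_le hle) (le_sSup hM)
  rw [heq]; exact hM.2

theorem pPrimeCore_coprime [Finite G] (p : ℕ) : (Nat.card (pPrimeCore p G)).Coprime p :=
  (pPrimeCore_mem p).2

theorem le_pPrimeCore {p : ℕ} {N : Subgroup G} (hN : N.Normal) (h : (Nat.card N).Coprime p) :
    N ≤ pPrimeCore p G :=
  le_sSup ⟨hN, h⟩

theorem le_pCore {p : ℕ} {N : Subgroup G} (hN : N.Normal) (h : IsPGroup p N) : N ≤ pCore p G :=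
  le_sSup ⟨hN, h⟩

theorem pCore_le_sylow {p : ℕ} (P : Sylow p G) : pCore p G ≤ (P : Subgroup G) := by
  apply sSup_le
  rintro N ⟨hN, hp⟩
  have := hN
  exact hp.le_sylow_of_normal P

theorem isPGroup_pCore {p : ℕ} : IsPGroup p (pCore p G) := by
  have P : Sylow p G := Classical.arbitrary _
  exact P.isPGroup'.to_le (pCore_le_sylow P)

/-- `O_{p'}(G / O_{p'}(G)) = 1`. -/
theorem pPrimeCore_quotient_eq_bot [Finite G] (p : ℕ) :
    pPrimeCore p (G ⧸ pPrimeCore p G) = ⊥ := by
  rw [eq_bot_iff]
  apply sSup_le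
  rintro M ⟨hM, hcop⟩
  set K := pPrimeCore p G with hK
  set D := M.comap (QuotientGroup.mk' K) with hD
  have hKD : K ≤ D := by
    intro k hk
    rw [hD, Subgroup.mem_comap, QuotientGroup.mk'_apply, (QuotientGroup.eq_one_iff k).mpr hk]
    exact one_mem _
  have hDn : D.Normal := hM.comap _
  have hmap : D.map (QuotientGroup.mk' K) = M :=
    Subgroup.map_comap_eq_self_of_surjective (QuotientGroup.mk'_surjective K) M
  have hcard : Nat.card D = Nat.card K * Nat.card M := by
    have h1 : K.relIndex D = Nat.card M := by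
      have h2 := Subgroup.relIndex_comap (⊥ : Subgroup (G ⧸ K)) (QuotientGroup.mk' K) D
      rw [hmap, Subgroup.relIndex_bot_left] at h2
      rw [← h2]
      congr 1
      rw [MonoidHom.comap_bot, QuotientGroup.ker_mk']
    rw [← Subgroup.relIndex_bot_left, ← Subgroup.relIndex_mul_relIndex ⊥ K D bot_le hKD,
      Subgroup.relIndex_bot_left, h1]
  have hDcop : (Nat.card D).Coprime p := by
    rw [hcard]; exact Nat.Coprime.mul_left (pPrimeCore_coprime p) hcop
  have hDK : D ≤ K := le_pPrimeCore hDn hDcop
  intro m hm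
  obtain ⟨d, rfl⟩ := QuotientGroup.mk'_surjective K m
  have : d ∈ K := hDK (by rwa [hD, Subgroup.mem_comap])
  rw [Subgroup.mem_bot, QuotientGroup.mk'_apply]
  exact (QuotientGroup.eq_one_iff _).mpr this

/-- If `O_{p'}(G) = 1`, every nilpotent normal subgroup of the finite group `G` is a `p`-group. -/
theorem isPGroup_of_nilpotent_normal [Finite G] (p : ℕ) [Fact p.Prime] (h : Cfsg.pPrimeCore p G = ⊥)
    (A : Subgroup G) [hAn : A.Normal] (hA : Group.IsNilpotent A) : IsPGroup p A := by
  have hq : ∀ {q : ℕ}, q.Prime → q ∣ Nat.card A → q = p := by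
    intro q hq hdvd
    by_contra hne
    have : Fact q.Prime := Fact.mk hq
    obtain ⟨Q⟩ := (inferInstance : Nonempty (Sylow q A))
    have hQn : (Q : Subgroup A).Normal := inferInstance
    have hQc : (Q : Subgroup A).Characteristic := Q.characteristic_of_normal hQn
    have hn : ((Q : Subgroup A).map A.subtype).Normal := ConjAct.normal_of_characteristic_of_normal
    have hcard : Nat.card ((Q : Subgroup A).map A.subtype) = Nat.card (Q : Subgroup A) :=
      Subgroup.card_map_of_injective A.subtype_injective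
    have hcop : (Nat.card ((Q : Subgroup A).map A.subtype)).Coprime p := by
      rw [hcard, Q.card_eq_multiplicity]
      apply Nat.Coprime.pow_left
      exact (Nat.coprime_primes hq Fact.out).mpr hne
    have hle : (Q : Subgroup A).map A.subtype ≤ Cfsg.pPrimeCore p G := le_sSup ⟨hn, hcop⟩
    rw [h, le_bot_iff] at hle
    have hbot : (Q : Subgroup A) = ⊥ := (Subgroup.map_eq_bot_iff_of_injective _ A.subtype_injective).mp hle
    exact Q.ne_bot_of_dvd_card hdvd hbot
  have hpos : Nat.card A ≠ 0 := Nat.card_pos.ne'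
  exact IsPGroup.of_card (Nat.eq_prime_pow_of_unique_prime_dvd hpos hq)

/-- In a finite solvable group with `O_{p'}(G) = 1`, the centralizer of `O_p(G)` lies in `O_p(G)`. -/
theorem centralizer_pCore_le [Finite G] [Group.IsSolvable G] (p : ℕ) [Fact p.Prime]
    (h : Cfsg.pPrimeCore p G = ⊥) :
    Subgroup.centralizer (Cfsg.pCore p G : Set G) ≤ Cfsg.pCore p G := by
  have h' := derived_descent (Subgroup.centralizer (Cfsg.pCore p G : Set G))
    (Subgroup.centralizer (Cfsg.pCore p G : Set G) ⊓ Cfsg.pCore p G) ?_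
  · exact h'.trans inf_le_right
  · intro A hAn hAC hAA
    refine le_inf hAC ?_
    apply le_sSup
    refine ⟨hAn, isPGroup_of_nilpotent_normal p h A (isNilpotent_of_commutators_central A ?_)⟩
    exact commutators_central_of_le_centralizer A _ hAC (hAA.trans inf_le_right)


end Cfsg.Agent.Helper54
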