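import Mathlib
import Cfsg.Agent.Lib.Helper54.Solv

/-!
Coprime action, Thompson's `P × Q` lemma and first consequences for groups of characteristic `p`.
The proofs in this file are copies (under a fresh namespace, so that later edits of the originals cannot
break this file) of lemmas landed by helper24 (`Lib/Helper24/Coprime.lean`) and helper49
(`Lib/Helper49/PxQ.lean`, `Lib/Helper49/PPrimeCore.lean`, `Lib/Helper49/CharP.lean`).
-/

set_option autoImplicit false

namespace Cfsg.Agent.Helper54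

variable {G : Type*} [Group G]

/-- If `z = [h, a]` commutes with `a` and `a ^ m = 1`, then `z ^ m = 1`. -/
theorem comm_pow_eq_one (h a : G) (hza : (h * a * h⁻¹ * a⁻¹) * a = a * (h * a * h⁻¹ * a⁻¹))
    (m : ℕ) (ham : a ^ m = 1) : (h * a * h⁻¹ * a⁻¹) ^ m = 1 := by
  set z := h * a * h⁻¹ * a⁻¹ with hz
  have hpow : ∀ k : ℕ, a ^ k * h⁻¹ = h⁻¹ * z ^ k * a ^ k := by
    intro k
    induction k with
    | zero => simp
    | succ k ihk =>
      have hzk : z ^ k * a = a * z ^ k := (Commute.pow_left (show Commute z a from hza) k)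
      have h1 : a * h⁻¹ = h⁻¹ * z * a := by
        rw [hz]; group
      calc a ^ (k + 1) * h⁻¹ = a * (a ^ k * h⁻¹) := by rw [pow_succ']; group
        _ = a * (h⁻¹ * z ^ k * a ^ k) := by rw [ihk]
        _ = (a * h⁻¹) * z ^ k * a ^ k := by group
        _ = h⁻¹ * z * (a * z ^ k) * a ^ k := by rw [h1]; group
        _ = h⁻¹ * z * (z ^ k * a) * a ^ k := by rw [hzk]
        _ = h⁻¹ * z ^ (k + 1) * a ^ (k + 1) := by rw [pow_succ' z k, pow_succ' a k]; group
  have := hpow m
  rw [ham] at this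
  simpa using this

/-- An element of a finite subgroup `H` killed by a power coprime to `|H|` is trivial. -/
theorem eq_one_of_pow_eq_one_of_coprime [Finite G] (H : Subgroup G) (z : G) (hzH : z ∈ H) (m : ℕ)
    (hzm : z ^ m = 1) (hcop : m.Coprime (Nat.card H)) : z = 1 := by
  have hzH' : z ^ (Nat.card H) = 1 := by
    have h3 : (⟨z, hzH⟩ : H) ^ (Nat.card H) = 1 := pow_card_eq_one'
    have h4 := congrArg (fun x : H => (x : G)) h3
    simpa only [Subgroup.coe_pow, Subgroup.coe_one] using h4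
  have h1 : orderOf z ∣ m := orderOf_dvd_of_pow_eq_one hzm
  have h2 : orderOf z ∣ Nat.card H := orderOf_dvd_of_pow_eq_one hzH'
  have : orderOf z ∣ 1 := by
    have := Nat.dvd_gcd h1 h2
    rwa [hcop] at this
  exact orderOf_eq_one_iff.mp (Nat.dvd_one.mp this)

/-- `a ^ (card A) = 1` in `G` for `a ∈ A`. -/
theorem pow_card_subgroup_eq_one [Finite G] (A : Subgroup G) (a : G) (ha : a ∈ A) :
    a ^ (Nat.card A) = 1 := by
  have h3 : (⟨a, ha⟩ : A) ^ (Nat.card A) = 1 := pow_card_eq_one'
  have h4 := congrArg (fun x : A => (x : G)) h3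
  simpa only [Subgroup.coe_pow, Subgroup.coe_one] using h4

/-- Element version: if `a` normalizes `H` (so `[h,a] ∈ H`), `[h,a]` commutes with `a`
and the order of `a` is coprime to `|H|` then `a` commutes with `h`. -/
theorem commute_of_comm_commute_of_coprime [Finite G] (H : Subgroup G) (h a : G)
    (hzH : h * a * h⁻¹ * a⁻¹ ∈ H)
    (hza : (h * a * h⁻¹ * a⁻¹) * a = a * (h * a * h⁻¹ * a⁻¹))
    (m : ℕ) (ham : a ^ m = 1) (hcop : m.Coprime (Nat.card H)) : h * a = a * h := by
  have hz1 : h * a * h⁻¹ * a⁻¹ = 1 :=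
    eq_one_of_pow_eq_one_of_coprime H _ hzH m (comm_pow_eq_one h a hza m ham) hcop
  calc h * a = (h * a * h⁻¹ * a⁻¹) * a * h := by group
    _ = a * h := by rw [hz1]; group

/-- If `A` normalizes `H`, then `⁅H, A⁆ ≤ H`. -/
theorem commutator_le_of_le_normalizer (H A : Subgroup G)
    (hA : A ≤ Subgroup.normalizer (H : Set G)) : ⁅H, A⁆ ≤ H := by
  rw [Subgroup.commutator_le]
  intro h hh a ha
  have := (Subgroup.mem_normalizer_iff.mp (hA ha) h⁻¹).mp (H.inv_mem hh)
  rw [commutatorElement_def]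
  have h2 : h * a * h⁻¹ * a⁻¹ = h * (a * h⁻¹ * a⁻¹) := by group
  rw [h2]
  exact H.mul_mem hh this

/-- Coprime action: `[[H,A],A] = 1` implies `[H,A] = 1`. -/
theorem commutator_eq_bot_of_coprime [Finite G] (H A : Subgroup G)
    (hA : A ≤ Subgroup.normalizer (H : Set G)) (hcop : (Nat.card A).Coprime (Nat.card H))
    (h2 : ⁅⁅H, A⁆, A⁆ = ⊥) : ⁅H, A⁆ = ⊥ := by
  rw [Subgroup.commutator_eq_bot_iff_le_centralizer] at h2 ⊢
  intro h hh
  rw [Subgroup.mem_centralizer_iff]
  intro a ha
  have hz : h * a * h⁻¹ * a⁻¹ ∈ ⁅H, A⁆ := Subgroup.commutator_mem_commutator hh ha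
  have hza := (Subgroup.mem_centralizer_iff.mp (h2 hz)) a ha
  symm
  exact commute_of_comm_commute_of_coprime H h a (commutator_le_of_le_normalizer H A hA hz) hza.symm
    (Nat.card A) (pow_card_subgroup_eq_one A a ha) hcop

/-- Coprime action: `[[H,A],A] = 1` implies `A ≤ C(H)`. -/
theorem le_centralizer_of_coprime [Finite G] (H A : Subgroup G)
    (hA : A ≤ Subgroup.normalizer (H : Set G)) (hcop : (Nat.card A).Coprime (Nat.card H))
    (h2 : ⁅⁅H, A⁆, A⁆ = ⊥) : A ≤ Subgroup.centralizer (H : Set G) := by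
  have := commutator_eq_bot_of_coprime H A hA hcop h2
  rw [Subgroup.commutator_comm, Subgroup.commutator_eq_bot_iff_le_centralizer] at this
  exact this


/-- If `Q` normalizes `V` and `P` then it normalizes `⁅V, P⁆`. -/
theorem le_normalizer_commutator (V P Q : Subgroup G)
    (hV : Q ≤ Subgroup.normalizer (V : Set G)) (hP : Q ≤ Subgroup.normalizer (P : Set G)) :
    Q ≤ Subgroup.normalizer ((⁅V, P⁆ : Subgroup G) : Set G) := by
  intro q hq
  have hqV := hV hq
  have hqP := hP hq
  -- conjugation by q maps ⁅V,P⁆ into itself, and the same for q⁻¹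
  have key : ∀ r : G, r ∈ Subgroup.normalizer (V : Set G) → r ∈ Subgroup.normalizer (P : Set G) →
      ∀ x ∈ ⁅V, P⁆, r * x * r⁻¹ ∈ ⁅V, P⁆ := by
    intro r hrV hrP x hx
    have : (⁅V, P⁆).map (MulAut.conj r).toMonoidHom ≤ ⁅V, P⁆ := by
      rw [Subgroup.map_commutator]
      apply Subgroup.commutator_mono
      · rintro _ ⟨v, hv, rfl⟩
        exact (Subgroup.mem_normalizer_iff.mp hrV v).mp hv
      · rintro _ ⟨v, hv, rfl⟩
        exact (Subgroup.mem_normalizer_iff.mp hrP v).mp hv
    exact this ⟨x, hx, rfl⟩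
  rw [Subgroup.mem_normalizer_iff]
  intro x
  constructor
  · exact key q hqV hqP x
  · intro hx
    have := key q⁻¹ (Subgroup.inv_mem _ hqV) (Subgroup.inv_mem _ hqP) _ hx
    simpa [mul_assoc] using this

/-- The chain `U, ⁅U,P⁆, ⁅⁅U,P⁆,P⁆, ...`. -/
def commChain (U P : Subgroup G) : ℕ → Subgroup G
  | 0 => U
  | n + 1 => ⁅commChain U P n, P⁆

/-- Thompson's `P × Q` lemma. -/
theorem thompson_PxQ [Finite G] (p : ℕ) [Fact p.Prime]
    (P Q U : Subgroup G) (hP : IsPGroup p P) (hQ : (Nat.card Q).Coprime p) (hU : IsPGroup p U)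
    (hPQ : P ≤ Subgroup.centralizer (Q : Set G))
    (hPU : P ≤ Subgroup.normalizer (U : Set G)) (hQU : Q ≤ Subgroup.normalizer (U : Set G))
    (hC : U ⊓ Subgroup.centralizer (P : Set G) ≤ Subgroup.centralizer (Q : Set G)) :
    Q ≤ Subgroup.centralizer (U : Set G) := by
  classical
  -- the chain
  set D : ℕ → Subgroup G := commChain U P with hDdef
  have hD0 : D 0 = U := rfl
  have hDs : ∀ n, D (n + 1) = ⁅D n, P⁆ := fun n => rfl
  have hW : IsPGroup p (U ⊔ P : Subgroup G) := IsPGroup.to_sup_of_normal_left' hU hP hPU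
  have : Group.IsNilpotent (U ⊔ P : Subgroup G) := hW.isNilpotent
  obtain ⟨n, hn⟩ := (Subgroup.isNilpotent_iff_lowerCentralSeries (U ⊔ P)).mp inferInstance
  have hDle : ∀ i, D i ≤ (U ⊔ P).lowerCentralSeries i := by
    intro i
    induction i with
    | zero => rw [hD0]; exact le_sup_left
    | succ i ih =>
      rw [hDs, Subgroup.lowerCentralSeries_succ]
      exact Subgroup.commutator_mono ih le_sup_right
  have hDn : D n = ⊥ := by
    have := hDle n
    rw [hn] at this
    exact le_bot_iff.mp this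
  have hQP : Q ≤ Subgroup.normalizer (P : Set G) := by
    intro q hq
    rw [Subgroup.mem_normalizer_iff]
    intro x
    have hcomm : ∀ y ∈ P, q * y * q⁻¹ = y := by
      intro y hy
      have := (Subgroup.mem_centralizer_iff.mp (hPQ hy)) q hq
      rw [this]; group
    constructor
    · intro hx; rw [hcomm x hx]; exact hx
    · intro hx
      have h2 := hcomm _ hx
      have : q * x * q⁻¹ = x := by
        have h3 : q⁻¹ * (q * (q * x * q⁻¹) * q⁻¹) * q = q⁻¹ * (q * x * q⁻¹) * q := by rw [h2]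
        have h4 : q⁻¹ * (q * (q * x * q⁻¹) * q⁻¹) * q = q * x * q⁻¹ := by group
        have h5 : q⁻¹ * (q * x * q⁻¹) * q = x := by group
        rw [h4, h5] at h3; exact h3
      rw [← this]; exact hx
  have hDQ : ∀ i, Q ≤ Subgroup.normalizer (D i : Set G) := by
    intro i
    induction i with
    | zero => exact hQU
    | succ i ih => rw [hDs]; exact le_normalizer_commutator _ _ _ ih hQP
  have hDU : ∀ i, D i ≤ U := by
    intro i
    induction i with
    | zero => exact le_rfl
    | succ i ih =>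
      rw [hDs]
      exact (Subgroup.commutator_mono ih le_rfl).trans
        (commutator_le_of_le_normalizer U P hPU)
  -- downward induction
  have main : ∀ k, k ≤ n → ⁅D (n - k), Q⁆ = ⊥ := by
    intro k
    induction k with
    | zero => intro _; rw [Nat.sub_zero, hDn]; exact Subgroup.commutator_bot_left Q
    | succ k ih =>
      intro hk
      have hk' : k ≤ n := Nat.le_of_succ_le hk
      have hidx : n - k = (n - (k + 1)) + 1 := by omega
      have h1 := ih hk'
      rw [hidx, hDs] at h1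
      set V := D (n - (k + 1)) with hV
      -- h1 : ⁅⁅V,P⁆,Q⁆ = ⊥
      have h2 : ⁅⁅P, Q⁆, V⁆ = ⊥ := by
        have : ⁅P, Q⁆ = ⊥ := by
          rw [Subgroup.commutator_eq_bot_iff_le_centralizer]; exact hPQ
        rw [this]; exact Subgroup.commutator_bot_left V
      have h3 : ⁅⁅Q, V⁆, P⁆ = ⊥ :=
        Subgroup.commutator_commutator_eq_bot_of_rotate h1 h2
      -- ⁅V,Q⁆ ≤ U ⊓ C(P) ≤ C(Q)
      have h4 : ⁅V, Q⁆ ≤ Subgroup.centralizer (P : Set G) := by
        rw [Subgroup.commutator_comm V Q, ← Subgroup.commutator_eq_bot_iff_le_centralizer]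
        exact h3
      have h5 : ⁅V, Q⁆ ≤ U :=
        (commutator_le_of_le_normalizer V Q (hDQ _)).trans (hDU _)
      have h6 : ⁅V, Q⁆ ≤ Subgroup.centralizer (Q : Set G) := (le_inf h5 h4).trans hC
      have h7 : ⁅⁅V, Q⁆, Q⁆ = ⊥ := by
        rw [Subgroup.commutator_eq_bot_iff_le_centralizer]; exact h6
      have hcop : (Nat.card Q).Coprime (Nat.card V) := by
        have hVp : IsPGroup p V := hU.to_le (hDU _)
        obtain ⟨m, hm⟩ := IsPGroup.iff_card.mp hVp
        rw [hm]
        exact Nat.Coprime.pow_right m hQ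
      exact commutator_eq_bot_of_coprime V Q (hDQ _) hcop h7
  have h0 := main n le_rfl
  rw [Nat.sub_self, hD0, Subgroup.commutator_comm,
    Subgroup.commutator_eq_bot_iff_le_centralizer] at h0
  exact h0


theorem pPrimeCore_normal' (p : ℕ) : (Cfsg.pPrimeCore p G).Normal :=
  Subgroup.sSup_normal _ (fun _ h => h.1)

theorem pCore_normal' (p : ℕ) : (Cfsg.pCore p G).Normal :=
  Subgroup.sSup_normal _ (fun _ h => h.1)

theorem pPrimeCore_map_mulEquiv_le {L L' : Type*} [Group L] [Group L'] (p : ℕ) (ψ : L ≃* L') :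
    (Cfsg.pPrimeCore p L).map ψ.toMonoidHom ≤ Cfsg.pPrimeCore p L' := by
  unfold Cfsg.pPrimeCore
  rw [Subgroup.map_le_iff_le_comap]
  apply sSup_le
  rintro N ⟨hN, hN'⟩
  rw [← Subgroup.map_le_iff_le_comap]
  apply le_sSup
  refine ⟨?_, ?_⟩
  · exact Subgroup.Normal.map hN ψ.toMonoidHom ψ.surjective
  · have : Nat.card (N.map ψ.toMonoidHom) = Nat.card N :=
      Nat.card_congr (N.equivMapOfInjective ψ.toMonoidHom ψ.injective).toEquiv.symm
    rw [this]; exact hN'

/-- Transport of the `p'`-core along an isomorphism. -/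
theorem pPrimeCore_map_mulEquiv {K K' : Type*} [Group K] [Group K'] (p : ℕ) (φ : K ≃* K') :
    (Cfsg.pPrimeCore p K).map φ.toMonoidHom = Cfsg.pPrimeCore p K' := by
  apply le_antisymm (pPrimeCore_map_mulEquiv_le p φ)
  have h2 := pPrimeCore_map_mulEquiv_le p φ.symm
  rw [Subgroup.map_le_iff_le_comap] at h2
  intro y hy
  have := h2 hy
  rw [Subgroup.mem_comap] at this
  exact ⟨φ.symm y, this, by simp⟩

theorem pCore_map_mulEquiv_le {L L' : Type*} [Group L] [Group L'] (p : ℕ) (ψ : L ≃* L') :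
    (Cfsg.pCore p L).map ψ.toMonoidHom ≤ Cfsg.pCore p L' := by
  unfold Cfsg.pCore
  rw [Subgroup.map_le_iff_le_comap]
  apply sSup_le
  rintro N ⟨hN, hN'⟩
  rw [← Subgroup.map_le_iff_le_comap]
  apply le_sSup
  exact ⟨Subgroup.Normal.map hN ψ.toMonoidHom ψ.surjective, hN'.map _⟩

theorem pCore_map_mulEquiv {K K' : Type*} [Group K] [Group K'] (p : ℕ) (φ : K ≃* K') :
    (Cfsg.pCore p K).map φ.toMonoidHom = Cfsg.pCore p K' := by
  apply le_antisymm (pCore_map_mulEquiv_le p φ)
  have h2 := pCore_map_mulEquiv_le p φ.symm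
  rw [Subgroup.map_le_iff_le_comap] at h2
  intro y hy
  have := h2 hy
  rw [Subgroup.mem_comap] at this
  exact ⟨φ.symm y, this, by simp⟩


/-- A normal `p`-subgroup lies in every Sylow `p`-subgroup. -/
theorem normal_pgroup_le_sylow {p : ℕ} [Fact p.Prime] (N : Subgroup G) [N.Normal]
    (hN : IsPGroup p N) (T : Sylow p G) : N ≤ (T : Subgroup G) := by
  have h1 : IsPGroup p ((T : Subgroup G) ⊔ N : Subgroup G) :=
    IsPGroup.to_sup_of_normal_right T.2 hN
  have h2 := T.is_maximal' h1 le_sup_left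
  calc N ≤ (T : Subgroup G) ⊔ N := le_sup_right
    _ = T := h2

/-- A `p`-subgroup normalized by a Sylow `p`-subgroup lies in it. -/
theorem pgroup_le_sylow_of_normalized {p : ℕ} [Fact p.Prime] (N : Subgroup G)
    (hN : IsPGroup p N) (T : Sylow p G) (hT : (T : Subgroup G) ≤ Subgroup.normalizer (N : Set G)) :
    N ≤ (T : Subgroup G) := by
  have h1 : IsPGroup p ((T : Subgroup G) ⊔ N : Subgroup G) :=
    IsPGroup.to_sup_of_normal_right' T.2 hN hT
  have h2 := T.is_maximal' h1 le_sup_left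
  calc N ≤ (T : Subgroup G) ⊔ N := le_sup_right
    _ = T := h2

/-- The normalizer of `Q` normalizes the centralizer of `Q`. -/
theorem normalizer_le_normalizer_centralizer (Q : Subgroup G) :
    Subgroup.normalizer (Q : Set G) ≤
      Subgroup.normalizer ((Subgroup.centralizer (Q : Set G) : Subgroup G) : Set G) := by
  have key : ∀ t : G, t ∈ Subgroup.normalizer (Q : Set G) →
      ∀ c ∈ Subgroup.centralizer (Q : Set G), t * c * t⁻¹ ∈ Subgroup.centralizer (Q : Set G) := by
    intro t ht c hc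
    rw [Subgroup.mem_centralizer_iff]
    intro q hq
    have hq' : t⁻¹ * q * t ∈ Q := by
      have := (Subgroup.mem_normalizer_iff.mp (Subgroup.inv_mem _ ht) q).mp hq
      simpa using this
    have h1 := (Subgroup.mem_centralizer_iff.mp hc) _ hq'
    calc q * (t * c * t⁻¹) = t * ((t⁻¹ * q * t) * c) * t⁻¹ := by group
      _ = t * (c * (t⁻¹ * q * t)) * t⁻¹ := by rw [h1]
      _ = t * c * t⁻¹ * q := by group
  intro t ht
  rw [Subgroup.mem_normalizer_iff]
  intro c
  constructor
  · exact key t ht c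
  · intro hc
    have := key t⁻¹ (Subgroup.inv_mem _ ht) _ hc
    simpa [mul_assoc] using this

/-- A subgroup of a finite group all of whose `p'`-elements are trivial is a `p`-group. -/
theorem isPGroup_of_pprime_elements_trivial [Finite G] {p : ℕ} [hp : Fact p.Prime] (H : Subgroup G)
    (h : ∀ y ∈ H, (orderOf y).Coprime p → y = 1) : IsPGroup p H := by
  intro ⟨g, hg⟩
  have hpos : 0 < orderOf g := orderOf_pos g
  obtain ⟨k, m, hm, hkm⟩ := Nat.exists_eq_pow_mul_and_not_dvd hpos.ne' p hp.out.ne_one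
  refine ⟨k, ?_⟩
  have hy : g ^ (p ^ k) ∈ H := H.pow_mem hg _
  have hord : orderOf (g ^ (p ^ k)) = m := by
    rw [orderOf_pow' g (pow_ne_zero k hp.out.ne_zero), hkm]
    have : Nat.gcd (p ^ k * m) (p ^ k) = p ^ k := Nat.gcd_eq_right (Dvd.intro _ rfl)
    rw [this]
    exact Nat.mul_div_cancel_left m (pow_pos hp.out.pos k)
  have hcop : (orderOf (g ^ (p ^ k))).Coprime p := by
    rw [hord]
    exact ((Nat.Prime.coprime_iff_not_dvd hp.out).mpr hm).symm
  have := h _ hy hcop
  apply Subtype.ext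
  simpa using this

/-- An element of a `p`-group whose order is coprime to `p` is trivial. -/
theorem eq_one_of_mem_pgroup_of_coprime {p : ℕ} [hp : Fact p.Prime] (H : Subgroup G)
    (hH : IsPGroup p H) (y : G) (hy : y ∈ H) (hc : (orderOf y).Coprime p) : y = 1 := by
  obtain ⟨k, hk⟩ := hH ⟨y, hy⟩
  have hk' : y ^ (p ^ k) = 1 := by
    have := congrArg Subtype.val hk
    simpa using this
  have h1 : orderOf y ∣ p ^ k := orderOf_dvd_of_pow_eq_one hk'
  have h2 : (orderOf y).Coprime (p ^ k) := Nat.Coprime.pow_right k hc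
  have : orderOf y = 1 := Nat.Coprime.eq_one_of_dvd h2 h1
  exact orderOf_eq_one_iff.mp this

/-- In a group of characteristic `p`, a `p'`-element centralizing a `p`-subgroup `Q`
containing `C_{O_p(G)}(Q)` is trivial. -/
theorem pprime_element_trivial_of_charp [Finite G] {p : ℕ} [hp : Fact p.Prime]
    (hG : Subgroup.centralizer (Cfsg.pCore p G : Set G) ≤ Cfsg.pCore p G)
    (Q : Subgroup G) (hQ : IsPGroup p Q)
    (hC : Cfsg.pCore p G ⊓ Subgroup.centralizer (Q : Set G) ≤ Q)
    (y : G) (hy : y ∈ Subgroup.centralizer (Q : Set G)) (hyo : (orderOf y).Coprime p) : y = 1 := by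
  have hPn : (Cfsg.pCore p G).Normal := pCore_normal' p
  have hPp : IsPGroup p (Cfsg.pCore p G) := isPGroup_pCore
  have hA : (Nat.card (Subgroup.zpowers y)).Coprime p := by
    rw [Nat.card_zpowers]; exact hyo
  have hQA : Q ≤ Subgroup.centralizer ((Subgroup.zpowers y : Subgroup G) : Set G) := by
    intro q hq
    rw [Subgroup.mem_centralizer_iff]
    intro a ha
    obtain ⟨k, rfl⟩ := Subgroup.mem_zpowers_iff.mp ha
    have h1 : Commute y q := (Subgroup.mem_centralizer_iff.mp hy) q hq |>.symm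
    exact (h1.zpow_left k).eq
  have hAle : Subgroup.zpowers y ≤ Subgroup.centralizer (Q : Set G) := by
    rw [Subgroup.zpowers_le]; exact hy
  have h := thompson_PxQ p Q (Subgroup.zpowers y) (Cfsg.pCore p G) hQ hA hPp hQA
    (by rw [Subgroup.normalizer_eq_top]; exact le_top)
    (by rw [Subgroup.normalizer_eq_top]; exact le_top)
    (by
      intro x hx
      have hxQ : x ∈ Q := hC hx
      rw [Subgroup.mem_centralizer_iff]
      intro a ha
      exact ((Subgroup.mem_centralizer_iff.mp (hAle ha)) x hxQ).symm)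
  have hyP : y ∈ Cfsg.pCore p G := hG (h (Subgroup.mem_zpowers y))
  exact eq_one_of_mem_pgroup_of_coprime _ hPp y hyP hyo


end Cfsg.Agent.Helper54
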