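import Mathlib
import Cfsg.Prelude.Def_Local
import Cfsg.Agent.Lib.Helper54.Solv
import Cfsg.Agent.Lib.Helper54.PxQ

/-!
# `p`-constraint

Basic theory of `p`-constrained groups (`Cfsg.IsPConstrained`):

* `IsCharP p X` : `C_X(O_p(X)) ≤ O_p(X)`;
* lifting of normalizers and centralizers of `p`-subgroups through a normal `p'`-subgroup;
* `isPConstrained_iff_isCharP_quotient` : `G` is `p`-constrained iff `G / O_{p'}(G)` has characteristic `p`;
* `IsPConstrained.of_surjective` : pull back along a surjection with `p'`-kernel onto a group of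
  characteristic `p`;
* `isCharP_normalizer`, `isCharP_centralizer` : `p`-locals of groups of characteristic `p`;
* `IsPConstrained.normalizer`, `IsPConstrained.centralizer` : `p`-locals of `p`-constrained groups.
-/

set_option autoImplicit false

namespace Cfsg.Agent.Helper54

open Cfsg

variable {G : Type*} [Group G]

/-- `X` has characteristic `p`: `C_X(O_p(X)) ≤ O_p(X)`. -/
def IsCharP (p : ℕ) (X : Type*) [Group X] : Prop :=
  Subgroup.centralizer (pCore p X : Set X) ≤ pCore p X

theorem IsCharP.of_mulEquiv {p : ℕ} {X Y : Type*} [Group X] [Group Y] (e : X ≃* Y)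
    (h : IsCharP p X) : IsCharP p Y := by
  intro y hy
  have h1 : e.symm y ∈ Subgroup.centralizer (pCore p X : Set X) := by
    rw [Subgroup.mem_centralizer_iff]
    intro q hq
    have hq' : e q ∈ pCore p Y := by
      rw [← pCore_map_mulEquiv p e]
      exact Subgroup.mem_map_of_mem _ hq
    have := (Subgroup.mem_centralizer_iff.mp hy) (e q) hq'
    apply e.injective
    simpa using this
  have h2 := h h1
  have h3 : e (e.symm y) ∈ (pCore p X).map e.toMonoidHom := Subgroup.mem_map_of_mem _ h2
  rw [pCore_map_mulEquiv p e] at h3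
  simpa using h3

/-- A group of characteristic `p` has trivial `p'`-core. -/
theorem IsCharP.pPrimeCore_eq_bot [Finite G] {p : ℕ} [hp : Fact p.Prime] (h : IsCharP p G) :
    pPrimeCore p G = ⊥ := by
  have hLn : (pPrimeCore p G).Normal := pPrimeCore_normal' p
  have hQn : (pCore p G).Normal := pCore_normal' p
  have hQp : IsPGroup p (pCore p G) := isPGroup_pCore
  have hinf : pPrimeCore p G ⊓ pCore p G = ⊥ := by
    apply (Subgroup.disjoint_of_coprime_natCard _).eq_bot
    obtain ⟨n, hn⟩ := IsPGroup.iff_card.mp hQp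
    rw [hn]
    exact Nat.Coprime.pow_right n (pPrimeCore_coprime p)
  have hle : pPrimeCore p G ≤ Subgroup.centralizer (pCore p G : Set G) := by
    intro x hx
    rw [Subgroup.mem_centralizer_iff]
    intro q hq
    have h1 : x * q * x⁻¹ * q⁻¹ ∈ pPrimeCore p G ⊓ pCore p G := by
      refine ⟨?_, ?_⟩
      · have : x * q * x⁻¹ * q⁻¹ = x * (q * x⁻¹ * q⁻¹) := by group
        rw [this]
        exact Subgroup.mul_mem _ hx (hLn.conj_mem _ (Subgroup.inv_mem _ hx) q)
      · exact Subgroup.mul_mem _ (hQn.conj_mem _ hq x) (Subgroup.inv_mem _ hq)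
    rw [hinf, Subgroup.mem_bot] at h1
    calc q * x = (x * q * x⁻¹ * q⁻¹)⁻¹ * x * q := by group
      _ = x * q := by rw [h1]; group
  rw [eq_bot_iff]
  intro x hx
  rw [← hinf]
  exact ⟨hx, h (hle hx)⟩

/-! ### Lifting through a normal `p'`-subgroup -/

theorem inf_eq_bot_of_isPGroup_of_coprime [Finite G] {p : ℕ} [hp : Fact p.Prime] (K T : Subgroup G)
    (hK : (Nat.card K).Coprime p) (hT : IsPGroup p T) : K ⊓ T = ⊥ := by
  apply (Subgroup.disjoint_of_coprime_natCard _).eq_bot
  obtain ⟨n, hn⟩ := IsPGroup.iff_card.mp hT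
  rw [hn]
  exact Nat.Coprime.pow_right n hK

/-- The index of a `p`-subgroup `T` in `TK`, for a normal `p'`-subgroup `K`, is `|K|`. -/
theorem relIndex_sup_of_coprime [Finite G] {p : ℕ} [hp : Fact p.Prime] (K : Subgroup G) [K.Normal]
    (hK : (Nat.card K).Coprime p) (T : Subgroup G) (hT : IsPGroup p T) :
    T.relIndex (T ⊔ K) = Nat.card K := by
  have hinf : K ⊓ T = ⊥ := inf_eq_bot_of_isPGroup_of_coprime K T hK hT
  have h1 : Nat.card ↥(T ⊔ K) = Nat.card K * K.relIndex (T ⊔ K) := by
    rw [← Subgroup.relIndex_bot_left, ← Subgroup.relIndex_bot_left,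
      Subgroup.relIndex_mul_relIndex ⊥ K (T ⊔ K) bot_le le_sup_right]
  have h2 : Nat.card ↥(T ⊔ K) = Nat.card T * T.relIndex (T ⊔ K) := by
    rw [← Subgroup.relIndex_bot_left, ← Subgroup.relIndex_bot_left,
      Subgroup.relIndex_mul_relIndex ⊥ T (T ⊔ K) bot_le le_sup_left]
  have h3 : K.relIndex (T ⊔ K) = Nat.card T := by
    rw [Subgroup.relIndex_sup_right, ← Subgroup.inf_relIndex_right, hinf, Subgroup.relIndex_bot_left]
  rw [h3, h2, mul_comm] at h1
  have hpos : 0 < Nat.card T := Nat.card_pos
  exact Nat.eq_of_mul_eq_mul_right hpos h1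

/-- **Lifting of normalizers.** If `K` is a normal `p'`-subgroup, `T` a `p`-subgroup and `c` normalizes `TK`,
then `c * k` normalizes `T` for some `k ∈ K`. -/
theorem exists_mul_mem_normalizer [Finite G] {p : ℕ} [hp : Fact p.Prime] (K : Subgroup G) [hKn : K.Normal]
    (hK : (Nat.card K).Coprime p) (T : Subgroup G) (hT : IsPGroup p T) (c : G)
    (hc : ∀ t ∈ T, c * t * c⁻¹ ∈ T ⊔ K) :
    ∃ k ∈ K, c * k ∈ Subgroup.normalizer (T : Set G) := by
  set M := T ⊔ K with hM
  have hidx : ¬ p ∣ (T.subgroupOf M).index := by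
    have h1 : (T.subgroupOf M).index = Nat.card K := relIndex_sup_of_coprime K hK T hT
    rw [h1]
    exact fun h => (Nat.Prime.coprime_iff_not_dvd hp.out).mp hK.symm h
  have hT' : IsPGroup p (T.subgroupOf M) := hT.comap_subtype
  set S1 : Sylow p M := hT'.toSylow hidx with hS1
  set T2 : Subgroup G := T.map (MulAut.conj c).toMonoidHom with hT2def
  have hT2 : IsPGroup p T2 := hT.map _
  have hT2' : IsPGroup p (T2.subgroupOf M) := hT2.comap_subtype
  obtain ⟨S2, hS2⟩ := hT2'.exists_le_sylow
  obtain ⟨g, hg⟩ := MulAction.exists_smul_eq M S1 S2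
  have key : ∀ t ∈ T, ((g : G)⁻¹ * c) * t * ((g : G)⁻¹ * c)⁻¹ ∈ T := by
    intro t ht
    have h1 : c * t * c⁻¹ ∈ M := hc t ht
    have h2 : (⟨c * t * c⁻¹, h1⟩ : M) ∈ T2.subgroupOf M := by
      rw [Subgroup.mem_subgroupOf]
      exact ⟨t, ht, rfl⟩
    have h3 : (⟨c * t * c⁻¹, h1⟩ : M) ∈ (S2 : Subgroup M) := hS2 h2
    rw [← hg, Sylow.smul_def, Sylow.pointwise_smul_def, Subgroup.mem_pointwise_smul_iff_inv_smul_mem] at h3
    have h4 : (MulAut.conj g)⁻¹ • (⟨c * t * c⁻¹, h1⟩ : M) ∈ T.subgroupOf M := h3
    rw [Subgroup.mem_subgroupOf] at h4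
    have h5 : (((MulAut.conj g)⁻¹ • (⟨c * t * c⁻¹, h1⟩ : M) : M) : G) =
        ((g : G)⁻¹ * c) * t * ((g : G)⁻¹ * c)⁻¹ := by
      rw [← map_inv, MulAut.smul_def, MulAut.conj_apply]
      simp only [Subgroup.coe_mul, Subgroup.coe_inv, inv_inv, mul_inv_rev, mul_assoc]
    rw [h5] at h4
    exact h4
  have hnorm : (g : G)⁻¹ * c ∈ Subgroup.normalizer (T : Set G) :=
    Subgroup.mem_normalizer_fintype key
  -- decompose g = k0 * t0
  have hgM : (g : G) ∈ K ⊔ T := by rw [sup_comm]; exact g.2
  obtain ⟨k0, hk0, t0, ht0, hkt⟩ := Subgroup.mem_sup_of_normal_left.mp hgM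
  refine ⟨c⁻¹ * k0⁻¹ * c, ?_, ?_⟩
  · have := hKn.conj_mem _ (Subgroup.inv_mem _ hk0) c⁻¹
    simpa using this
  · have h1 : c * (c⁻¹ * k0⁻¹ * c) = t0 * ((g : G)⁻¹ * c) := by
      rw [← hkt]; group
    rw [h1]
    exact Subgroup.mul_mem _ (Subgroup.le_normalizer ht0) hnorm

/-- **Lifting of centralizers.** If `K` is a normal `p'`-subgroup, `T` a `p`-subgroup and `c` centralizes `T`
modulo `K`, then `c * k` centralizes `T` for some `k ∈ K`. -/
theorem exists_mul_mem_centralizer [Finite G] {p : ℕ} [hp : Fact p.Prime] (K : Subgroup G) [hKn : K.Normal]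
    (hK : (Nat.card K).Coprime p) (T : Subgroup G) (hT : IsPGroup p T) (c : G)
    (hc : ∀ t ∈ T, c * t * c⁻¹ * t⁻¹ ∈ K) :
    ∃ k ∈ K, c * k ∈ Subgroup.centralizer (T : Set G) := by
  have hc' : ∀ t ∈ T, c * t * c⁻¹ ∈ T ⊔ K := by
    intro t ht
    have h1 : c * t * c⁻¹ = (c * t * c⁻¹ * t⁻¹) * t := by group
    rw [h1]
    exact Subgroup.mul_mem _ (Subgroup.mem_sup_right (hc t ht)) (Subgroup.mem_sup_left ht)
  obtain ⟨k, hk, hck⟩ := exists_mul_mem_normalizer K hK T hT c hc'
  refine ⟨k, hk, ?_⟩
  have hinf : K ⊓ T = ⊥ := inf_eq_bot_of_isPGroup_of_coprime K T hK hT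
  rw [Subgroup.mem_centralizer_iff]
  intro t ht
  have h1 : (c * k) * t * (c * k)⁻¹ * t⁻¹ ∈ K ⊓ T := by
    refine ⟨?_, ?_⟩
    · have h2 : (c * k) * t * (c * k)⁻¹ * t⁻¹ =
          (c * (k * (t * k⁻¹ * t⁻¹)) * c⁻¹) * (c * t * c⁻¹ * t⁻¹) := by group
      rw [h2]
      refine Subgroup.mul_mem _ (hKn.conj_mem _ (Subgroup.mul_mem _ hk ?_) c) (hc t ht)
      exact hKn.conj_mem _ (Subgroup.inv_mem _ hk) t
    · exact Subgroup.mul_mem _ ((Subgroup.mem_normalizer_iff.mp hck t).mp ht) (Subgroup.inv_mem _ ht)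
  rw [hinf, Subgroup.mem_bot] at h1
  calc t * (c * k) = ((c * k) * t * (c * k)⁻¹ * t⁻¹)⁻¹ * (c * k) * t := by group
    _ = c * k * t := by rw [h1]; group

/-! ### `p`-constraint and characteristic `p` -/

theorem mem_pPrimePCore_iff {p : ℕ} {x : G} :
    x ∈ pPrimePCore p G ↔ (QuotientGroup.mk' (pPrimeCore p G)) x ∈ pCore p (G ⧸ pPrimeCore p G) :=
  Iff.rfl

theorem map_sylow_comap {G' : Type*} [Group G'] [Finite G] {p : ℕ} [hp : Fact p.Prime] (f : G →* G')
    (hf : Function.Surjective f) (Q' : Subgroup G') (hQ' : IsPGroup p Q') (P : Sylow p ↥(Q'.comap f)) :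
    ((P : Subgroup ↥(Q'.comap f)).map (Q'.comap f).subtype).map f = Q' := by
  have hsurj : Function.Surjective (f.subgroupComap Q') :=
    MonoidHom.subgroupComap_surjective_of_surjective _ _ hf
  have htop : IsPGroup p (⊤ : Subgroup Q') := hQ'.to_subgroup ⊤
  have h1 : ((P.mapSurjective hsurj : Sylow p Q') : Subgroup Q') = ⊤ :=
    ((P.mapSurjective hsurj).is_maximal' htop le_top).symm
  rw [Sylow.coe_mapSurjective] at h1
  have h2 : ((P : Subgroup ↥(Q'.comap f)).map (Q'.comap f).subtype).map f =
      ((P : Subgroup ↥(Q'.comap f)).map (f.subgroupComap Q')).map Q'.subtype := by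
    rw [Subgroup.map_map, Subgroup.map_map]
    rfl
  rw [h2, h1, ← MonoidHom.range_eq_map, Subgroup.range_subtype]

/-- The image in `G / O_{p'}(G)` of a Sylow `p`-subgroup of `O_{p',p}(G)` is `O_p(G / O_{p'}(G))`. -/
theorem map_sylow_pPrimePCore [Finite G] {p : ℕ} [hp : Fact p.Prime] (P : Sylow p ↥(pPrimePCore p G)) :
    ((P : Subgroup ↥(pPrimePCore p G)).map (pPrimePCore p G).subtype).map
      (QuotientGroup.mk' (pPrimeCore p G)) = pCore p (G ⧸ pPrimeCore p G) :=
  map_sylow_comap (QuotientGroup.mk' (pPrimeCore p G)) (QuotientGroup.mk'_surjective _) _ isPGroup_pCore P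

/-- `G` is `p`-constrained iff `G / O_{p'}(G)` has characteristic `p`. -/
theorem isPConstrained_iff_isCharP_quotient [Finite G] {p : ℕ} [hp : Fact p.Prime] :
    IsPConstrained p G ↔ IsCharP p (G ⧸ pPrimeCore p G) := by
  set K := pPrimeCore p G with hK
  have hKn : K.Normal := pPrimeCore_normal' p
  have hKc : (Nat.card K).Coprime p := pPrimeCore_coprime p
  constructor
  · intro h
    have P : Sylow p ↥(pPrimePCore p G) := Classical.arbitrary _
    set P0 : Subgroup G := (P : Subgroup ↥(pPrimePCore p G)).map (pPrimePCore p G).subtype with hP0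
    have hP0p : IsPGroup p P0 := P.isPGroup'.map _
    have himg : P0.map (QuotientGroup.mk' K) = pCore p (G ⧸ K) := map_sylow_pPrimePCore P
    intro y hy
    obtain ⟨c, rfl⟩ := QuotientGroup.mk'_surjective K y
    have hc : ∀ t ∈ P0, c * t * c⁻¹ * t⁻¹ ∈ K := by
      intro t ht
      have ht' : (QuotientGroup.mk' K) t ∈ pCore p (G ⧸ K) := by
        rw [← himg]; exact Subgroup.mem_map_of_mem _ ht
      have h1 := (Subgroup.mem_centralizer_iff.mp hy) _ ht'
      rw [← QuotientGroup.eq_one_iff, ← QuotientGroup.mk'_apply]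
      simp only [map_mul, map_inv]
      rw [← h1]
      group
    obtain ⟨k, hk, hck⟩ := exists_mul_mem_centralizer K hKc P0 hP0p c hc
    have h2 : c * k ∈ pPrimePCore p G := h P hck
    rw [mem_pPrimePCore_iff] at h2
    have h3 : (QuotientGroup.mk' K) (c * k) = (QuotientGroup.mk' K) c := by
      rw [map_mul, QuotientGroup.mk'_apply, QuotientGroup.mk'_apply, (QuotientGroup.eq_one_iff k).mpr hk,
        mul_one]
    rw [← h3]
    exact h2
  · intro h P x hx
    rw [mem_pPrimePCore_iff]
    apply h
    rw [Subgroup.mem_centralizer_iff]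
    intro q hq
    rw [← map_sylow_pPrimePCore P] at hq
    obtain ⟨t, ht, rfl⟩ := hq
    have h1 := (Subgroup.mem_centralizer_iff.mp hx) t ht
    rw [← map_mul, ← map_mul, h1]

/-- Pull-back of `p`-constraint: a finite group with a surjection with `p'`-kernel onto a group of characteristic
`p` is `p`-constrained. -/
theorem isPConstrained_of_surjective {N M : Type*} [Group N] [Group M] [Finite N] {p : ℕ} [hp : Fact p.Prime]
    (f : N →* M) (hf : Function.Surjective f) (hker : (Nat.card f.ker).Coprime p) (hM : IsCharP p M) :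
    IsPConstrained p N := by
  have : Finite M := Finite.of_surjective f hf
  have hK : pPrimeCore p N = f.ker := by
    apply le_antisymm
    · have h1 : (pPrimeCore p N).map f ≤ pPrimeCore p M := by
        apply le_pPrimeCore
        · exact (pPrimeCore_normal' p).map f hf
        · exact Nat.Coprime.coprime_dvd_left (Subgroup.card_map_dvd _ f) (pPrimeCore_coprime p)
      rw [hM.pPrimeCore_eq_bot, le_bot_iff] at h1
      intro x hx
      rw [MonoidHom.mem_ker]
      have : f x ∈ (pPrimeCore p N).map f := Subgroup.mem_map_of_mem _ hx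
      rw [h1, Subgroup.mem_bot] at this
      exact this
    · exact le_pPrimeCore (MonoidHom.normal_ker f) hker
  rw [isPConstrained_iff_isCharP_quotient]
  have e : M ≃* N ⧸ pPrimeCore p N :=
    (QuotientGroup.quotientKerEquivOfSurjective f hf).symm.trans
      (QuotientGroup.quotientMulEquivOfEq hK.symm)
  exact hM.of_mulEquiv e

theorem IsPConstrained.of_mulEquiv {N N' : Type*} [Group N] [Group N'] [Finite N] {p : ℕ} [hp : Fact p.Prime]
    (e : N ≃* N') (h : IsPConstrained p N) : IsPConstrained p N' := by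
  have : Finite N' := Finite.of_equiv N e.toEquiv
  rw [isPConstrained_iff_isCharP_quotient] at h
  have hKn : (pPrimeCore p N).Normal := pPrimeCore_normal' p
  refine isPConstrained_of_surjective ((QuotientGroup.mk' (pPrimeCore p N)).comp e.symm.toMonoidHom) ?_ ?_ h
  · exact (QuotientGroup.mk'_surjective _).comp e.symm.surjective
  · have h1 : ((QuotientGroup.mk' (pPrimeCore p N)).comp e.symm.toMonoidHom).ker =
        (pPrimeCore p N).map e.toMonoidHom := by
      ext x
      rw [MonoidHom.mem_ker, MonoidHom.comp_apply, QuotientGroup.mk'_apply, QuotientGroup.eq_one_iff]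
      constructor
      · intro hx
        exact ⟨e.symm x, hx, by simp⟩
      · rintro ⟨y, hy, rfl⟩
        simpa using hy
    rw [h1]
    exact Nat.Coprime.coprime_dvd_left (Subgroup.card_map_dvd _ _) (pPrimeCore_coprime p)

/-- A group of characteristic `p` is `p`-constrained. -/
theorem IsCharP.isPConstrained [Finite G] {p : ℕ} [hp : Fact p.Prime] (h : IsCharP p G) :
    IsPConstrained p G := by
  refine isPConstrained_of_surjective (MonoidHom.id G) Function.surjective_id ?_ h
  rw [MonoidHom.ker_id]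
  simp

/-! ### Local subgroups of groups of characteristic `p` -/

/-- In a group of characteristic `p`, a `p'`-element centralizing a `p`-subgroup `T` and `C_{O_p(G)}(T)`
is trivial. -/
theorem eq_one_of_centralizes_of_isCharP [Finite G] {p : ℕ} [hp : Fact p.Prime] (hG : IsCharP p G)
    (T : Subgroup G) (hT : IsPGroup p T) (y : G) (hy : y ∈ Subgroup.centralizer (T : Set G))
    (hy2 : ∀ u ∈ pCore p G ⊓ Subgroup.centralizer (T : Set G), u * y = y * u)
    (hyo : (orderOf y).Coprime p) : y = 1 := by
  have hPn : (pCore p G).Normal := pCore_normal' p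
  have hPp : IsPGroup p (pCore p G) := isPGroup_pCore
  have hA : (Nat.card (Subgroup.zpowers y)).Coprime p := by
    rw [Nat.card_zpowers]; exact hyo
  have hQA : T ≤ Subgroup.centralizer ((Subgroup.zpowers y : Subgroup G) : Set G) := by
    intro q hq
    rw [Subgroup.mem_centralizer_iff]
    intro a ha
    obtain ⟨k, rfl⟩ := Subgroup.mem_zpowers_iff.mp ha
    have h1 : Commute y q := (Subgroup.mem_centralizer_iff.mp hy) q hq |>.symm
    exact (h1.zpow_left k).eq
  have h := thompson_PxQ p T (Subgroup.zpowers y) (pCore p G) hT hA hPp hQA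
    (by rw [Subgroup.normalizer_eq_top]; exact le_top)
    (by rw [Subgroup.normalizer_eq_top]; exact le_top)
    (by
      intro x hx
      rw [Subgroup.mem_centralizer_iff]
      intro a ha
      obtain ⟨k, rfl⟩ := Subgroup.mem_zpowers_iff.mp ha
      have h1 : Commute y x := (hy2 x hx).symm
      exact (h1.zpow_left k).eq)
  have hyP : y ∈ pCore p G := hG (h (Subgroup.mem_zpowers y))
  exact eq_one_of_mem_pgroup_of_coprime _ hPp y hyP hyo

/-- General form of "`p`-locals of groups of characteristic `p` have characteristic `p`". -/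
theorem isCharP_of_local [Finite G] {p : ℕ} [hp : Fact p.Prime] (hG : IsCharP p G)
    (T : Subgroup G) (hT : IsPGroup p T) (N : Subgroup G)
    (hN1 : pCore p G ⊓ Subgroup.centralizer (T : Set G) ≤ N)
    (hN2 : ∀ y : N, y ∈ Subgroup.centralizer (pCore p N : Set N) → (y : G) ∈ Subgroup.centralizer (T : Set G)) :
    IsCharP p N := by
  have hRn : (pCore p N).Normal := pCore_normal' p
  have hCn : (Subgroup.centralizer (pCore p N : Set N)).Normal := inferInstance
  have hQn : (pCore p G).Normal := pCore_normal' p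
  have hQN : (pCore p G).subgroupOf N ≤ pCore p N := by
    apply le_pCore
    · infer_instance
    · exact (isPGroup_pCore (p := p) (G := G)).comap_subtype
  have hCp : IsPGroup p (Subgroup.centralizer (pCore p N : Set N)) := by
    apply isPGroup_of_pprime_elements_trivial
    intro y hy hyo
    have h1 : (y : G) = 1 := by
      apply eq_one_of_centralizes_of_isCharP hG T hT (y : G) (hN2 y hy)
      · intro u hu
        have huN : u ∈ N := hN1 hu
        have hu' : (⟨u, huN⟩ : N) ∈ pCore p N := hQN (Subgroup.mem_subgroupOf.mpr hu.1)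
        have := (Subgroup.mem_centralizer_iff.mp hy) _ hu'
        exact congrArg Subtype.val this
      · rw [Subgroup.orderOf_coe]; exact hyo
    exact Subtype.ext h1
  exact le_pCore hCn hCp

/-- The normalizer of a `p`-subgroup of a group of characteristic `p` has characteristic `p`. -/
theorem isCharP_normalizer [Finite G] {p : ℕ} [hp : Fact p.Prime] (hG : IsCharP p G)
    (T : Subgroup G) (hT : IsPGroup p T) : IsCharP p ↥(Subgroup.normalizer (T : Set G)) := by
  apply isCharP_of_local hG T hT
  · intro u hu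
    exact Subgroup.centralizer_le_normalizer _ hu.2
  · intro y hy
    have hTN : T.subgroupOf (Subgroup.normalizer (T : Set G)) ≤ pCore p ↥(Subgroup.normalizer (T : Set G)) := by
      apply le_pCore
      · exact Subgroup.normal_in_normalizer
      · exact hT.comap_subtype
    rw [Subgroup.mem_centralizer_iff]
    intro t ht
    have ht' : (⟨t, Subgroup.le_normalizer ht⟩ : ↥(Subgroup.normalizer (T : Set G))) ∈
        pCore p ↥(Subgroup.normalizer (T : Set G)) := hTN (Subgroup.mem_subgroupOf.mpr ht)
    have := (Subgroup.mem_centralizer_iff.mp hy) _ ht'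
    exact congrArg Subtype.val this

/-- The centralizer of a `p`-subgroup of a group of characteristic `p` has characteristic `p`. -/
theorem isCharP_centralizer [Finite G] {p : ℕ} [hp : Fact p.Prime] (hG : IsCharP p G)
    (T : Subgroup G) (hT : IsPGroup p T) : IsCharP p ↥(Subgroup.centralizer (T : Set G)) := by
  apply isCharP_of_local hG T hT
  · exact inf_le_right
  · intro y _
    exact y.2

/-! ### Local subgroups of `p`-constrained groups -/

/-- Transfer principle: if `N ≤ G` maps onto a subgroup `N'` of characteristic `p` of `G / K`, `K` a normal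
`p'`-subgroup, then `N` is `p`-constrained. -/
theorem isPConstrained_of_quotient_isCharP [Finite G] {p : ℕ} [hp : Fact p.Prime] (K : Subgroup G)
    [hKn : K.Normal] (hK : (Nat.card K).Coprime p) (N : Subgroup G) (N' : Subgroup (G ⧸ K))
    (ha : ∀ x ∈ N, (QuotientGroup.mk' K) x ∈ N')
    (hb : ∀ c : G, (QuotientGroup.mk' K) c ∈ N' → ∃ k ∈ K, c * k ∈ N)
    (hc : IsCharP p N') : IsPConstrained p N := by
  set f : N →* N' := ((QuotientGroup.mk' K).comp N.subtype).codRestrict N' (fun x => ha x x.2) with hf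
  have hsurj : Function.Surjective f := by
    rintro ⟨n', hn'⟩
    obtain ⟨c, rfl⟩ := QuotientGroup.mk'_surjective K n'
    obtain ⟨k, hk, hck⟩ := hb c hn'
    refine ⟨⟨c * k, hck⟩, ?_⟩
    apply Subtype.ext
    show (QuotientGroup.mk' K) (c * k) = (QuotientGroup.mk' K) c
    rw [map_mul, QuotientGroup.mk'_apply, QuotientGroup.mk'_apply, (QuotientGroup.eq_one_iff k).mpr hk,
      mul_one]
  have hker : (Nat.card f.ker).Coprime p := by
    have h1 : f.ker.map N.subtype ≤ K := by
      rintro _ ⟨x, hx, rfl⟩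
      have hx' : f x = 1 := MonoidHom.mem_ker.mp hx
      have h2 : (QuotientGroup.mk' K) (x : G) = 1 := congrArg Subtype.val hx'
      rwa [QuotientGroup.mk'_apply, QuotientGroup.eq_one_iff] at h2
    have h3 : Nat.card f.ker = Nat.card (f.ker.map N.subtype) :=
      Nat.card_congr (f.ker.equivMapOfInjective N.subtype N.subtype_injective).toEquiv
    rw [h3]
    exact Nat.Coprime.coprime_dvd_left (Subgroup.card_dvd_of_le h1) hK
  exact isPConstrained_of_surjective f hsurj hker hc

/-- The normalizer of a `p`-subgroup of a `p`-constrained group is `p`-constrained. -/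
theorem IsPConstrained.normalizer [Finite G] {p : ℕ} [hp : Fact p.Prime] (hG : IsPConstrained p G)
    (T : Subgroup G) (hT : IsPGroup p T) : IsPConstrained p ↥(Subgroup.normalizer (T : Set G)) := by
  rw [isPConstrained_iff_isCharP_quotient] at hG
  set K := pPrimeCore p G with hKdef
  have hKn : K.Normal := pPrimeCore_normal' p
  have hKc : (Nat.card K).Coprime p := pPrimeCore_coprime p
  have : Finite (G ⧸ K) := inferInstance
  apply isPConstrained_of_quotient_isCharP K hKc _
    (Subgroup.normalizer ((T.map (QuotientGroup.mk' K) : Subgroup (G ⧸ K)) : Set (G ⧸ K)))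
  · intro x hx
    exact Subgroup.le_normalizer_map _ (Subgroup.mem_map_of_mem _ hx)
  · intro c hc
    apply exists_mul_mem_normalizer K hKc T hT c
    intro t ht
    have h1 : (QuotientGroup.mk' K) c * (QuotientGroup.mk' K) t * ((QuotientGroup.mk' K) c)⁻¹ ∈
        T.map (QuotientGroup.mk' K) :=
      (Subgroup.mem_normalizer_iff.mp hc _).mp (Subgroup.mem_map_of_mem _ ht)
    obtain ⟨t', ht', h2⟩ := h1
    have h3 : t'⁻¹ * (c * t * c⁻¹) ∈ K := by
      rw [← QuotientGroup.eq_one_iff, ← QuotientGroup.mk'_apply]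
      simp only [map_mul, map_inv]
      rw [h2]
      group
    have h4 : c * t * c⁻¹ = t' * (t'⁻¹ * (c * t * c⁻¹)) := by group
    rw [h4]
    exact Subgroup.mul_mem _ (Subgroup.mem_sup_left ht') (Subgroup.mem_sup_right h3)
  · exact isCharP_normalizer hG _ (hT.map _)

/-- The centralizer of a `p`-subgroup of a `p`-constrained group is `p`-constrained. -/
theorem IsPConstrained.centralizer [Finite G] {p : ℕ} [hp : Fact p.Prime] (hG : IsPConstrained p G)
    (T : Subgroup G) (hT : IsPGroup p T) : IsPConstrained p ↥(Subgroup.centralizer (T : Set G)) := by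
  rw [isPConstrained_iff_isCharP_quotient] at hG
  set K := pPrimeCore p G with hKdef
  have hKn : K.Normal := pPrimeCore_normal' p
  have hKc : (Nat.card K).Coprime p := pPrimeCore_coprime p
  have : Finite (G ⧸ K) := inferInstance
  apply isPConstrained_of_quotient_isCharP K hKc _
    (Subgroup.centralizer ((T.map (QuotientGroup.mk' K) : Subgroup (G ⧸ K)) : Set (G ⧸ K)))
  · intro x hx
    rw [Subgroup.mem_centralizer_iff]
    rintro _ ⟨t, ht, rfl⟩
    have h1 := (Subgroup.mem_centralizer_iff.mp hx) t ht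
    rw [← map_mul, ← map_mul, h1]
  · intro c hc
    apply exists_mul_mem_centralizer K hKc T hT c
    intro t ht
    have h1 := (Subgroup.mem_centralizer_iff.mp hc) _ (Subgroup.mem_map_of_mem _ ht)
    rw [← QuotientGroup.eq_one_iff, ← QuotientGroup.mk'_apply]
    simp only [map_mul, map_inv]
    rw [← h1]
    group
  · exact isCharP_centralizer hG _ (hT.map _)

end Cfsg.Agent.Helper54
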