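import Mathlib
import Cfsg.Agent.Lib.Helper54.PConstrained

/-!
# A prime-free "key lemma" on invariant `p'`-subgroups

* `eq_bot_of_isCharP_of_normalizes` : `X` of characteristic `p`, `A` an abelian `p`-subgroup normalized by
  `O_p(X)` with `C_{O_p(X)}(A) ≤ A`.  Then every `A`-invariant `p'`-subgroup of `X` is trivial.
* `le_pPrimeCore_of_sylow_normalizes` : `X` `p`-constrained, `A` an abelian subgroup of a Sylow `p`-subgroup `T`
  with `A ⊴ T` and `C_T(A) ≤ A`.  Then every `A`-invariant `p'`-subgroup of `X` lies in `O_{p'}(X)`.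
-/

set_option autoImplicit false

namespace Cfsg.Agent.Helper54

open Subgroup Cfsg

section KL

variable {X : Type*} [Group X]

theorem le_normalizer_inf_of_le {E H K : Subgroup X} (hH : E ≤ normalizer (H : Set X))
    (hK : E ≤ normalizer (K : Set X)) : E ≤ normalizer ((H ⊓ K : Subgroup X) : Set X) :=
  fun x hx => by
    have h1 := hH hx
    have h2 := hK hx
    rw [mem_normalizer_iff] at h1 h2 ⊢
    intro y
    rw [mem_inf, mem_inf, ← h1 y, ← h2 y]

/-- the elements `g` centralizing `Z` with `[x, g] ∈ Z` for all `x ∈ R₁` -/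
def stabKer (R₁ Z : Subgroup X) : Subgroup X where
  carrier := {g | g ∈ centralizer (Z : Set X) ∧ ∀ x ∈ R₁, x * g * x⁻¹ * g⁻¹ ∈ Z}
  one_mem' := ⟨one_mem _, fun x _ => by simp⟩
  mul_mem' := by
    rintro g h ⟨hg1, hg2⟩ ⟨hh1, hh2⟩
    refine ⟨mul_mem hg1 hh1, fun x hx => ?_⟩
    have e : x * (g * h) * x⁻¹ * (g * h)⁻¹ = (x * g * x⁻¹ * g⁻¹) * (g * (x * h * x⁻¹ * h⁻¹) * g⁻¹) := by
      group
    have h3 : g * (x * h * x⁻¹ * h⁻¹) * g⁻¹ = x * h * x⁻¹ * h⁻¹ := by
      have := mem_centralizer_iff.mp hg1 _ (hh2 x hx)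
      rw [← this]; group
    rw [e, h3]
    exact mul_mem (hg2 x hx) (hh2 x hx)
  inv_mem' := by
    rintro g ⟨hg1, hg2⟩
    refine ⟨inv_mem hg1, fun x hx => ?_⟩
    have e : x * g⁻¹ * x⁻¹ * g⁻¹⁻¹ = g⁻¹ * (x * g * x⁻¹ * g⁻¹)⁻¹ * g := by group
    have h3 : g⁻¹ * (x * g * x⁻¹ * g⁻¹)⁻¹ * g = (x * g * x⁻¹ * g⁻¹)⁻¹ := by
      have := mem_centralizer_iff.mp hg1 _ (inv_mem (hg2 x hx))
      rw [mul_assoc, this]; group
    rw [e, h3]
    exact inv_mem (hg2 x hx)

theorem mem_stabKer {R₁ Z : Subgroup X} {g : X} :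
    g ∈ stabKer R₁ Z ↔ g ∈ centralizer (Z : Set X) ∧ ∀ x ∈ R₁, x * g * x⁻¹ * g⁻¹ ∈ Z := Iff.rfl

/-- `X` of characteristic `p`, `A` an abelian `p`-subgroup normalized by `O_p(X)` with
`C_{O_p(X)}(A) ≤ A`: every `A`-invariant `p'`-subgroup is trivial. -/
theorem eq_bot_of_isCharP_of_normalizes [Finite X] (p : ℕ) [hp : Fact p.Prime]
    (hX : IsCharP p X) (A : Subgroup X) (hAp : IsPGroup p A)
    (hAc : A ≤ centralizer (A : Set X))
    (hRA : pCore p X ≤ normalizer (A : Set X))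
    (hCA : pCore p X ⊓ centralizer (A : Set X) ≤ A)
    (Q : Subgroup X) (hQ : (Nat.card Q).Coprime p) (hAQ : A ≤ normalizer (Q : Set X)) :
    Q = ⊥ := by
  set R := pCore p X with hR
  have hRn : R.Normal := pCore_normal' p
  have hRp : IsPGroup p R := isPGroup_pCore
  have hQR : Q ⊓ R = ⊥ := inf_eq_bot_of_isPGroup_of_coprime Q R hQ hRp
  have hNtop : normalizer (R : Set X) = ⊤ := normalizer_eq_top_iff.mpr hRn
  -- `A ∩ R` centralizes `Q`
  have hZ1Q : A ⊓ R ≤ centralizer (Q : Set X) := by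
    intro x hx
    rw [mem_centralizer_iff]
    intro y hy
    have h1 : x * y * x⁻¹ * y⁻¹ ∈ Q ⊓ R := by
      refine ⟨?_, ?_⟩
      · have : x * y * x⁻¹ ∈ Q := (mem_normalizer_iff.mp (hAQ hx.1) y).mp hy
        exact Q.mul_mem this (Q.inv_mem hy)
      · have h2 : y * x⁻¹ * y⁻¹ ∈ R := hRn.conj_mem _ (R.inv_mem hx.2) y
        have : x * y * x⁻¹ * y⁻¹ = x * (y * x⁻¹ * y⁻¹) := by group
        rw [this]; exact R.mul_mem hx.2 h2
    rw [hQR, mem_bot] at h1
    calc y * x = (x * y * x⁻¹ * y⁻¹)⁻¹ * (x * y) := by group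
      _ = x * y := by rw [h1]; simp
  -- the `P × Q` step
  have stepPQ : ∀ P Q' : Subgroup X, P ≤ A → Q' ≤ Q → P ≤ centralizer (Q' : Set X) →
      R ⊓ centralizer (P : Set X) ≤ centralizer (Q' : Set X) → Q' = ⊥ := by
    intro P Q' hPA hQ'Q hPQ' hC
    have hQ'c : (Nat.card Q').Coprime p :=
      Nat.Coprime.coprime_dvd_left (card_dvd_of_le hQ'Q) hQ
    have h1 : Q' ≤ centralizer (R : Set X) :=
      thompson_PxQ p P Q' R (hAp.to_le hPA) hQ'c hRp hPQ' (by rw [hNtop]; exact le_top)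
        (by rw [hNtop]; exact le_top) hC
    rw [eq_bot_iff, ← hQR]
    exact le_inf hQ'Q (h1.trans hX)
  set A₁ := A ⊓ centralizer (Q : Set X) with hA₁
  set R₁ := R ⊓ centralizer (A₁ : Set X) with hR₁
  set Z₁ := A ⊓ R with hZ₁
  have hZ1A1 : Z₁ ≤ A₁ := le_inf inf_le_left hZ1Q
  have hCAA1 : centralizer (A : Set X) ≤ centralizer (A₁ : Set X) :=
    centralizer_le (by exact_mod_cast (inf_le_left : A₁ ≤ A))
  have hCA1Z : centralizer (A₁ : Set X) ≤ centralizer (Z₁ : Set X) :=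
    centralizer_le (by exact_mod_cast hZ1A1)
  have hZ1R1 : Z₁ ≤ R₁ := le_inf inf_le_right ((inf_le_left.trans hAc).trans hCAA1)
  have hR1Z : R₁ ≤ centralizer (Z₁ : Set X) := inf_le_right.trans hCA1Z
  have hQZ : Q ≤ centralizer (Z₁ : Set X) := le_centralizer_iff.mp hZ1Q
  have hAZ : A ≤ centralizer (Z₁ : Set X) := (hAc.trans hCAA1).trans hCA1Z
  have hQCA1 : Q ≤ centralizer (A₁ : Set X) := le_centralizer_iff.mp inf_le_right
  have hQR1 : Q ≤ normalizer (R₁ : Set X) :=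
    le_normalizer_inf_of_le (by rw [hNtop]; exact le_top) (hQCA1.trans le_normalizer)
  -- `A ≤ stabKer`
  have hAK : A ≤ stabKer R₁ Z₁ := by
    intro y hy
    refine ⟨hAZ hy, fun x hx => ?_⟩
    refine ⟨?_, ?_⟩
    · have : x * y * x⁻¹ ∈ A := (mem_normalizer_iff.mp (hRA hx.1) y).mp hy
      exact A.mul_mem this (A.inv_mem hy)
    · have h2 : y * x⁻¹ * y⁻¹ ∈ R := hRn.conj_mem _ (R.inv_mem hx.1) y
      have : x * y * x⁻¹ * y⁻¹ = x * (y * x⁻¹ * y⁻¹) := by group
      rw [this]; exact R.mul_mem hx.1 h2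
  -- conjugates of elements of `A` under `Q` are in `stabKer`
  have hconjK : ∀ z ∈ Q, ∀ y ∈ A, z * y * z⁻¹ ∈ stabKer R₁ Z₁ := by
    intro z hz y hy
    refine ⟨mul_mem (mul_mem (hQZ hz) (hAZ hy)) (inv_mem (hQZ hz)), fun x hx => ?_⟩
    have hx' : z⁻¹ * x * z ∈ R₁ := by
      have := (mem_normalizer_iff.mp (hQR1 (Q.inv_mem hz)) x).mp hx
      simpa using this
    have hc := (hAK hy).2 _ hx'
    have e : x * (z * y * z⁻¹) * x⁻¹ * (z * y * z⁻¹)⁻¹ =
        z * ((z⁻¹ * x * z) * y * (z⁻¹ * x * z)⁻¹ * y⁻¹) * z⁻¹ := by group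
    have h3 : z * ((z⁻¹ * x * z) * y * (z⁻¹ * x * z)⁻¹ * y⁻¹) * z⁻¹ =
        (z⁻¹ * x * z) * y * (z⁻¹ * x * z)⁻¹ * y⁻¹ := by
      have := mem_centralizer_iff.mp (hQZ hz) _ hc
      rw [← this]; group
    rw [e, h3]
    exact hc
  have hcommK : ⁅Q, A⁆ ≤ stabKer R₁ Z₁ := by
    rw [commutator_le]
    intro z hz y hy
    rw [commutatorElement_def]
    exact mul_mem (hconjK z hz y hy) (inv_mem (hAK hy))
  set Q₂ := ⁅Q, A⁆ with hQ₂
  have hQ2Q : Q₂ ≤ Q := commutator_le_of_le_normalizer Q A hAQ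
  have hQ2c : (Nat.card Q₂).Coprime p :=
    Nat.Coprime.coprime_dvd_left (card_dvd_of_le hQ2Q) hQ
  have hR1p : IsPGroup p R₁ := hRp.to_le inf_le_left
  have hcop2 : (Nat.card Q₂).Coprime (Nat.card R₁) := by
    obtain ⟨m, hm⟩ := IsPGroup.iff_card.mp hR1p
    rw [hm]
    exact Nat.Coprime.pow_right m hQ2c
  have h1 : ⁅R₁, Q₂⁆ ≤ Z₁ := by
    rw [commutator_le]
    intro x hx c hc
    rw [commutatorElement_def]
    exact (hcommK hc).2 x hx
  have h2 : ⁅⁅R₁, Q₂⁆, Q₂⁆ = ⊥ := by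
    rw [commutator_eq_bot_iff_le_centralizer]
    exact h1.trans (le_centralizer_iff.mp (hQ2Q.trans hQZ))
  have hQ2R1 : Q₂ ≤ centralizer (R₁ : Set X) :=
    le_centralizer_of_coprime R₁ Q₂ (hQ2Q.trans hQR1) hcop2 h2
  have hQ2bot : Q₂ = ⊥ := by
    apply stepPQ A₁ Q₂ inf_le_left hQ2Q
    · exact inf_le_right.trans (centralizer_le (by exact_mod_cast hQ2Q))
    · exact le_centralizer_iff.mp hQ2R1
  have hAQc : A ≤ centralizer (Q : Set X) := by
    have : ⁅Q, A⁆ = ⊥ := hQ2bot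
    rw [commutator_eq_bot_iff_le_centralizer] at this
    exact le_centralizer_iff.mp this
  apply stepPQ A Q le_rfl le_rfl hAQc
  calc R ⊓ centralizer (A : Set X) ≤ Z₁ := le_inf hCA inf_le_left
    _ ≤ centralizer (Q : Set X) := hZ1Q

/-- `X` `p`-constrained, `A` an abelian subgroup of a Sylow `p`-subgroup `T` with `A ⊴ T` and
`C_T(A) ≤ A`: every `A`-invariant `p'`-subgroup of `X` lies in `O_{p'}(X)`. -/
theorem le_pPrimeCore_of_sylow_normalizes [Finite X] (p : ℕ) [hp : Fact p.Prime]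
    (hX : Cfsg.IsPConstrained p X) (T : Sylow p X) (A : Subgroup X) (hAT : A ≤ (T : Subgroup X))
    (hAc : A ≤ centralizer (A : Set X))
    (hTA : (T : Subgroup X) ≤ normalizer (A : Set X))
    (hCA : (T : Subgroup X) ⊓ centralizer (A : Set X) ≤ A)
    (Q : Subgroup X) (hQ : (Nat.card Q).Coprime p) (hAQ : A ≤ normalizer (Q : Set X)) :
    Q ≤ Cfsg.pPrimeCore p X := by
  have hpp : p.Prime := hp.out
  have hKn : (Cfsg.pPrimeCore p X).Normal := pPrimeCore_normal' p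
  have hKc : (Nat.card (Cfsg.pPrimeCore p X)).Coprime p := pPrimeCore_coprime p
  have hchar : IsCharP p (X ⧸ Cfsg.pPrimeCore p X) := isPConstrained_iff_isCharP_quotient.mp hX
  set π := QuotientGroup.mk' (Cfsg.pPrimeCore p X) with hπ
  have hπs : Function.Surjective π := QuotientGroup.mk'_surjective _
  have hKT : Cfsg.pPrimeCore p X ⊓ (T : Subgroup X) = ⊥ :=
    inf_eq_bot_of_isPGroup_of_coprime _ _ hKc T.2
  have hAp : IsPGroup p A := T.2.to_le hAT
  -- the image of `T` is a Sylow subgroup, so contains `O_p` of the quotient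
  have hRT : pCore p (X ⧸ Cfsg.pPrimeCore p X) ≤ (T : Subgroup X).map π := by
    have : (pCore p (X ⧸ Cfsg.pPrimeCore p X)).Normal := pCore_normal' p
    have := normal_pgroup_le_sylow (pCore p (X ⧸ Cfsg.pPrimeCore p X)) isPGroup_pCore
      (Sylow.mapSurjective hπs T)
    rwa [Sylow.coe_mapSurjective] at this
  have hbot : Q.map π = ⊥ := by
    apply eq_bot_of_isCharP_of_normalizes p hchar (A.map π) (hAp.map _) ?_ ?_ ?_
      (Q.map π) ?_ ?_
    · -- abelian
      intro abar habar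
      obtain ⟨a, ha, rfl⟩ := mem_map.mp habar
      rw [mem_centralizer_iff]
      intro bbar hbbar
      obtain ⟨b, hb, rfl⟩ := mem_map.mp hbbar
      rw [← map_mul, ← map_mul, mem_centralizer_iff.mp (hAc ha) b hb]
    · -- `O_p` normalizes the image of `A`
      exact hRT.trans ((map_mono hTA).trans (le_normalizer_map _))
    · -- self-centralizing
      intro xbar hxbar
      obtain ⟨hx1, hx2⟩ := mem_inf.mp hxbar
      obtain ⟨t, ht, rfl⟩ := mem_map.mp (hRT hx1)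
      have ht : t ∈ (T : Subgroup X) := ht
      have htc : t ∈ centralizer (A : Set X) := by
        rw [mem_centralizer_iff]
        intro a ha
        have h1 := mem_centralizer_iff.mp hx2 (π a) (mem_map_of_mem _ ha)
        have h2 : t * a * t⁻¹ * a⁻¹ ∈ Cfsg.pPrimeCore p X ⊓ (T : Subgroup X) := by
          rw [mem_inf]
          refine ⟨?_, ?_⟩
          · rw [← QuotientGroup.eq_one_iff]
            have h3 : ((t * a * t⁻¹ * a⁻¹ : X) : X ⧸ Cfsg.pPrimeCore p X)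
                = π t * π a * (π t)⁻¹ * (π a)⁻¹ := by
              simp [hπ]
            rw [h3, ← h1]
            group
          · exact mul_mem (mul_mem (mul_mem ht (hAT ha)) (inv_mem ht)) (inv_mem (hAT ha))
        rw [hKT, mem_bot] at h2
        calc a * t = (t * a * t⁻¹ * a⁻¹)⁻¹ * (t * a) := by group
          _ = t * a := by rw [h2]; simp
      exact mem_map_of_mem _ (hCA ⟨ht, htc⟩)
    · exact Nat.Coprime.coprime_dvd_left (card_map_dvd _ _) hQ
    · exact (map_mono hAQ).trans (le_normalizer_map _)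
  rw [← (QuotientGroup.ker_mk' (Cfsg.pPrimeCore p X)), ← Subgroup.map_eq_bot_iff]
  exact hbot

end KL

end Cfsg.Agent.Helper54
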