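import Mathlib
import Cfsg.Agent.S1282
import Cfsg.Agent.Lib.Helper52.CoprimeSylow
import Cfsg.Agent.Lib.Helper22.Radical
import Cfsg.Agent.Lib.Helper54.KeyLemma
import Cfsg.Agent.S1302
import Cfsg.Prelude.Def_OddOrderLocal

/-!
# A generic Thompson transitivity theorem

`transitivity` : `E` an abelian `p`-subgroup, `A ≤ E` elementary abelian of order `≥ p^3`, and for each
`a ∈ A#` an `E`-invariant `p'`-subgroup `L a` containing every `E`-invariant `q`-subgroup of `C_G(a)`.
If `K ≤ C_G(E)` contains every `p'`-subgroup of `C_G(E)`, then `K` is transitive on the maximal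
`E`-invariant `q`-subgroups of `G`.
-/

set_option autoImplicit false

namespace Cfsg.Agent.Helper54

open Subgroup Cfsg
open Cfsg.Agent.Helper52 (sylCard)
open Cfsg.Agent.Helper22 (conjS conjS_mul conjS_one conjS_mono conjS_inv_conjS conjS_conjS_inv
  le_normalizer_conjS normalizer_inf_le_normalizer_sup)

section GT

variable {G : Type*} [Group G]

theorem le_normalizer_sup_of_le {E H K : Subgroup G} (hH : E ≤ normalizer (H : Set G))
    (hK : E ≤ normalizer (K : Set G)) : E ≤ normalizer ((H ⊔ K : Subgroup G) : Set G) :=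
  fun _ hx => normalizer_inf_le_normalizer_sup H K (mem_inf.2 ⟨hH hx, hK hx⟩)

/-- `|D ⊔ T|` divides `|D| * |T|` when `T` normalizes `D`. -/
theorem card_sup_dvd_of_le_normalizer [Finite G] (D T : Subgroup G)
    (hT : T ≤ normalizer (D : Set G)) : Nat.card ↥(D ⊔ T) ∣ Nat.card D * Nat.card T := by
  have h1 : D.relIndex T = D.relIndex (D ⊔ T) := by
    apply Cfsg.Agent.Helper52.relIndex_eq_of_forall_mul D T (D ⊔ T) le_sup_right
    intro m hm
    have hm' : m ∈ ((D ⊔ T : Subgroup G) : Set G) := hm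
    rw [sup_comm, coe_mul_of_left_le_normalizer_right T D hT] at hm'
    obtain ⟨t, ht, d, hd, rfl⟩ := Set.mem_mul.mp hm'
    exact ⟨t, ht, d, hd, rfl⟩
  have h2 : Nat.card D * D.relIndex (D ⊔ T) = Nat.card ↥(D ⊔ T) :=
    Cfsg.Agent.Helper52.card_mul_relIndex_eq le_sup_left
  rw [← h2, ← h1]
  exact Nat.mul_dvd_mul_left _ (relIndex_dvd_card D T)

theorem card_sup_coprime_of_le_normalizer [Finite G] {p : ℕ} (D T : Subgroup G)
    (hT : T ≤ normalizer (D : Set G)) (hD : (Nat.card D).Coprime p) (hTc : (Nat.card T).Coprime p) :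
    (Nat.card ↥(D ⊔ T)).Coprime p :=
  Nat.Coprime.coprime_dvd_left (card_sup_dvd_of_le_normalizer D T hT) (Nat.Coprime.mul_left hD hTc)

/-- `Q` is maximal among the `E`-invariant `q`-subgroups of `G`. -/
def IsMaxInvQ (E : Subgroup G) (q : ℕ) (Q : Subgroup G) : Prop :=
  IsPGroup q Q ∧ E ≤ normalizer (Q : Set G) ∧
    ∀ R : Subgroup G, IsPGroup q R → E ≤ normalizer (R : Set G) → Q ≤ R → R = Q

theorem IsMaxInvQ.conj {E : Subgroup G} {q : ℕ} {c : G} (hc : c ∈ normalizer (E : Set G))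
    {Q : Subgroup G} (hQ : IsMaxInvQ E q Q) : IsMaxInvQ E q (conjS c Q) := by
  refine ⟨hQ.1.map _, le_normalizer_conjS hc hQ.2.1, fun R hRq hER hle => ?_⟩
  have hc' : c⁻¹ ∈ normalizer (E : Set G) := inv_mem hc
  have h1 : Q ≤ conjS c⁻¹ R := by
    have := conjS_mono c⁻¹ hle
    rwa [conjS_inv_conjS] at this
  have h2 := hQ.2.2 _ (hRq.map _) (le_normalizer_conjS hc' hER) h1
  rw [← h2, conjS_conjS_inv]

theorem exists_isMaxInvQ_ge [Finite G] {E : Subgroup G} {q : ℕ} {R : Subgroup G}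
    (hRq : IsPGroup q R) (hER : E ≤ normalizer (R : Set G)) :
    ∃ Q, IsMaxInvQ E q Q ∧ R ≤ Q := by
  let S : Set (Subgroup G) := {X | IsPGroup q X ∧ E ≤ normalizer (X : Set G) ∧ R ≤ X}
  obtain ⟨Q, hQ⟩ := (Set.toFinite S).exists_maximal ⟨R, hRq, hER, le_rfl⟩
  refine ⟨Q, ⟨hQ.1.1, hQ.1.2.1, fun X hXq hEX hle => ?_⟩, hQ.1.2.2⟩
  exact le_antisymm (hQ.2 ⟨hXq, hEX, hQ.1.2.2.trans hle⟩ hle) hle

/-- **Generic transitivity theorem.** -/
theorem transitivity [Finite G] (p : ℕ) [Fact p.Prime] (E A K : Subgroup G)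
    (hEp : IsPGroup p E) (hEc : E ≤ centralizer (E : Set G))
    (hAE : A ≤ E) (hA : IsElementaryAbelian p A) (hA3 : p ^ 3 ≤ Nat.card A)
    (hKE : K ≤ centralizer (E : Set G))
    (hK : ∀ Y : Subgroup G, Y ≤ centralizer (E : Set G) → (Nat.card Y).Coprime p → Y ≤ K)
    (q : ℕ) [Fact q.Prime] (hqp : q ≠ p)
    (L : G → Subgroup G)
    (hL : ∀ a ∈ A, a ≠ 1 → E ≤ normalizer (L a : Set G) ∧ (Nat.card (L a)).Coprime p ∧
      ∀ U : Subgroup G, IsPGroup q U → E ≤ normalizer (U : Set G) →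
        U ≤ centralizer ({a} : Set G) → U ≤ L a) :
    ∀ Q₁ Q₂ : Subgroup G, IsMaxInvQ E q Q₁ → IsMaxInvQ E q Q₂ → ∃ c ∈ K, conjS c Q₁ = Q₂ := by
  have hpp : p.Prime := Fact.out
  have hqq : q.Prime := Fact.out
  have hKN : K ≤ normalizer (E : Set G) := hKE.trans (centralizer_le_normalizer _)
  have hqcop : ∀ U : Subgroup G, IsPGroup q U → (Nat.card U).Coprime p := by
    intro U hU
    obtain ⟨n, hn⟩ := IsPGroup.iff_card.mp hU
    rw [hn]
    exact Nat.Coprime.pow_left n ((Nat.coprime_primes hqq hpp).mpr hqp)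
  have hEsolv : Group.IsSolvable E := by
    have : Group.IsNilpotent E := hEp.isNilpotent
    infer_instance
  suffices H : ∀ n : ℕ, ∀ Q₁ Q₂ : Subgroup G, IsMaxInvQ E q Q₁ → IsMaxInvQ E q Q₂ →
      Nat.card G - Nat.card (Q₁ ⊓ Q₂ : Subgroup G) = n → ∃ c ∈ K, conjS c Q₁ = Q₂ from
    fun Q₁ Q₂ h₁ h₂ => H _ Q₁ Q₂ h₁ h₂ rfl
  intro n
  induction n using Nat.strong_induction_on with
  | _ n ih =>
  intro Q₁ Q₂ h₁ h₂ hn
  have IH : ∀ X Y : Subgroup G, IsMaxInvQ E q X → IsMaxInvQ E q Y →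
      Nat.card (Q₁ ⊓ Q₂ : Subgroup G) < Nat.card (X ⊓ Y : Subgroup G) →
      ∃ c ∈ K, conjS c X = Y := by
    intro X Y hX hY hlt
    have hle : Nat.card (X ⊓ Y : Subgroup G) ≤ Nat.card G := Subgroup.card_le_card_group _
    exact ih _ (by omega) X Y hX hY rfl
  set D := Q₁ ⊓ Q₂ with hD
  by_cases hD1 : D = Q₁
  · have hle : Q₁ ≤ Q₂ := hD1 ▸ inf_le_right
    have := h₁.2.2 Q₂ h₂.1 h₂.2.1 hle
    exact ⟨1, one_mem _, by rw [conjS_one, this]⟩
  by_cases hD2 : D = Q₂
  · have hle : Q₂ ≤ Q₁ := hD2 ▸ inf_le_left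
    have := h₂.2.2 Q₁ h₁.1 h₁.2.1 hle
    exact ⟨1, one_mem _, by rw [conjS_one, this]⟩
  have hEQ₁ := h₁.2.1
  have hEQ₂ := h₂.2.1
  have hED : E ≤ normalizer (D : Set G) := le_normalizer_inf_of_le hEQ₁ hEQ₂
  obtain ⟨a, haA, ha1, hna₁, hna₂⟩ :=
    Cfsg.Agent.S1282.result p A hA hA3 q hqp Q₁ Q₂ h₁.1 h₂.1 (hAE.trans hEQ₁) (hAE.trans hEQ₂)
      hD1 hD2
  obtain ⟨hELa, hLac, hLa⟩ := hL a haA ha1
  have hEND : E ≤ normalizer ((normalizer (D : Set G) : Subgroup G) : Set G) :=
    hED.trans le_normalizer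
  have hECa : E ≤ centralizer ({a} : Set G) := by
    intro e he
    rw [mem_centralizer_singleton_iff]
    exact (mem_centralizer_iff.mp (hEc he) a (hAE haA)).symm
  have hENCa : E ≤ normalizer ((centralizer ({a} : Set G) : Subgroup G) : Set G) :=
    hECa.trans le_normalizer
  set T := L a ⊓ normalizer (D : Set G) with hT
  have hET : E ≤ normalizer (T : Set G) := le_normalizer_inf_of_le hELa hEND
  have hTc : (Nat.card T).Coprime p :=
    Nat.Coprime.coprime_dvd_left (Subgroup.card_dvd_of_le inf_le_left) hLac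
  have hDq : IsPGroup q D := h₁.1.to_le inf_le_left
  set H := D ⊔ T with hH
  have hEH : E ≤ normalizer (H : Set G) := le_normalizer_sup_of_le hED hET
  have hHc : (Nat.card H).Coprime p :=
    card_sup_coprime_of_le_normalizer D T inf_le_right (hqcop D hDq) hTc
  have hcop : (Nat.card E).Coprime (Nat.card H) := by
    obtain ⟨m, hm⟩ := IsPGroup.iff_card.mp hEp
    rw [hm]
    exact (Nat.Coprime.pow_right m hHc).symm
  have key : ∀ Q : Subgroup G, IsPGroup q Q → E ≤ normalizer (Q : Set G) → D ≤ Q →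
      ¬ (normalizer (D : Set G) ⊓ Q ⊓ centralizer {a} ≤ D) →
      ∃ R : Subgroup G, R ≤ H ∧ Nat.card R = sylCard q H ∧ E ≤ normalizer (R : Set G) ∧
        Nat.card D < Nat.card (Q ⊓ R : Subgroup G) := by
    intro Q hQq hEQ hDQ hnot
    have hU1 : Q ⊓ H ≤ H := inf_le_right
    have hUq : IsPGroup q (Q ⊓ H : Subgroup G) := hQq.to_le inf_le_left
    have hUE : E ≤ normalizer ((Q ⊓ H : Subgroup G) : Set G) := le_normalizer_inf_of_le hEQ hEH
    obtain ⟨R, hRH, hRc, hUR, hER⟩ := Cfsg.Agent.Helper52.exists_invariant_sylow_ge E H hEH hcop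
      (Or.inl hEsolv) q (Q ⊓ H) hU1 hUq hUE
    refine ⟨R, hRH, hRc, hER, ?_⟩
    have hDU : D ≤ Q ⊓ H := le_inf hDQ le_sup_left
    have hNU : normalizer (D : Set G) ⊓ Q ⊓ centralizer {a} ≤ Q ⊓ H := by
      have hU0q : IsPGroup q (normalizer (D : Set G) ⊓ Q ⊓ centralizer {a} : Subgroup G) :=
        hQq.to_le (inf_le_left.trans inf_le_right)
      have hU0E : E ≤ normalizer
          ((normalizer (D : Set G) ⊓ Q ⊓ centralizer {a} : Subgroup G) : Set G) :=
        le_normalizer_inf_of_le (le_normalizer_inf_of_le hEND hEQ) hENCa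
      have hU0L := hLa _ hU0q hU0E inf_le_right
      exact le_inf (inf_le_left.trans inf_le_right)
        ((le_inf hU0L (inf_le_left.trans inf_le_left)).trans le_sup_right)
    have hne : D ≠ Q ⊓ H := fun h => hnot (hNU.trans h.ge)
    have hlt : Nat.card D < Nat.card (Q ⊓ H : Subgroup G) := by
      by_contra hge
      rw [not_lt] at hge
      exact hne (Subgroup.eq_of_le_of_card_ge hDU hge)
    exact lt_of_lt_of_le hlt (Subgroup.card_le_of_le (le_inf inf_le_left hUR))
  obtain ⟨R₁, hR₁H, hR₁c, hER₁, hlt₁⟩ := key Q₁ h₁.1 hEQ₁ inf_le_left hna₁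
  obtain ⟨R₂, hR₂H, hR₂c, hER₂, hlt₂⟩ := key Q₂ h₂.1 hEQ₂ inf_le_right hna₂
  obtain ⟨c, hc, hcR⟩ := Cfsg.Agent.Helper52.exists_centralizer_conj_of_invariant E H hEH hcop
    (Or.inl hEsolv) q R₁ R₂ hR₁H hR₂H hR₁c hR₂c hER₁ hER₂
  have hcI : c ∈ K := by
    have h1 : H ⊓ centralizer (E : Set G) ≤ K :=
      hK _ inf_le_right (Nat.Coprime.coprime_dvd_left (Subgroup.card_dvd_of_le inf_le_left) hHc)
    exact h1 hc
  have hR₁q : IsPGroup q R₁ :=
    IsPGroup.of_card (hR₁c : Nat.card R₁ = q ^ (Nat.card H).factorization q)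
  have hR₂q : IsPGroup q R₂ :=
    IsPGroup.of_card (hR₂c : Nat.card R₂ = q ^ (Nat.card H).factorization q)
  obtain ⟨Q₁', hQ₁', hRQ₁'⟩ := exists_isMaxInvQ_ge hR₁q hER₁
  obtain ⟨Q₂', hQ₂', hRQ₂'⟩ := exists_isMaxInvQ_ge hR₂q hER₂
  obtain ⟨c₁, hc₁, e₁⟩ := IH Q₁ Q₁' h₁ hQ₁'
    (lt_of_lt_of_le hlt₁ (Subgroup.card_le_of_le (inf_le_inf_left _ hRQ₁')))
  have hcQ₁' := hQ₁'.conj (hKN hcI)
  have hR₂le : R₂ ≤ conjS c Q₁' := by rw [hcR]; exact conjS_mono c hRQ₁'
  have hDR₂ : Nat.card D < Nat.card R₂ :=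
    lt_of_lt_of_le hlt₂ (Subgroup.card_le_of_le inf_le_right)
  obtain ⟨c₂, hc₂, e₂⟩ := IH (conjS c Q₁') Q₂' hcQ₁' hQ₂'
    (lt_of_lt_of_le hDR₂ (Subgroup.card_le_of_le (le_inf hR₂le hRQ₂')))
  obtain ⟨c₃, hc₃, e₃⟩ := IH Q₂' Q₂ hQ₂' h₂
    (lt_of_lt_of_le hlt₂
      (Subgroup.card_le_of_le (le_inf (inf_le_right.trans hRQ₂') inf_le_left)))
  refine ⟨c₃ * (c₂ * (c * c₁)), mul_mem hc₃ (mul_mem hc₂ (mul_mem hcI hc₁)), ?_⟩
  rw [conjS_mul, conjS_mul, conjS_mul, e₁, e₂, e₃]

end GT

section Apps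

variable {G : Type*} [Group G]

theorem le_normalizer_of_forall_conj_mem {A U : Subgroup G}
    (h : ∀ b ∈ A, ∀ u ∈ U, b * u * b⁻¹ ∈ U) : A ≤ normalizer (U : Set G) := by
  intro b hb
  rw [mem_normalizer_iff]
  intro u
  refine ⟨h b hb u, fun hu => ?_⟩
  have := h b⁻¹ (A.inv_mem hb) _ hu
  simpa [mul_assoc] using this

/-- `C_G(a)` is `p`-constrained when `N_G(⟨a⟩)` is (`a` a `p`-element). -/
theorem isPConstrained_centralizer_singleton [Finite G] {p : ℕ} [Fact p.Prime] (a : G)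
    (ha : IsPGroup p (zpowers a))
    (hN : Cfsg.IsPConstrained p ↥(normalizer ((zpowers a : Subgroup G) : Set G))) :
    Cfsg.IsPConstrained p ↥(centralizer ({a} : Set G)) := by
  set N := normalizer ((zpowers a : Subgroup G) : Set G) with hNdef
  set C := centralizer ({a} : Set G) with hCdef
  have hpow : ∀ x ∈ C, ∀ y ∈ zpowers a, x * y = y * x := by
    intro x hx y hy
    obtain ⟨k, rfl⟩ := mem_zpowers_iff.mp hy
    have h1 : Commute a x := by
      have := mem_centralizer_singleton_iff.mp hx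
      exact this.symm
    exact ((h1.zpow_left k).eq).symm
  have hCN : C ≤ N := by
    intro x hx
    rw [hNdef, mem_normalizer_iff]
    intro y
    constructor
    · intro hy
      have : x * y * x⁻¹ = y := by rw [hpow x hx y hy]; group
      rwa [this]
    · intro hy
      have h1 := hpow x hx _ hy
      have : y = x * y * x⁻¹ := by
        have h2 : x * (x * y * x⁻¹) = x * y := by rw [h1]; group
        exact (mul_left_cancel h2).symm
      rw [this]; exact hy
  have haN : a ∈ N := le_normalizer (mem_zpowers a)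
  set T' : Subgroup N := (zpowers a).subgroupOf N with hT'
  have hT'p : IsPGroup p T' := ha.comap_subtype
  have h := Cfsg.Agent.Helper54.IsPConstrained.centralizer hN T' hT'p
  have heq : centralizer (T' : Set N) = C.subgroupOf N := by
    ext x
    rw [mem_subgroupOf, mem_centralizer_iff]
    constructor
    · intro hx
      have h1 := hx ⟨a, haN⟩ (by
        show (⟨a, haN⟩ : N) ∈ T'
        rw [hT', mem_subgroupOf]; exact mem_zpowers a)
      have h2 := congrArg Subtype.val h1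
      simp only [Subgroup.coe_mul] at h2
      rw [hCdef, mem_centralizer_singleton_iff]
      exact h2.symm
    · intro hx y hy
      have hy' : (y : G) ∈ zpowers a := by
        have : y ∈ T' := hy
        rwa [hT', mem_subgroupOf] at this
      apply Subtype.ext
      simp only [Subgroup.coe_mul]
      exact (hpow _ hx _ hy').symm
  have e1 : ↥(centralizer (T' : Set N)) ≃* ↥(C.subgroupOf N) := MulEquiv.subgroupCongr heq
  have e2 : ↥(C.subgroupOf N) ≃* ↥C := subgroupOfEquivOfLe hCN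
  exact Cfsg.Agent.Helper54.IsPConstrained.of_mulEquiv (e1.trans e2) h

/-- If `E` is an abelian `p`-subgroup containing every `p`-element of `C_G(E)`, then every `p'`-subgroup of
`C_G(E)` lies in `O_{p'}(C_G(E))`. -/
theorem le_piCoreOf_centralizer [Finite G] (p : ℕ) [hp : Fact p.Prime] (E : Subgroup G)
    (hEp : IsPGroup p E)
    (hEfull : ∀ x ∈ centralizer (E : Set G), IsPGroup p (zpowers x) → x ∈ E)
    (Y : Subgroup G) (hY : Y ≤ centralizer (E : Set G)) (hYc : (Nat.card Y).Coprime p) :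
    Y ≤ Cfsg.piCoreOf (Cfsg.primesNotDvd p) (centralizer (E : Set G)) := by
  have hpp : p.Prime := hp.out
  set C := centralizer (E : Set G) with hC
  set E' : Subgroup C := E.subgroupOf C with hE'
  have hE'p : IsPGroup p E' := hEp.comap_subtype
  obtain ⟨P, hP⟩ := hE'p.exists_le_sylow
  have hPE : (P : Subgroup C) = E' := by
    apply le_antisymm _ hP
    intro x hx
    rw [hE', mem_subgroupOf]
    apply hEfull x.1 x.2
    have hxp : IsPGroup p (zpowers x) := P.2.to_le (zpowers_le.mpr hx)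
    have := hxp.map C.subtype
    rwa [MonoidHom.map_zpowers] at this
  have hcent : centralizer ((P : Subgroup C) : Set C) = ⊤ := by
    rw [eq_top_iff]
    intro x _
    rw [mem_centralizer_iff]
    intro y hy
    have hy' : y ∈ E' := by rw [← hPE]; exact hy
    rw [hE', mem_subgroupOf] at hy'
    apply Subtype.ext
    simp only [Subgroup.coe_mul]
    exact mem_centralizer_iff.mp x.2 y.1 hy'
  have hPN : normalizer ((P : Subgroup C) : Set C) ≤ centralizer ((P : Subgroup C) : Set C) := by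
    rw [hcent]; exact le_top
  set H := (MonoidHom.transferSylow P hPN).ker with hH
  have hcompl : H.IsComplement' (P : Subgroup C) := MonoidHom.ker_transferSylow_isComplement' P hPN
  have hHn : H.Normal := MonoidHom.normal_ker _
  have hHc : (Nat.card H).Coprime p := by
    rw [← hcompl.index_eq_card]
    exact ((Nat.Prime.coprime_iff_not_dvd hpp).mpr P.not_dvd_index).symm
  set Y' : Subgroup C := Y.subgroupOf C with hY'
  have hY'c : (Nat.card Y').Coprime p := by
    rw [Nat.card_congr (subgroupOfEquivOfLe hY).toEquiv]; exact hYc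
  have hsup : (Nat.card ↥(Y' ⊔ H)).Coprime p := card_sup_coprime Y' H hY'c hHc
  have hdvd : Nat.card ↥(Y' ⊔ H) ∣ Nat.card H := by
    have h1 : Nat.card ↥(Y' ⊔ H) ∣ Nat.card H * Nat.card (P : Subgroup C) := by
      rw [hcompl.card_mul_card]; exact card_subgroup_dvd_card _
    obtain ⟨m, hm⟩ := IsPGroup.iff_card.mp P.2
    rw [hm] at h1
    exact Nat.Coprime.dvd_of_dvd_mul_right (Nat.Coprime.pow_right m hsup) h1
  have hYH : Y' ≤ H := by
    have h1 : H = Y' ⊔ H :=
      eq_of_le_of_card_ge le_sup_right (Nat.le_of_dvd Nat.card_pos hdvd)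
    rw [h1]; exact le_sup_left
  have hHcore : H ≤ Cfsg.piCore (Cfsg.primesNotDvd p) ↥C := by
    apply le_sSup
    refine ⟨hHn, fun r hr hrd => ⟨hr, fun hrp => ?_⟩⟩
    have : r = p := (Nat.prime_dvd_prime_iff_eq hr hpp).mp hrp
    subst this
    have h2 : r ∣ Nat.gcd (Nat.card H) r := Nat.dvd_gcd hrd dvd_rfl
    rw [hHc] at h2
    exact hr.one_lt.ne' (Nat.dvd_one.mp h2)
  intro y hy
  exact ⟨⟨y, hY hy⟩, hHcore (hYH (mem_subgroupOf.mpr hy)), rfl⟩

/-- The key lemma inside `C_G(a)`, `a ∈ E`. -/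
theorem le_map_pPrimeCore_centralizer [Finite G] (p : ℕ) [hp : Fact p.Prime] (E : Subgroup G)
    (hEp : IsPGroup p E) (hEc : E ≤ centralizer (E : Set G))
    (hEfull : ∀ x ∈ centralizer (E : Set G), IsPGroup p (zpowers x) → x ∈ E)
    (hcase : p ≠ 2 ∨ ∀ S : Sylow p G, ∀ x ∈ (S : Subgroup G), ∀ y ∈ (S : Subgroup G),
      ∀ z ∈ (S : Subgroup G), (x * y * x⁻¹ * y⁻¹) * z = z * (x * y * x⁻¹ * y⁻¹))
    (a : G) (ha : a ∈ E)
    (hX : Cfsg.IsPConstrained p ↥(centralizer ({a} : Set G)))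
    (U : Subgroup G) (hU : (Nat.card U).Coprime p) (hEU : E ≤ normalizer (U : Set G))
    (hUa : U ≤ centralizer ({a} : Set G)) :
    U ≤ (Cfsg.pPrimeCore p ↥(centralizer ({a} : Set G))).map (centralizer ({a} : Set G)).subtype := by
  have hpp : p.Prime := hp.out
  set C := centralizer ({a} : Set G) with hC
  have hEC : E ≤ C := by
    intro e he
    rw [hC, mem_centralizer_singleton_iff]
    exact (mem_centralizer_iff.mp (hEc he) a ha).symm
  set A' : Subgroup C := E.subgroupOf C with hA'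
  set U' : Subgroup C := U.subgroupOf C with hU'
  have hA'p : IsPGroup p A' := hEp.comap_subtype
  have hU'c : (Nat.card U').Coprime p := by
    rw [Nat.card_congr (subgroupOfEquivOfLe hUa).toEquiv]; exact hU
  have hA'U' : A' ≤ normalizer (U' : Set C) := by
    apply le_normalizer_of_forall_conj_mem
    intro b hb u hu
    rw [hA', mem_subgroupOf] at hb
    rw [hU', mem_subgroupOf] at hu ⊢
    simp only [Subgroup.coe_mul, Subgroup.coe_inv]
    exact (mem_normalizer_iff.mp (hEU hb) _).mp hu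
  have hA'c : A' ≤ centralizer (A' : Set C) := by
    intro x hx
    rw [mem_centralizer_iff]
    intro y hy
    rw [hA', mem_subgroupOf] at hx
    have hy' : (y : G) ∈ E := by
      have : y ∈ A' := hy
      rwa [hA', mem_subgroupOf] at this
    apply Subtype.ext
    simp only [Subgroup.coe_mul]
    exact mem_centralizer_iff.mp (hEc hx) _ hy'
  have hfull' : ∀ x : C, x ∈ centralizer (A' : Set C) → IsPGroup p (zpowers x) → x ∈ A' := by
    intro x hx hxp
    rw [hA', mem_subgroupOf]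
    apply hEfull
    · rw [mem_centralizer_iff]
      intro e he
      have h1 := mem_centralizer_iff.mp hx ⟨e, hEC he⟩ (by
        show (⟨e, hEC he⟩ : C) ∈ A'
        rw [hA', mem_subgroupOf]; exact he)
      have h2 := congrArg Subtype.val h1
      simpa only [Subgroup.coe_mul] using h2
    · have := hxp.map C.subtype
      rwa [MonoidHom.map_zpowers] at this
  have key : U' ≤ Cfsg.pPrimeCore p ↥C := by
    rcases hcase with hp2 | hcl
    · have hcomm : IsMulCommutative ↥A' := by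
        refine ⟨⟨fun x y => ?_⟩⟩
        apply Subtype.ext
        have := mem_centralizer_iff.mp (hA'c x.2) y.1 y.2
        simp only [Subgroup.coe_mul]
        exact this.symm
      apply Cfsg.Agent.S1302.result p hp2 hX A' hcomm hA'p ?_ U' ?_ hA'U'
      · intro x hx hord
        apply hfull' x hx
        apply IsPGroup.of_card (n := 1)
        rw [Nat.card_zpowers, hord, pow_one]
      · exact fun h => (Nat.Prime.coprime_iff_not_dvd hpp).mp hU'c.symm h
    · obtain ⟨T, hT⟩ := hA'p.exists_le_sylow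
      apply le_pPrimeCore_of_sylow_normalizes p hX T A' hT hA'c ?_ ?_ U' hU'c hA'U'
      · -- `T` normalizes `A'`
        obtain ⟨S, hS⟩ := (T.2.map C.subtype).exists_le_sylow
        have hTS : ∀ t : C, t ∈ (T : Subgroup C) → (t : G) ∈ (S : Subgroup G) :=
          fun t ht => hS (mem_map_of_mem _ ht)
        have hES : E ≤ (S : Subgroup G) := by
          intro e he
          have : (⟨e, hEC he⟩ : C) ∈ A' := by rw [hA', mem_subgroupOf]; exact he
          exact hTS _ (hT this)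
        apply le_normalizer_of_forall_conj_mem
        intro t ht e he
        have he' : (e : G) ∈ E := by rwa [hA', mem_subgroupOf] at he
        rw [hA', mem_subgroupOf]
        simp only [Subgroup.coe_mul, Subgroup.coe_inv]
        have htS := hTS t ht
        have heS := hES he'
        set c := (t : G) * (e : G) * (t : G)⁻¹ * (e : G)⁻¹ with hc
        have hcS : c ∈ (S : Subgroup G) :=
          mul_mem (mul_mem (mul_mem htS heS) (inv_mem htS)) (inv_mem heS)
        have hcE : c ∈ E := by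
          apply hEfull
          · rw [mem_centralizer_iff]
            intro z hz
            exact (hcl S _ htS _ heS z (hES hz)).symm
          · exact S.2.to_le (zpowers_le.mpr hcS)
        have : (t : G) * (e : G) * (t : G)⁻¹ = c * (e : G) := by rw [hc]; group
        rw [this]
        exact mul_mem hcE he'
      · intro x hx
        exact hfull' x hx.2 (T.2.to_le (zpowers_le.mpr hx.1))
  intro u hu
  exact ⟨⟨u, hUa hu⟩, key (mem_subgroupOf.mpr hu), rfl⟩

/-- **Transitivity theorem** for an abelian `p`-subgroup `E` of rank `≥ 3` containing every `p`-element of its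
centralizer, when the centralizers `C_G(a)`, `a ∈ A#`, are `p`-constrained (and, if `p = 2`, the Sylow
`p`-subgroups have class at most 2). -/
theorem transitivity_of_isPConstrained [Finite G] (p : ℕ) [hp : Fact p.Prime] (E A K : Subgroup G)
    (hEp : IsPGroup p E) (hEc : E ≤ centralizer (E : Set G))
    (hEfull : ∀ x ∈ centralizer (E : Set G), IsPGroup p (zpowers x) → x ∈ E)
    (hAE : A ≤ E) (hA : IsElementaryAbelian p A) (hA3 : p ^ 3 ≤ Nat.card A)
    (hKE : K ≤ centralizer (E : Set G))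
    (hK : ∀ Y : Subgroup G, Y ≤ centralizer (E : Set G) → (Nat.card Y).Coprime p → Y ≤ K)
    (hcase : p ≠ 2 ∨ ∀ S : Sylow p G, ∀ x ∈ (S : Subgroup G), ∀ y ∈ (S : Subgroup G),
      ∀ z ∈ (S : Subgroup G), (x * y * x⁻¹ * y⁻¹) * z = z * (x * y * x⁻¹ * y⁻¹))
    (hloc : ∀ a ∈ A, a ≠ 1 → Cfsg.IsPConstrained p ↥(centralizer ({a} : Set G)))
    (q : ℕ) [Fact q.Prime] (hqp : q ≠ p) :
    ∀ Q₁ Q₂ : Subgroup G, IsMaxInvQ E q Q₁ → IsMaxInvQ E q Q₂ → ∃ c ∈ K, conjS c Q₁ = Q₂ := by
  have hpp : p.Prime := hp.out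
  have hqq : q.Prime := Fact.out
  apply transitivity p E A K hEp hEc hAE hA hA3 hKE hK q hqp
    (fun a => (Cfsg.pPrimeCore p ↥(centralizer ({a} : Set G))).map (centralizer ({a} : Set G)).subtype)
  intro a haA ha1
  have hEC : E ≤ centralizer ({a} : Set G) := by
    intro e he
    rw [mem_centralizer_singleton_iff]
    exact (mem_centralizer_iff.mp (hEc he) a (hAE haA)).symm
  refine ⟨?_, ?_, ?_⟩
  · apply le_normalizer_of_forall_conj_mem
    intro e he u hu
    obtain ⟨k, hk, rfl⟩ := mem_map.mp hu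
    have hn : (Cfsg.pPrimeCore p ↥(centralizer ({a} : Set G))).Normal := pPrimeCore_normal' p
    refine mem_map.mpr ⟨⟨e, hEC he⟩ * k * ⟨e, hEC he⟩⁻¹, hn.conj_mem k hk _, ?_⟩
    simp
  · rw [card_map_of_injective (subtype_injective _)]
    exact pPrimeCore_coprime p
  · intro U hUq hEU hUa
    have hUc : (Nat.card U).Coprime p := by
      obtain ⟨n, hn⟩ := IsPGroup.iff_card.mp hUq
      rw [hn]
      exact Nat.Coprime.pow_left n ((Nat.coprime_primes hqq hpp).mpr hqp)
    exact le_map_pPrimeCore_centralizer p E hEp hEc hEfull hcase a (hAE haA) (hloc a haA ha1)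
      U hUc hEU hUa

end Apps

end Cfsg.Agent.Helper54
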