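import Mathlib
import Cfsg.Agent.Lib.Helper54.Transitivity

/-!
# Transitivity relative to a family of "local" subgroups (Bender–Glauberman, Lemma 6.1 pattern)

`E` acts; `𝓗` is a family of subgroups (think: proper subgroups containing `E`) containing `N_G(D)` for every
nontrivial `E`-invariant `q`-subgroup `D`, and `L H` is an `E`-invariant subgroup of order coprime to `|E|` containing
every `E`-invariant `q`-subgroup of `H` (think: `O_{π'}(H)`).  Then two maximal `E`-invariant `q`-subgroups meeting a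
member `H ∈ 𝓗` nontrivially are conjugate under `K` (any subgroup of `C_G(E)` containing every subgroup of `C_G(E)` of
order coprime to `|E|`).
-/

set_option autoImplicit false

namespace Cfsg.Agent.Helper54

open Subgroup Cfsg
open Cfsg.Agent.Helper52 (sylCard)
open Cfsg.Agent.Helper22 (conjS conjS_mul conjS_one conjS_mono conjS_inv_conjS conjS_conjS_inv
  le_normalizer_conjS normalizer_inf_le_normalizer_sup)

section TL

variable {G : Type*} [Group G]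

/-- Step A. -/
theorem transitivity_local_step [Finite G] (E K : Subgroup G) (q : ℕ) [Fact q.Prime]
    (hKE : K ≤ centralizer (E : Set G))
    (hK : ∀ Y : Subgroup G, Y ≤ centralizer (E : Set G) → (Nat.card Y).Coprime (Nat.card E) → Y ≤ K)
    (H LH : Subgroup G)
    (hELH : E ≤ normalizer (LH : Set G)) (hcop : (Nat.card E).Coprime (Nat.card LH))
    (hsolv : Group.IsSolvable E ∨ Group.IsSolvable LH)
    (hLH : ∀ U : Subgroup G, IsPGroup q U → E ≤ normalizer (U : Set G) → U ≤ H → U ≤ LH)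
    (hEH : E ≤ normalizer (H : Set G))
    (Q₁ Q₂ : Subgroup G) (h₁ : IsMaxInvQ E q Q₁) (h₂ : IsMaxInvQ E q Q₂) :
    ∃ Q₁' Q₂' : Subgroup G, IsMaxInvQ E q Q₁' ∧ IsMaxInvQ E q Q₂' ∧ (∃ c ∈ K, conjS c Q₁' = Q₂') ∧
      H ⊓ Q₁ ≤ Q₁' ∧ H ⊓ Q₂ ≤ Q₂' := by
  have hKN : K ≤ normalizer (E : Set G) := hKE.trans (centralizer_le_normalizer _)
  have hR : ∀ Q : Subgroup G, IsMaxInvQ E q Q →
      ∃ S : Subgroup G, S ≤ LH ∧ Nat.card S = sylCard q LH ∧ H ⊓ Q ≤ S ∧ E ≤ normalizer (S : Set G) := by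
    intro Q hQ
    have hRq : IsPGroup q (H ⊓ Q : Subgroup G) := hQ.1.to_le inf_le_right
    have hRE : E ≤ normalizer ((H ⊓ Q : Subgroup G) : Set G) := le_normalizer_inf_of_le hEH hQ.2.1
    have hRL : H ⊓ Q ≤ LH := hLH _ hRq hRE inf_le_left
    exact Cfsg.Agent.Helper52.exists_invariant_sylow_ge E LH hELH hcop hsolv q (H ⊓ Q) hRL hRq hRE
  obtain ⟨S₁, hS₁L, hS₁c, hRS₁, hES₁⟩ := hR Q₁ h₁
  obtain ⟨S₂, hS₂L, hS₂c, hRS₂, hES₂⟩ := hR Q₂ h₂
  obtain ⟨c, hc, hcS⟩ := Cfsg.Agent.Helper52.exists_centralizer_conj_of_invariant E LH hELH hcop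
    hsolv q S₁ S₂ hS₁L hS₂L hS₁c hS₂c hES₁ hES₂
  have hcK : c ∈ K := by
    have h1 : LH ⊓ centralizer (E : Set G) ≤ K :=
      hK _ inf_le_right
        (Nat.Coprime.coprime_dvd_left (Subgroup.card_dvd_of_le inf_le_left) hcop.symm)
    exact h1 hc
  have hS₁q : IsPGroup q S₁ :=
    IsPGroup.of_card (hS₁c : Nat.card S₁ = q ^ (Nat.card LH).factorization q)
  obtain ⟨Q₁', hQ₁', hSQ₁'⟩ := exists_isMaxInvQ_ge hS₁q hES₁
  refine ⟨Q₁', conjS c Q₁', hQ₁', hQ₁'.conj (hKN hcK), ⟨c, hcK, rfl⟩, hRS₁.trans hSQ₁', ?_⟩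
  calc H ⊓ Q₂ ≤ S₂ := hRS₂
    _ = conjS c S₁ := hcS
    _ ≤ conjS c Q₁' := conjS_mono c hSQ₁'

/-- **Transitivity relative to a family of local subgroups.** -/
theorem transitivity_local [Finite G] (E K : Subgroup G) (q : ℕ) [Fact q.Prime]
    (hKE : K ≤ centralizer (E : Set G))
    (hK : ∀ Y : Subgroup G, Y ≤ centralizer (E : Set G) → (Nat.card Y).Coprime (Nat.card E) → Y ≤ K)
    (𝓗 : Set (Subgroup G))
    (h𝓗E : ∀ H ∈ 𝓗, E ≤ normalizer (H : Set G))
    (hN : ∀ D : Subgroup G, IsPGroup q D → D ≠ ⊥ → E ≤ normalizer (D : Set G) →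
      normalizer (D : Set G) ∈ 𝓗)
    (L : Subgroup G → Subgroup G)
    (hL : ∀ H ∈ 𝓗, E ≤ normalizer (L H : Set G) ∧ (Nat.card E).Coprime (Nat.card (L H)) ∧
      (Group.IsSolvable E ∨ Group.IsSolvable (L H)) ∧
      ∀ U : Subgroup G, IsPGroup q U → E ≤ normalizer (U : Set G) → U ≤ H → U ≤ L H) :
    ∀ H ∈ 𝓗, ∀ Q₁ Q₂ : Subgroup G, IsMaxInvQ E q Q₁ → IsMaxInvQ E q Q₂ →
      H ⊓ Q₁ ≠ ⊥ → H ⊓ Q₂ ≠ ⊥ → ∃ c ∈ K, conjS c Q₁ = Q₂ := by
  have hqq : q.Prime := Fact.out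
  have stepA : ∀ H ∈ 𝓗, ∀ Q₁ Q₂ : Subgroup G, IsMaxInvQ E q Q₁ → IsMaxInvQ E q Q₂ →
      ∃ Q₁' Q₂' : Subgroup G, IsMaxInvQ E q Q₁' ∧ IsMaxInvQ E q Q₂' ∧ (∃ c ∈ K, conjS c Q₁' = Q₂') ∧
        H ⊓ Q₁ ≤ Q₁' ∧ H ⊓ Q₂ ≤ Q₂' := by
    intro H hH Q₁ Q₂ h₁ h₂
    obtain ⟨h1, h2, h3, h4⟩ := hL H hH
    exact transitivity_local_step E K q hKE hK H (L H) h1 h2 h3 h4 (h𝓗E H hH) Q₁ Q₂ h₁ h₂
  -- (*) : members with nontrivial intersection are conjugate
  have star : ∀ n : ℕ, ∀ Q Q' : Subgroup G, IsMaxInvQ E q Q → IsMaxInvQ E q Q' →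
      Q ⊓ Q' ≠ ⊥ → Nat.card G - Nat.card (Q ⊓ Q' : Subgroup G) = n → ∃ c ∈ K, conjS c Q = Q' := by
    intro n
    induction n using Nat.strong_induction_on with
    | _ n ih =>
    intro Q Q' hQ hQ' hne hn
    have IH : ∀ X Y : Subgroup G, IsMaxInvQ E q X → IsMaxInvQ E q Y →
        Nat.card (Q ⊓ Q' : Subgroup G) < Nat.card (X ⊓ Y : Subgroup G) →
        ∃ c ∈ K, conjS c X = Y := by
      intro X Y hX hY hlt
      have hle : Nat.card (X ⊓ Y : Subgroup G) ≤ Nat.card G := Subgroup.card_le_card_group _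
      have hXY : X ⊓ Y ≠ ⊥ := by
        intro h
        rw [h, Subgroup.card_bot] at hlt
        have : 0 < Nat.card (Q ⊓ Q' : Subgroup G) := Nat.card_pos
        omega
      exact ih _ (by omega) X Y hX hY hXY rfl
    set D := Q ⊓ Q' with hD
    by_cases hD1 : D = Q
    · have hle : Q ≤ Q' := hD1 ▸ inf_le_right
      have := hQ.2.2 Q' hQ'.1 hQ'.2.1 hle
      exact ⟨1, one_mem _, by rw [conjS_one, this]⟩
    by_cases hD2 : D = Q'
    · have hle : Q' ≤ Q := hD2 ▸ inf_le_left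
      have := hQ'.2.2 Q hQ.1 hQ.2.1 hle
      exact ⟨1, one_mem _, by rw [conjS_one, this]⟩
    have hDq : IsPGroup q D := hQ.1.to_le inf_le_left
    have hED : E ≤ normalizer (D : Set G) := le_normalizer_inf_of_le hQ.2.1 hQ'.2.1
    have hNH := hN D hDq hne hED
    -- normalizers grow
    have grow : ∀ P : Subgroup G, IsPGroup q P → D ≤ P → D ≠ P →
        Nat.card D < Nat.card (normalizer (D : Set G) ⊓ P : Subgroup G) := by
      intro P hP hDP hne'
      have hlt : D < P := lt_of_le_of_ne hDP hne'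
      have h1 : (D.subgroupOf P) < ⊤ := by
        rw [lt_top_iff_ne_top]
        intro h
        rw [subgroupOf_eq_top] at h
        exact hne' (le_antisymm hDP h)
      have hPfin : Finite P := inferInstance
      have hnil : Group.IsNilpotent P := hP.isNilpotent
      have h2 := Group.normalizerCondition_of_isNilpotent (G := P) (D.subgroupOf P) h1
      -- `D.subgroupOf P < normalizer (D.subgroupOf P)` inside `P`
      have h3 : Nat.card (D.subgroupOf P) < Nat.card (normalizer ((D.subgroupOf P : Subgroup P) : Set P)) := by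
        by_contra hge
        rw [not_lt] at hge
        exact (ne_of_lt h2) (Subgroup.eq_of_le_of_card_ge le_normalizer hge)
      have h4 : Nat.card (D.subgroupOf P) = Nat.card D :=
        Nat.card_congr (subgroupOfEquivOfLe hDP).toEquiv
      have h5 : Nat.card (normalizer ((D.subgroupOf P : Subgroup P) : Set P)) ≤
          Nat.card (normalizer (D : Set G) ⊓ P : Subgroup G) := by
        have hmap : (normalizer ((D.subgroupOf P : Subgroup P) : Set P)).map P.subtype ≤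
            normalizer (D : Set G) ⊓ P := by
          rintro _ ⟨x, hx, rfl⟩
          refine mem_inf.mpr ⟨?_, x.2⟩
          have := Subgroup.subgroupOf_normalizer_eq hDP
          rw [← this] at hx
          exact mem_subgroupOf.mp hx
        calc Nat.card (normalizer ((D.subgroupOf P : Subgroup P) : Set P))
            = Nat.card ((normalizer ((D.subgroupOf P : Subgroup P) : Set P)).map P.subtype) :=
              (card_map_of_injective (subtype_injective _)).symm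
          _ ≤ _ := Subgroup.card_le_of_le hmap
      omega
    have hg1 := grow Q hQ.1 inf_le_left hD1
    have hg2 := grow Q' hQ'.1 inf_le_right hD2
    obtain ⟨Q₁', Q₂', hQ₁', hQ₂', ⟨c, hc, hcQ⟩, hle₁, hle₂⟩ :=
      stepA _ hNH Q Q' hQ hQ'
    obtain ⟨c₁, hc₁, e₁⟩ := IH Q Q₁' hQ hQ₁'
      (lt_of_lt_of_le hg1 (Subgroup.card_le_of_le (le_inf inf_le_right hle₁)))
    obtain ⟨c₃, hc₃, e₃⟩ := IH Q₂' Q' hQ₂' hQ'
      (lt_of_lt_of_le hg2 (Subgroup.card_le_of_le (le_inf hle₂ inf_le_right)))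
    refine ⟨c₃ * (c * c₁), mul_mem hc₃ (mul_mem hc hc₁), ?_⟩
    rw [conjS_mul, conjS_mul, e₁, hcQ, e₃]
  intro H hH Q₁ Q₂ h₁ h₂ hne₁ hne₂
  obtain ⟨Q₁', Q₂', hQ₁', hQ₂', ⟨c, hc, hcQ⟩, hle₁, hle₂⟩ := stepA H hH Q₁ Q₂ h₁ h₂
  have hn₁ : Q₁ ⊓ Q₁' ≠ ⊥ := by
    intro h
    apply hne₁
    rw [eq_bot_iff, ← h]
    exact le_inf inf_le_right hle₁
  have hn₂ : Q₂' ⊓ Q₂ ≠ ⊥ := by
    intro h
    apply hne₂
    rw [eq_bot_iff, ← h]
    exact le_inf hle₂ inf_le_right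
  obtain ⟨c₁, hc₁, e₁⟩ := star _ Q₁ Q₁' h₁ hQ₁' hn₁ rfl
  obtain ⟨c₃, hc₃, e₃⟩ := star _ Q₂' Q₂ hQ₂' h₂ hn₂ rfl
  refine ⟨c₃ * (c * c₁), mul_mem hc₃ (mul_mem hc hc₁), ?_⟩
  rw [conjS_mul, conjS_mul, e₁, hcQ, e₃]

end TL

end Cfsg.Agent.Helper54
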