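import Mathlib
import Cfsg.Prelude.Def_OddOrder
import Cfsg.Prelude.Def_OddOrderLocal
import Cfsg.Agent.Lib.Helper54.TransitivityLocal
import Cfsg.Agent.Lib.Helper62.PiCore

/-!
# Bender–Glauberman §6: consequences of the transitivity hypothesis

* `bg_conj_of_meet` (BG Lemma 6.1): two maximal `A`-invariant `q`-subgroups meeting a proper subgroup `H ≥ A`
  nontrivially are conjugate under `K = O_{π(A)'}(C_G(A))`.
-/

set_option autoImplicit false

namespace Cfsg.Agent.Helper54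

open Subgroup Cfsg
open Cfsg.Agent.Helper22 (conjS conjS_mul conjS_one conjS_mono conjS_inv_conjS conjS_conjS_inv)
open Cfsg.Agent.Helper62 (IsPi isPi_piCore le_piCore)

section BG

variable {G : Type*} [Group G]

theorem normalizer_ne_top_of_isSimpleGroup [IsSimpleGroup G] (D : Subgroup G) (h0 : D ≠ ⊥) (h1 : D ≠ ⊤) :
    normalizer (D : Set G) ≠ ⊤ := by
  intro h
  have hn : D.Normal := normalizer_eq_top_iff.mp h
  rcases hn.eq_bot_or_eq_top with h | h
  · exact h0 h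
  · exact h1 h

theorem centralizer_singleton_ne_top [IsSimpleGroup G] (hG : ¬ IsMulCommutative G) (a : G) (ha : a ≠ 1) :
    centralizer ({a} : Set G) ≠ ⊤ := by
  intro h
  have hac : a ∈ center G := by
    rw [mem_center_iff]
    intro g
    have hg : g ∈ centralizer ({a} : Set G) := by rw [h]; exact mem_top g
    exact (mem_centralizer_singleton_iff.mp hg)
  rcases (inferInstance : (center G).Normal).eq_bot_or_eq_top with h' | h'
  · rw [h', mem_bot] at hac
    exact ha hac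
  · apply hG
    refine ⟨⟨fun x y => ?_⟩⟩
    have hy : y ∈ center G := by rw [h']; exact mem_top y
    exact (mem_center_iff.mp hy x)

/-- members of `invSubgroups` have order coprime to `|A|` -/
theorem coprime_of_isPi_primesNotDvd [Finite G] (A Y : Subgroup G)
    (hY : ∀ r : ℕ, r.Prime → r ∣ Nat.card Y → r ∈ Cfsg.primesNotDvd (Nat.card A)) :
    (Nat.card Y).Coprime (Nat.card A) := by
  apply Nat.Coprime.symm
  rw [Nat.coprime_comm]
  apply Nat.coprime_of_dvd
  intro r hr hrY hrA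
  exact (hY r hr hrY).2 hrA

theorem isPi_primesNotDvd_of_coprime (A Y : Subgroup G) (h : (Nat.card Y).Coprime (Nat.card A)) :
    ∀ r : ℕ, r.Prime → r ∣ Nat.card Y → r ∈ Cfsg.primesNotDvd (Nat.card A) := by
  intro r hr hrY
  refine ⟨hr, fun hrA => ?_⟩
  have : r ∣ Nat.gcd (Nat.card Y) (Nat.card A) := Nat.dvd_gcd hrY hrA
  rw [h] at this
  exact hr.one_lt.ne' (Nat.dvd_one.mp this)

/-- `piCoreOf π H` is normalized by `H`. -/
theorem le_normalizer_piCoreOf (π : Set ℕ) (H : Subgroup G) :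
    H ≤ normalizer ((Cfsg.piCoreOf π H : Subgroup G) : Set G) := by
  apply le_normalizer_of_forall_conj_mem
  intro h hh u hu
  obtain ⟨k, hk, rfl⟩ := mem_map.mp hu
  have hn : (Cfsg.piCore π ↥H).Normal := Cfsg.piCore_normal π ↥H
  refine mem_map.mpr ⟨⟨h, hh⟩ * k * ⟨h, hh⟩⁻¹, hn.conj_mem k hk _, ?_⟩
  simp

theorem isPi_piCoreOf [Finite G] (π : Set ℕ) (H : Subgroup G) :
    ∀ r : ℕ, r.Prime → r ∣ Nat.card (Cfsg.piCoreOf π H) → r ∈ π :=
  Cfsg.Agent.Helper62.isPi_map_subtype π H (isPi_piCore π)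

theorem piCoreOf_le (π : Set ℕ) (H : Subgroup G) : Cfsg.piCoreOf π H ≤ H := map_subtype_le _

/-- a subgroup `O ≤ C` normalized by `C`, all of whose prime divisors lie in `π`, lies in `piCoreOf π C` -/
theorem le_piCoreOf_of_normalized (π : Set ℕ) (C O : Subgroup G) (hOC : O ≤ C)
    (hCO : C ≤ normalizer (O : Set G)) (hO : ∀ r : ℕ, r.Prime → r ∣ Nat.card O → r ∈ π) :
    O ≤ Cfsg.piCoreOf π C := by
  have hn : (O.subgroupOf C).Normal := Subgroup.normal_subgroupOf_of_le_normalizer hCO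
  have hpi : IsPi π (O.subgroupOf C) := Cfsg.Agent.Helper62.isPi_subgroupOf π hOC hO
  have h1 : O.subgroupOf C ≤ Cfsg.piCore π ↥C := le_piCore π hn hpi
  intro x hx
  exact mem_map.mpr ⟨⟨x, hOC hx⟩, h1 (mem_subgroupOf.mpr hx), rfl⟩

variable [Finite G]

omit [Finite G] in
/-- every member of `invSubgroups X A π'` lies in `O_{π'}(X)`, under the transitivity hypothesis -/
theorem le_piCoreOf_of_transitivityHypothesis (A : Subgroup G) (hA : Cfsg.TransitivityHypothesis A)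
    (X : Subgroup G) (hX : X ≠ ⊤) (hAX : A ≤ X) (Y : Subgroup G) (hYX : Y ≤ X)
    (hYc : (Nat.card Y).Coprime (Nat.card A)) (hAY : A ≤ normalizer (Y : Set G)) :
    Y ≤ Cfsg.piCoreOf (Cfsg.primesNotDvd (Nat.card A)) X := by
  rw [← hA.2.2 X hX hAX]
  exact le_sSup ⟨hYX, isPi_primesNotDvd_of_coprime A Y hYc, hAY⟩

/-- subgroups of `C_G(A)` of order coprime to `|A|` lie in `K = O_{π(A)'}(C_G(A))` -/
theorem le_piCoreOf_centralizer_of_transitivityHypothesis [IsSimpleGroup G] (A : Subgroup G)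
    (hA : Cfsg.TransitivityHypothesis A) (Y : Subgroup G) (hY : Y ≤ centralizer (A : Set G))
    (hYc : (Nat.card Y).Coprime (Nat.card A)) :
    Y ≤ Cfsg.piCoreOf (Cfsg.primesNotDvd (Nat.card A)) (centralizer (A : Set G)) := by
  set π' := Cfsg.primesNotDvd (Nat.card A) with hπ'
  set C := centralizer (A : Set G) with hC
  set X := A ⊔ C with hX
  have hXN : X ≤ normalizer (A : Set G) := sup_le le_normalizer (centralizer_le_normalizer _)
  have hXtop : X ≠ ⊤ := by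
    intro h
    apply normalizer_ne_top_of_isSimpleGroup A hA.1 hA.2.1
    rw [eq_top_iff, ← h]; exact hXN
  have hAY : A ≤ normalizer (Y : Set G) := by
    have h1 : A ≤ centralizer (Y : Set G) := le_centralizer_iff.mp hY
    exact h1.trans (centralizer_le_normalizer _)
  have hYO := le_piCoreOf_of_transitivityHypothesis A hA X hXtop le_sup_left Y
    (hY.trans le_sup_right) hYc hAY
  set O := Cfsg.piCoreOf π' X with hO
  have hOX : O ≤ X := piCoreOf_le π' X
  have hXO : X ≤ normalizer (O : Set G) := le_normalizer_piCoreOf π' X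
  have hOpi := isPi_piCoreOf π' X
  have hOc : (Nat.card O).Coprime (Nat.card A) := coprime_of_isPi_primesNotDvd A O hOpi
  -- `O` centralizes `A`
  have hOC : O ≤ C := by
    have hdisj : O ⊓ A = ⊥ := (Subgroup.disjoint_of_coprime_natCard hOc).eq_bot
    intro x hx
    rw [hC, mem_centralizer_iff]
    intro a ha
    have h1 : x * a * x⁻¹ * a⁻¹ ∈ O ⊓ A := by
      rw [mem_inf]
      refine ⟨?_, ?_⟩
      · have h2 : a * x⁻¹ * a⁻¹ ∈ O :=
          (mem_normalizer_iff.mp (hXO (le_sup_left (b := C) ha)) x⁻¹).mp (O.inv_mem hx)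
        have : x * a * x⁻¹ * a⁻¹ = x * (a * x⁻¹ * a⁻¹) := by group
        rw [this]; exact O.mul_mem hx h2
      · have h2 : x * a * x⁻¹ ∈ A := (mem_normalizer_iff.mp (hXN (hOX hx)) a).mp ha
        exact A.mul_mem h2 (A.inv_mem ha)
    rw [hdisj, mem_bot] at h1
    calc a * x = (x * a * x⁻¹ * a⁻¹)⁻¹ * (x * a) := by group
      _ = x * a := by rw [h1]; simp
  have hOK : O ≤ Cfsg.piCoreOf π' C :=
    le_piCoreOf_of_normalized π' C O hOC ((le_sup_right : C ≤ X).trans hXO) hOpi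
  exact hYO.trans hOK

/-- conversion between the statement's `maxInvSubgroups ⊤ A {q}` and `IsMaxInvQ` -/
theorem isMaxInvQ_of_mem_maxInvSubgroups (A : Subgroup G) (q : ℕ) [hq : Fact q.Prime] (Q : Subgroup G)
    (hQ : Q ∈ Cfsg.maxInvSubgroups ⊤ A {q}) : IsMaxInvQ A q Q := by
  obtain ⟨⟨_, hQq, hEQ⟩, hmax⟩ := hQ
  have h1 : Nat.card Q = q ^ (Nat.card Q).primeFactorsList.length :=
    Nat.eq_prime_pow_of_unique_prime_dvd Nat.card_pos.ne' (fun {d} hd hdvd => hQq d hd hdvd)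
  refine ⟨IsPGroup.of_card h1, hEQ, fun R hRq hER hle => ?_⟩
  refine hmax R ⟨le_top, fun r hr hrd => ?_, hER⟩ hle
  obtain ⟨n, hn⟩ := IsPGroup.iff_card.mp hRq
  rw [hn] at hrd
  exact (Nat.prime_dvd_prime_iff_eq hr hq.out).mp (hr.dvd_of_dvd_pow hrd)

/-- **BG Lemma 6.1.** -/
theorem bg_conj_of_meet (hG : Cfsg.IsMinSimpleOddOrder G) (A : Subgroup G)
    (hA : Cfsg.TransitivityHypothesis A) (q : ℕ) [hq : Fact q.Prime] (hqA : ¬ q ∣ Nat.card A)
    (H : Subgroup G) (hH : H ≠ ⊤) (hAH : A ≤ H) (Q₁ Q₂ : Subgroup G)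
    (h₁ : IsMaxInvQ A q Q₁) (h₂ : IsMaxInvQ A q Q₂) (hH₁ : H ⊓ Q₁ ≠ ⊥) (hH₂ : H ⊓ Q₂ ≠ ⊥) :
    ∃ c ∈ Cfsg.piCoreOf (Cfsg.primesNotDvd (Nat.card A)) (centralizer (A : Set G)),
      conjS c Q₁ = Q₂ := by
  obtain ⟨_, hsimple, hnc, hsolv⟩ := hG
  have := hsimple
  set π' := Cfsg.primesNotDvd (Nat.card A) with hπ'
  have hAsolv : Group.IsSolvable A := hsolv A hA.2.1
  have hqcop : ∀ U : Subgroup G, IsPGroup q U → (Nat.card U).Coprime (Nat.card A) := by
    intro U hU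
    obtain ⟨n, hn⟩ := IsPGroup.iff_card.mp hU
    rw [hn]
    exact Nat.Coprime.pow_left n ((Nat.Prime.coprime_iff_not_dvd hq.out).mpr hqA)
  apply transitivity_local A (Cfsg.piCoreOf π' (centralizer (A : Set G))) q (piCoreOf_le _ _)
    (fun Y hY hYc => le_piCoreOf_centralizer_of_transitivityHypothesis A hA Y hY hYc)
    {H : Subgroup G | H ≠ ⊤ ∧ A ≤ H}
    (fun H hH => hH.2.trans le_normalizer)
    ?_ (fun H => Cfsg.piCoreOf π' H) ?_ H ⟨hH, hAH⟩ Q₁ Q₂ h₁ h₂ hH₁ hH₂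
  · intro D hDq hD0 hAD
    refine ⟨normalizer_ne_top_of_isSimpleGroup D hD0 ?_, hAD⟩
    rintro rfl
    -- `A` would be a nontrivial `q`-group
    have hAq : IsPGroup q A := hDq.to_le le_top
    obtain ⟨n, hn⟩ := IsPGroup.iff_card.mp hAq
    have hn0 : n ≠ 0 := by
      rintro rfl
      rw [pow_zero] at hn
      exact hA.1 (Subgroup.card_eq_one.mp hn)
    exact hqA (hn ▸ dvd_pow_self q hn0)
  · intro H hH
    refine ⟨hH.2.trans (le_normalizer_piCoreOf π' H), ?_, Or.inl hAsolv, ?_⟩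
    · exact (coprime_of_isPi_primesNotDvd A _ (isPi_piCoreOf π' H)).symm
    · intro U hUq hAU hUH
      exact le_piCoreOf_of_transitivityHypothesis A hA H hH.1 hH.2 U hUH (hqcop U hUq) hAU

/-- rank at least `k + 1` gives an elementary abelian subgroup of order at least `p ^ (k + 1)` -/
theorem exists_elemAb_of_not_rankLE (Z : Subgroup G) (k : ℕ) (h : ¬ Cfsg.RankLE k ↥Z) :
    ∃ p : ℕ, p.Prime ∧ ∃ B : Subgroup G, B ≤ Z ∧ Cfsg.IsElementaryAbelian p B ∧
      p ^ (k + 1) ≤ Nat.card B := by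
  unfold Cfsg.RankLE Cfsg.PRankLE at h
  push Not at h
  obtain ⟨p, hp, B₀, hB₀c, hB₀e, hB₀card⟩ := h
  refine ⟨p, hp, B₀.map Z.subtype, map_subtype_le _, ⟨⟨⟨fun x y => ?_⟩⟩, fun a ha => ?_⟩, ?_⟩
  · obtain ⟨x₀, hx₀, hx⟩ := mem_map.mp x.2
    obtain ⟨y₀, hy₀, hy⟩ := mem_map.mp y.2
    apply Subtype.ext
    have h1 := hB₀c.is_comm.comm ⟨x₀, hx₀⟩ ⟨y₀, hy₀⟩
    have h2 := congrArg (fun t : ↥B₀ => ((t : ↥Z) : G)) h1
    simp only [Subgroup.coe_mul] at h2 ⊢
    rw [← hx, ← hy]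
    exact h2
  · obtain ⟨a₀, ha₀, rfl⟩ := mem_map.mp ha
    rw [← map_pow, hB₀e a₀ ha₀, map_one]
  · rw [card_map_of_injective (subtype_injective _)]
    have : Fact p.Prime := ⟨hp⟩
    have hB₀p : IsPGroup p B₀ := by
      intro g
      refine ⟨1, ?_⟩
      rw [pow_one]
      apply Subtype.ext
      have := hB₀e g.1 g.2
      simpa using this
    obtain ⟨j, hj⟩ := IsPGroup.iff_card.mp hB₀p
    rw [hj] at hB₀card ⊢
    have : k < j := (Nat.pow_lt_pow_iff_right hp.one_lt).mp hB₀card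
    exact Nat.pow_le_pow_right hp.pos this

/-- BG Lemma 6.1 with `H = C_G(a)`, `a ∈ Z(A)#`. -/
theorem bg_conj_of_centralizer_meet (hG : Cfsg.IsMinSimpleOddOrder G) (A : Subgroup G)
    (hA : Cfsg.TransitivityHypothesis A) (q : ℕ) [hq : Fact q.Prime] (hqA : ¬ q ∣ Nat.card A)
    (a : G) (haZ : a ∈ A ⊓ centralizer (A : Set G)) (ha1 : a ≠ 1) (Q₁ Q₂ : Subgroup G)
    (h₁ : IsMaxInvQ A q Q₁) (h₂ : IsMaxInvQ A q Q₂)
    (hH₁ : centralizer ({a} : Set G) ⊓ Q₁ ≠ ⊥) (hH₂ : centralizer ({a} : Set G) ⊓ Q₂ ≠ ⊥) :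
    ∃ c ∈ Cfsg.piCoreOf (Cfsg.primesNotDvd (Nat.card A)) (centralizer (A : Set G)),
      conjS c Q₁ = Q₂ := by
  have hsimple : IsSimpleGroup G := hG.2.1
  have hAC : A ≤ centralizer ({a} : Set G) := by
    intro x hx
    rw [mem_centralizer_singleton_iff]
    exact (mem_centralizer_iff.mp haZ.2 x hx)
  exact bg_conj_of_meet hG A hA q hqA _ (centralizer_singleton_ne_top hG.2.2.1 a ha1) hAC Q₁ Q₂ h₁ h₂
    hH₁ hH₂

/-- The key lemma (`p` odd, `S1302`) inside a `p`-constrained subgroup `X ≥ A`. -/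
theorem le_map_pPrimeCore_of_le (p : ℕ) [hp : Fact p.Prime] (hp2 : p ≠ 2) (A X : Subgroup G)
    (hAX : A ≤ X) (hAp : IsPGroup p A) (hAc : A ≤ centralizer (A : Set G))
    (hΩ : ∀ x ∈ centralizer (A : Set G), orderOf x = p → x ∈ A)
    (hX : Cfsg.IsPConstrained p ↥X) (Y : Subgroup G) (hYX : Y ≤ X) (hYc : (Nat.card Y).Coprime p)
    (hAY : A ≤ normalizer (Y : Set G)) :
    Y ≤ (Cfsg.pPrimeCore p ↥X).map X.subtype := by
  have hpp : p.Prime := hp.out
  set A' : Subgroup X := A.subgroupOf X with hA'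
  set Y' : Subgroup X := Y.subgroupOf X with hY'
  have hA'p : IsPGroup p A' := hAp.comap_subtype
  have hY'c : (Nat.card Y').Coprime p := by
    rw [Nat.card_congr (subgroupOfEquivOfLe hYX).toEquiv]; exact hYc
  have hA'Y' : A' ≤ normalizer (Y' : Set X) := by
    apply le_normalizer_of_forall_conj_mem
    intro b hb u hu
    rw [hA', mem_subgroupOf] at hb
    rw [hY', mem_subgroupOf] at hu ⊢
    simp only [Subgroup.coe_mul, Subgroup.coe_inv]
    exact (mem_normalizer_iff.mp (hAY hb) _).mp hu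
  have hcomm : IsMulCommutative ↥A' := by
    refine ⟨⟨fun x y => ?_⟩⟩
    apply Subtype.ext
    apply Subtype.ext
    have hx : ((x : X) : G) ∈ A := mem_subgroupOf.mp x.2
    have hy : ((y : X) : G) ∈ A := mem_subgroupOf.mp y.2
    have := mem_centralizer_iff.mp (hAc hx) _ hy
    simp only [Subgroup.coe_mul]
    exact this.symm
  have key : Y' ≤ Cfsg.pPrimeCore p ↥X := by
    apply Cfsg.Agent.S1302.result p hp2 hX A' hcomm hA'p ?_ Y' ?_ hA'Y'
    · intro x hx hord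
      rw [hA', mem_subgroupOf]
      apply hΩ
      · rw [mem_centralizer_iff]
        intro e he
        have h1 := mem_centralizer_iff.mp hx ⟨e, hAX he⟩ (by
          show (⟨e, hAX he⟩ : X) ∈ A'
          rw [hA', mem_subgroupOf]; exact he)
        have h2 := congrArg Subtype.val h1
        simpa only [Subgroup.coe_mul] using h2
      · rw [Subgroup.orderOf_coe]; exact hord
    · exact fun h => (Nat.Prime.coprime_iff_not_dvd hpp).mp hY'c.symm h
  intro u hu
  exact ⟨⟨u, hYX hu⟩, key (mem_subgroupOf.mpr hu), rfl⟩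

end BG

end Cfsg.Agent.Helper54
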