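import Mathlib
import Cfsg.Prelude.Def_Local
import Cfsg.Agent.Lib.Helper54.Solv

/-!
`p`-solvable groups: quotients, series steps and the Hall--Higman lemma `C_G(O_p(G)) ≤ O_p(G)` when
`O_{p'}(G) = 1`.  Copies (under a fresh namespace, so that later edits of the originals cannot break this
file) of lemmas landed by helper76 (`Lib/Helper76/PSolvable.lean`) and helper55 (`Lib/Helper55/Cores.lean`),
plus `IsPSolvable.of_surjective`.
-/

set_option autoImplicit false

namespace Cfsg.Agent.Helper54

open Cfsg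
open scoped commutatorElement

variable {G : Type*} [Group G]

/-- For a normal subgroup `N` and `H ≤ K`, the index `|H : H ∩ N|` divides `|K : K ∩ N|`. -/
lemma relIndex_dvd_relIndex_of_normal (N H K : Subgroup G) [N.Normal] (hHK : H ≤ K) :
    N.relIndex H ∣ N.relIndex K := by
  have h1 : (N.subgroupOf K).relIndex (H.subgroupOf K) ∣ (N.subgroupOf K).index :=
    Subgroup.relIndex_dvd_index_of_normal _ _
  rw [Subgroup.relIndex_subgroupOf hHK] at h1
  exact h1

lemma card_eq_card_mul_relIndex (H L : Subgroup G) (hHL : H ≤ L) :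
    Nat.card L = Nat.card H * H.relIndex L := by
  rw [← Subgroup.relIndex_bot_left, ← Subgroup.relIndex_bot_left,
    Subgroup.relIndex_mul_relIndex ⊥ H L bot_le hHL]

/-- **Series step.** In a `p`-solvable group, between normal subgroups `B < M` there is a normal
subgroup `L` with `B < L ≤ M` and `L/B` a `p`-group or a `p'`-group. -/
lemma IsPSolvable.exists_step {p : ℕ} [Fact p.Prime] (hG : IsPSolvable p G) (B M : Subgroup G)
    [hBn : B.Normal] [hMn : M.Normal] (hBM : B < M) :
    ∃ L : Subgroup G, L.Normal ∧ B < L ∧ L ≤ M ∧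
      ((∃ m : ℕ, B.relIndex L = p ^ m) ∨ (B.relIndex L).Coprime p) := by
  classical
  have hp : p.Prime := Fact.out
  obtain ⟨n, H, h0, hlast, hmono, hnorm, hfac⟩ := hG
  -- the least index where `H i ⊓ M` is not contained in `B`
  have hex : ∃ k : ℕ, ∃ hk : k < n + 1, ¬ (H ⟨k, hk⟩ ⊓ M ≤ B) := by
    refine ⟨n, Nat.lt_succ_self n, ?_⟩
    have : (⟨n, Nat.lt_succ_self n⟩ : Fin (n + 1)) = Fin.last n := rfl
    rw [this, hlast, top_inf_eq]
    exact not_le_of_gt hBM
  set k₀ := Nat.find hex with hk₀
  obtain ⟨hk₀lt, hk₀not⟩ := Nat.find_spec hex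
  have hk₀pos : k₀ ≠ 0 := by
    intro h
    apply hk₀not
    have : (⟨k₀, hk₀lt⟩ : Fin (n + 1)) = 0 := by
      apply Fin.ext; simpa using h
    rw [this, h0, bot_inf_eq]
    exact bot_le
  obtain ⟨j, hj⟩ := Nat.exists_eq_succ_of_ne_zero hk₀pos
  have hjn : j < n := by omega
  let i : Fin n := ⟨j, hjn⟩
  have hsucc : (⟨k₀, hk₀lt⟩ : Fin (n + 1)) = i.succ := by
    apply Fin.ext; simp [i, hj]
  have hcast : H i.castSucc ⊓ M ≤ B := by
    by_contra hnot
    have : k₀ ≤ j := Nat.find_min' hex ⟨by omega, hnot⟩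
    omega
  rw [hsucc] at hk₀not
  have hn1 : (H i.castSucc).Normal := hnorm _
  have hn2 : (H i.succ).Normal := hnorm _
  refine ⟨(H i.succ ⊓ M) ⊔ B, inferInstance, ?_, sup_le inf_le_right hBM.le, ?_⟩
  · apply lt_of_le_of_ne le_sup_right
    intro h
    apply hk₀not
    rw [h]
    exact le_sup_left
  · have hle : H i.castSucc ≤ H i.succ := hmono (Fin.castSucc_lt_succ).le
    have d1 : B.relIndex ((H i.succ ⊓ M) ⊔ B) = B.relIndex (H i.succ ⊓ M) :=
      Subgroup.relIndex_sup_right _ _
    have d2 : B.relIndex (H i.succ ⊓ M) = (B ⊓ (H i.succ ⊓ M)).relIndex (H i.succ ⊓ M) :=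
      (Subgroup.inf_relIndex_right _ _).symm
    have d3 : (B ⊓ (H i.succ ⊓ M)).relIndex (H i.succ ⊓ M) ∣
        (H i.castSucc ⊓ M).relIndex (H i.succ ⊓ M) := by
      apply Subgroup.relIndex_dvd_of_le_left
      exact le_inf hcast (inf_le_inf_right M hle)
    have d4 : (H i.castSucc ⊓ M).relIndex (H i.succ ⊓ M) =
        (H i.castSucc).relIndex (H i.succ ⊓ M) := by
      have : H i.castSucc ⊓ M = H i.castSucc ⊓ (H i.succ ⊓ M) := by
        rw [← inf_assoc, inf_of_le_left hle]
      rw [this, Subgroup.inf_relIndex_right]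
    have d5 : (H i.castSucc).relIndex (H i.succ ⊓ M) ∣ (H i.castSucc).relIndex (H i.succ) :=
      relIndex_dvd_relIndex_of_normal _ _ _ inf_le_left
    have hdvd : B.relIndex ((H i.succ ⊓ M) ⊔ B) ∣ (H i.castSucc).relIndex (H i.succ) := by
      rw [d1, d2]
      exact d3.trans (d4 ▸ d5)
    rcases hfac i with ⟨m, hm⟩ | hc
    · left
      rw [hm] at hdvd
      obtain ⟨m', _, hm'⟩ := (Nat.dvd_prime_pow hp).mp hdvd
      exact ⟨m', hm'⟩
    · right
      exact Nat.Coprime.coprime_dvd_left hdvd hc

/-- Quotients of `p`-solvable groups are `p`-solvable. -/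
lemma IsPSolvable.quotient {p : ℕ} [Fact p.Prime] (hG : IsPSolvable p G) (K : Subgroup G)
    [K.Normal] : IsPSolvable p (G ⧸ K) := by
  have hp : p.Prime := Fact.out
  obtain ⟨n, H, h0, hlast, hmono, hnorm, hfac⟩ := hG
  have hs : Function.Surjective (QuotientGroup.mk' K) := QuotientGroup.mk'_surjective K
  refine ⟨n, fun i => (H i).map (QuotientGroup.mk' K), ?_, ?_, ?_, ?_, ?_⟩
  · simp only [h0, Subgroup.map_bot]
  · simp only [hlast]
    rw [← MonoidHom.range_eq_map, MonoidHom.range_eq_top]
    exact hs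
  · intro i j hij
    exact Subgroup.map_mono (hmono hij)
  · intro i
    exact Subgroup.Normal.map (hnorm i) _ hs
  · intro i
    have hn1 : (H i.castSucc).Normal := hnorm _
    have hle : H i.castSucc ≤ H i.succ := hmono (Fin.castSucc_lt_succ).le
    have key : ((H i.castSucc).map (QuotientGroup.mk' K)).relIndex
        ((H i.succ).map (QuotientGroup.mk' K)) ∣ (H i.castSucc).relIndex (H i.succ) := by
      rw [Subgroup.relIndex_map_map, QuotientGroup.ker_mk']
      have e : H i.succ ⊔ K = (H i.castSucc ⊔ K) ⊔ H i.succ := by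
        rw [sup_comm (H i.castSucc) K, sup_assoc, sup_of_le_right hle, sup_comm]
      rw [e, Subgroup.relIndex_sup_left]
      exact Subgroup.relIndex_dvd_of_le_left _ le_sup_left
    rcases hfac i with ⟨m, hm⟩ | hc
    · left
      rw [hm] at key
      obtain ⟨m', _, hm'⟩ := (Nat.dvd_prime_pow hp).mp key
      exact ⟨m', hm'⟩
    · right
      exact Nat.Coprime.coprime_dvd_left key hc


instance pPrimeCore_characteristic (p : ℕ) : (pPrimeCore p G).Characteristic := by
  rw [Subgroup.characteristic_iff_map_le]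
  intro φ
  rw [Subgroup.map_le_iff_le_comap]
  apply sSup_le
  rintro N ⟨hN, hcop⟩
  rw [← Subgroup.map_le_iff_le_comap]
  apply le_sSup
  refine ⟨hN.map _ φ.surjective, ?_⟩
  rw [← Nat.card_congr (N.equivMapOfInjective φ.toMonoidHom φ.injective).toEquiv]
  exact hcop

instance pCore_characteristic (p : ℕ) : (pCore p G).Characteristic := by
  rw [Subgroup.characteristic_iff_map_le]
  intro φ
  rw [Subgroup.map_le_iff_le_comap]
  apply sSup_le
  rintro N ⟨hN, hp⟩
  rw [← Subgroup.map_le_iff_le_comap]
  apply le_sSup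
  exact ⟨hN.map _ φ.surjective, hp.map _⟩

/-- The `p'`-core of a normal subgroup lies in the `p'`-core of the group. -/
theorem pPrimeCore_map_le [Finite G] (p : ℕ) (N : Subgroup G) [N.Normal] :
    (pPrimeCore p N).map N.subtype ≤ pPrimeCore p G := by
  apply le_pPrimeCore
  · exact ConjAct.normal_of_characteristic_of_normal
  · rw [← Nat.card_congr ((pPrimeCore p N).equivMapOfInjective N.subtype N.subtype_injective).toEquiv]
    exact pPrimeCore_coprime p

/-- The `p`-core of a normal subgroup lies in the `p`-core of the group. -/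
theorem pCore_map_le (p : ℕ) (N : Subgroup G) [N.Normal] :
    (pCore p N).map N.subtype ≤ pCore p G := by
  apply le_pCore
  · exact ConjAct.normal_of_characteristic_of_normal
  · exact isPGroup_pCore.map _

theorem pPrimeCore_eq_bot_of_normal [Finite G] (p : ℕ) (N : Subgroup G) [N.Normal]
    (h : pPrimeCore p G = ⊥) : pPrimeCore p N = ⊥ := by
  have h1 := pPrimeCore_map_le p N
  rw [h, le_bot_iff] at h1
  exact (Subgroup.map_eq_bot_iff_of_injective _ N.subtype_injective).mp h1


lemma card_eq_one_of_isPGroup_of_coprime {p : ℕ} [Fact p.Prime] {X : Type*} [Group X] [Finite X]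
    (h1 : IsPGroup p X) (h2 : (Nat.card X).Coprime p) : Nat.card X = 1 := by
  have hp : p.Prime := Fact.out
  obtain ⟨k, hk⟩ := IsPGroup.iff_card.mp h1
  rcases Nat.eq_zero_or_pos k with h0 | h0
  · rw [hk, h0, pow_zero]
  · exfalso
    rw [hk] at h2
    have : p ∣ Nat.gcd (p ^ k) p := Nat.dvd_gcd (dvd_pow_self p h0.ne') dvd_rfl
    rw [Nat.Coprime.gcd_eq_one h2] at this
    exact hp.one_lt.ne' (Nat.dvd_one.mp this)

lemma eq_one_of_pow_eq_one_of_isPGroup {p : ℕ} [Fact p.Prime] {H : Subgroup G} (hH : IsPGroup p H)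
    {h : G} (hh : h ∈ H) {m : ℕ} (hm : m.Coprime p) (hpow : h ^ m = 1) : h = 1 := by
  have hp : p.Prime := Fact.out
  obtain ⟨j, hj⟩ := hH ⟨h, hh⟩
  have hj' : h ^ (p ^ j) = 1 := by
    have := congrArg Subtype.val hj
    simpa using this
  have h1 : orderOf h ∣ m := orderOf_dvd_of_pow_eq_one hpow
  have h2 : orderOf h ∣ p ^ j := orderOf_dvd_of_pow_eq_one hj'
  have h3 : (m).Coprime (p ^ j) := Nat.Coprime.pow_right j hm
  have h4 : orderOf h ∣ Nat.gcd m (p ^ j) := Nat.dvd_gcd h1 h2
  rw [Nat.Coprime.gcd_eq_one h3, Nat.dvd_one] at h4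
  exact orderOf_eq_one_iff.mp h4

/-- **Hall–Higman Lemma 1.2.3.** In a finite `p`-solvable group with `O_{p'}(G) = 1`, the
centralizer of `O_p(G)` is contained in `O_p(G)`. -/
theorem centralizer_pCore_le_of_isPSolvable [Finite G] {p : ℕ} [Fact p.Prime] (hG : IsPSolvable p G)
    (hcore : pPrimeCore p G = ⊥) :
    Subgroup.centralizer (pCore p G : Set G) ≤ pCore p G := by
  have hp : p.Prime := Fact.out
  set H := pCore p G with hH
  have hHn : H.Normal := inferInstance
  have hHp : IsPGroup p H := isPGroup_pCore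
  set C := Subgroup.centralizer (H : Set G) with hC
  have hCn : C.Normal := inferInstance
  by_contra hCH
  have hlt : H < C ⊔ H :=
    lt_of_le_of_ne le_sup_right (fun h => hCH (by rw [h]; exact le_sup_left))
  obtain ⟨L, hLn, hHL, hLM, hfac⟩ := IsPSolvable.exists_step hG H (C ⊔ H) hlt
  obtain ⟨a, ha⟩ := IsPGroup.iff_card.mp hHp
  rcases hfac with ⟨m, hm⟩ | hcop
  · -- `L` is a normal `p`-subgroup
    have hLp : IsPGroup p L := by
      apply IsPGroup.of_card (n := a + m)
      rw [card_eq_card_mul_relIndex H L hHL.le, ha, hm, pow_add]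
    exact hHL.not_ge (le_pCore hLn hLp)
  · -- Schur–Zassenhaus
    set N : Subgroup L := H.subgroupOf L with hN
    have hNn : N.Normal := Subgroup.Normal.subgroupOf hHn L
    have hNcard : Nat.card N = p ^ a := by
      rw [← ha]
      exact Nat.card_congr (Subgroup.subgroupOfEquivOfLe hHL.le).toEquiv
    have hNidx : N.index = H.relIndex L := rfl
    have hcoprime : (Nat.card N).Coprime N.index := by
      rw [hNcard, hNidx]
      exact Nat.Coprime.pow_left a hcop.symm
    obtain ⟨K₀, hK₀⟩ := Subgroup.exists_right_complement'_of_coprime hcoprime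
    set Kc : Subgroup G := K₀.map L.subtype with hKc
    have hKcL : Kc ≤ L := Subgroup.map_subtype_le K₀
    have hKccard : Nat.card Kc = H.relIndex L := by
      rw [← hNidx, hK₀.symm.index_eq_card]
      exact (Nat.card_congr
        (Subgroup.equivMapOfInjective K₀ L.subtype L.subtype_injective).toEquiv).symm
    have hKccop : (Nat.card Kc).Coprime p := by rw [hKccard]; exact hcop
    -- Claim 1: `Kc ≤ C`
    have hKcC : Kc ≤ C := by
      have h1 : Kc.map (QuotientGroup.mk' C) ≤ H.map (QuotientGroup.mk' C) := by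
        calc Kc.map (QuotientGroup.mk' C) ≤ (C ⊔ H).map (QuotientGroup.mk' C) :=
              Subgroup.map_mono (hKcL.trans hLM)
          _ = H.map (QuotientGroup.mk' C) := by
              rw [Subgroup.map_sup]
              have : C.map (QuotientGroup.mk' C) = ⊥ := by
                rw [Subgroup.map_eq_bot_iff, QuotientGroup.ker_mk']
              rw [this, bot_sup_eq]
      have h2 : IsPGroup p (Kc.map (QuotientGroup.mk' C)) := (hHp.map _).to_le h1
      have h3 : (Nat.card (Kc.map (QuotientGroup.mk' C))).Coprime p :=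
        Nat.Coprime.coprime_dvd_left (Subgroup.card_map_dvd _ _) hKccop
      have h4 := card_eq_one_of_isPGroup_of_coprime h2 h3
      rw [Subgroup.card_eq_one, Subgroup.map_eq_bot_iff, QuotientGroup.ker_mk'] at h4
      exact h4
    -- decomposition of elements of `L`
    have hdec : ∀ y ∈ L, ∃ h ∈ H, ∃ k ∈ Kc, y = h * k := by
      intro y hy
      have hsurj := (Subgroup.isComplement'_def.mp hK₀).2
      obtain ⟨⟨n, k⟩, hnk⟩ := hsurj ⟨y, hy⟩
      refine ⟨(n : L), ?_, (k : L), ⟨(k : L), k.2, rfl⟩, ?_⟩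
      · have hn2 : (n : L) ∈ H.subgroupOf L := n.2
        exact Subgroup.mem_subgroupOf.mp hn2
      · have := congrArg Subtype.val hnk
        simpa using this.symm
    -- Claim 2: `Kc` is normal in `G`
    have hKcn : Kc.Normal := by
      constructor
      intro k hk g
      have hyL : g * k * g⁻¹ ∈ L := hLn.conj_mem k (hKcL hk) g
      obtain ⟨h, hh, k', hk', hy⟩ := hdec _ hyL
      have hkpow : k ^ Nat.card Kc = 1 := by
        have h5 : (⟨k, hk⟩ : Kc) ^ Nat.card Kc = 1 := pow_card_eq_one'
        have h6 := congrArg Subtype.val h5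
        rw [Subgroup.coe_pow, Subgroup.coe_one] at h6
        exact h6
      have hk'pow : k' ^ Nat.card Kc = 1 := by
        have h5 : (⟨k', hk'⟩ : Kc) ^ Nat.card Kc = 1 := pow_card_eq_one'
        have h6 := congrArg Subtype.val h5
        rw [Subgroup.coe_pow, Subgroup.coe_one] at h6
        exact h6
      have hypow : (g * k * g⁻¹) ^ Nat.card Kc = 1 := by
        rw [conj_pow, hkpow, mul_one, mul_inv_cancel]
      have hcomm : Commute h k' := by
        have := hKcC hk'
        rw [hC, Subgroup.mem_centralizer_iff] at this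
        exact this h hh
      rw [hy, hcomm.mul_pow, hk'pow, mul_one] at hypow
      have h1 : h = 1 := eq_one_of_pow_eq_one_of_isPGroup hHp hh hKccop hypow
      rw [hy, h1, one_mul]
      exact hk'
    have hKcbot : Kc ≤ ⊥ := by
      rw [← hcore]
      exact le_pPrimeCore hKcn hKccop
    have hKc1 : Nat.card Kc = 1 := by
      rw [Subgroup.card_eq_one]; exact le_bot_iff.mp hKcbot
    rw [hKccard, Subgroup.relIndex_eq_one] at hKc1
    exact hHL.not_ge hKc1


/-- Homomorphic images of `p`-solvable groups are `p`-solvable. -/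
lemma IsPSolvable.of_surjective {p : ℕ} [Fact p.Prime] {G' : Type*} [Group G'] (hG : IsPSolvable p G)
    (f : G →* G') (hs : Function.Surjective f) : IsPSolvable p G' := by
  have hp : p.Prime := Fact.out
  obtain ⟨n, H, h0, hlast, hmono, hnorm, hfac⟩ := hG
  refine ⟨n, fun i => (H i).map f, ?_, ?_, ?_, ?_, ?_⟩
  · simp only [h0, Subgroup.map_bot]
  · simp only [hlast]
    rw [← MonoidHom.range_eq_map, MonoidHom.range_eq_top]
    exact hs
  · intro i j hij
    exact Subgroup.map_mono (hmono hij)
  · intro i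
    exact Subgroup.Normal.map (hnorm i) _ hs
  · intro i
    have hn1 : (H i.castSucc).Normal := hnorm _
    have hle : H i.castSucc ≤ H i.succ := hmono (Fin.castSucc_lt_succ).le
    have key : ((H i.castSucc).map f).relIndex ((H i.succ).map f) ∣ (H i.castSucc).relIndex (H i.succ) := by
      rw [Subgroup.relIndex_map_map]
      have e : H i.succ ⊔ f.ker = (H i.castSucc ⊔ f.ker) ⊔ H i.succ := by
        rw [sup_comm (H i.castSucc) f.ker, sup_assoc, sup_of_le_right hle, sup_comm]
      rw [e, Subgroup.relIndex_sup_left]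
      exact Subgroup.relIndex_dvd_of_le_left _ le_sup_left
    rcases hfac i with ⟨m, hm⟩ | hc
    · left
      rw [hm] at key
      obtain ⟨m', _, hm'⟩ := (Nat.dvd_prime_pow hp).mp key
      exact ⟨m', hm'⟩
    · right
      exact Nat.Coprime.coprime_dvd_left key hc

end Cfsg.Agent.Helper54
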