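import Mathlib
import Cfsg.Agent.Lib.Helper52.CoprimeSylow

/-!
# Glauberman's lemma (coprime action on a transitive set), internal form

`A, K ≤ G`, `A` normalizes `K`, `(|A|, |K|) = 1`, one of them solvable, `G` acts on `Ω`, `S ⊆ Ω` is
stable under `A` and `K`, and `K` is transitive on `S`.  Then

* `glauberman_exists_fixed` : `A` fixes a point of `S`;
* `glauberman_conj_fixed` : two `A`-fixed points in the same `K`-orbit are conjugate under `C_K(A)`.
-/

set_option autoImplicit false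

namespace Cfsg.Agent.Helper54

open Subgroup
open Cfsg.Agent.Helper52 (sz_conj_internal relIndex_eq_of_forall_mul relIndex_sup_eq_card
  mem_centralizer_of_normalizes)

variable {G : Type*} [Group G] {Ω : Type*} [MulAction G Ω]

/-- **Glauberman's lemma, existence of a fixed point.** -/
theorem glauberman_exists_fixed [Finite G] (A K : Subgroup G) (hAK : A ≤ normalizer (K : Set G))
    (hcop : (Nat.card A).Coprime (Nat.card K)) (hsolv : Group.IsSolvable A ∨ Group.IsSolvable K)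
    (S : Set Ω) (hne : S.Nonempty)
    (hAS : ∀ a ∈ A, ∀ ω ∈ S, a • ω ∈ S) (hKS : ∀ k ∈ K, ∀ ω ∈ S, k • ω ∈ S)
    (htr : ∀ ω₁ ∈ S, ∀ ω₂ ∈ S, ∃ k ∈ K, ω₂ = k • ω₁) :
    ∃ ω ∈ S, ∀ a ∈ A, a • ω = ω := by
  obtain ⟨ω₀, hω₀⟩ := hne
  set M := K ⊔ A with hM
  have hMK : M ≤ normalizer (K : Set G) := sup_le le_normalizer hAK
  set U := MulAction.stabilizer G ω₀ ⊓ M with hU
  have hUM : U ≤ M := inf_le_right
  have hdisj : K ⊓ A = ⊥ := by
    have := disjoint_of_coprime_natCard hcop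
    rw [inf_comm]; exact this.eq_bot
  -- Frattini
  have hfrat : ∀ a ∈ A, ∃ k ∈ K, k * a ∈ MulAction.stabilizer G ω₀ := by
    intro a ha
    obtain ⟨k, hk, hkk⟩ := htr ω₀ hω₀ (a • ω₀) (hAS a ha ω₀ hω₀)
    refine ⟨k⁻¹, K.inv_mem hk, ?_⟩
    rw [MulAction.mem_stabilizer_iff, mul_smul, hkk, inv_smul_smul]
  have hprod : ∀ m ∈ M, ∃ u ∈ U, ∃ k ∈ K, m = u * k := by
    intro m hm
    have hm' : m ∈ ((K ⊔ A : Subgroup G) : Set G) := hm
    rw [coe_mul_of_right_le_normalizer_left K A hAK] at hm'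
    obtain ⟨k₁, hk₁, a, ha, rfl⟩ := Set.mem_mul.mp hm'
    obtain ⟨k, hk, hka⟩ := hfrat a ha
    have hkaM : k * a ∈ M := M.mul_mem (le_sup_left (a := K) hk) (le_sup_right (b := A) ha)
    refine ⟨k * a, mem_inf.mpr ⟨hka, hkaM⟩, (k * a)⁻¹ * (k₁ * k⁻¹) * (k * a), ?_, by group⟩
    have h3 := mem_normalizer_iff.mp (Subgroup.inv_mem _ (hMK hkaM)) (k₁ * k⁻¹)
    rw [inv_inv] at h3
    exact h3.mp (K.mul_mem hk₁ (K.inv_mem hk))
  have hrel : K.relIndex U = Nat.card A := by
    rw [relIndex_eq_of_forall_mul K U M hUM hprod]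
    exact relIndex_sup_eq_card K A hAK hdisj
  -- Schur-Zassenhaus in U
  have hUK : U ≤ normalizer (K : Set G) := hUM.trans hMK
  have hnorm : (K.subgroupOf U).Normal := normal_subgroupOf_of_le_normalizer hUK
  have hcopU : (Nat.card (K.subgroupOf U)).Coprime (K.subgroupOf U).index := by
    have h1 : (K.subgroupOf U).index = Nat.card A := hrel
    rw [h1]
    have h2 : Nat.card (K.subgroupOf U) ∣ Nat.card K := by
      rw [← inf_subgroupOf_right, Nat.card_congr (subgroupOfEquivOfLe (inf_le_right : K ⊓ U ≤ U)).toEquiv]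
      exact card_dvd_of_le inf_le_left
    exact (Nat.Coprime.coprime_dvd_right h2 hcop).symm
  obtain ⟨B₀, hB₀⟩ := exists_right_complement'_of_coprime hcopU
  set B := B₀.map U.subtype with hB
  have hBc : Nat.card B = Nat.card A := by
    rw [hB, card_map_of_injective U.subtype_injective, ← hB₀.symm.index_eq_card]
    exact hrel
  have hBU : B ≤ U := by
    rintro x ⟨y, _, rfl⟩
    exact y.2
  obtain ⟨n, hn, hBn⟩ := sz_conj_internal K A B hAK
    (hsolv.symm) hcop.symm hBc (hBU.trans hUM)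
  refine ⟨n⁻¹ • ω₀, hKS _ (K.inv_mem hn) _ hω₀, ?_⟩
  intro a ha
  have h1 : n * a * n⁻¹ ∈ MulAction.stabilizer G ω₀ := by
    have : n * a * n⁻¹ ∈ B := by
      rw [hBn]; exact ⟨a, ha, by simp⟩
    exact (mem_inf.mp (hBU this)).1
  rw [MulAction.mem_stabilizer_iff] at h1
  have e : a * n⁻¹ = n⁻¹ * (n * a * n⁻¹) := by group
  rw [← mul_smul, e, mul_smul, h1]

/-- **Glauberman's lemma, conjugacy of fixed points.** -/
theorem glauberman_conj_fixed [Finite G] (A K : Subgroup G) (hAK : A ≤ normalizer (K : Set G))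
    (hcop : (Nat.card A).Coprime (Nat.card K)) (hsolv : Group.IsSolvable A ∨ Group.IsSolvable K)
    (ω₁ ω₂ : Ω) (h₁ : ∀ a ∈ A, a • ω₁ = ω₁) (h₂ : ∀ a ∈ A, a • ω₂ = ω₂)
    (k : G) (hk : k ∈ K) (hkk : ω₂ = k • ω₁) :
    ∃ c ∈ K ⊓ centralizer (A : Set G), ω₂ = c • ω₁ := by
  set St := MulAction.stabilizer G ω₁ with hSt
  set L := K ⊓ St with hL
  have hASt : A ≤ St := fun a ha => MulAction.mem_stabilizer_iff.mpr (h₁ a ha)
  have hAL : A ≤ normalizer (L : Set G) := by
    intro a ha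
    rw [mem_normalizer_iff]
    intro g
    have hN : a ∈ normalizer (St : Set G) := le_normalizer (hASt ha)
    rw [hL, mem_inf, mem_inf, ← mem_normalizer_iff.mp (hAK ha) g, ← mem_normalizer_iff.mp hN g]
  set B := A.map (MulAut.conj k⁻¹).toMonoidHom with hB
  have hBc : Nat.card B = Nat.card A := Cfsg.Agent.Helper52.card_map_conj _ _
  have hBle : B ≤ L ⊔ A := by
    rintro x ⟨a, ha, rfl⟩
    have e : (MulAut.conj k⁻¹).toMonoidHom a = (k⁻¹ * a * k * a⁻¹) * a := by simp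
    rw [e]
    refine mul_mem_sup (mem_inf.mpr ⟨?_, ?_⟩) ha
    · have h3 : a * k * a⁻¹ ∈ K := (mem_normalizer_iff.mp (hAK ha) k).mp hk
      have e2 : k⁻¹ * a * k * a⁻¹ = k⁻¹ * (a * k * a⁻¹) := by group
      rw [e2]; exact K.mul_mem (K.inv_mem hk) h3
    · have h4 : k⁻¹ * a * k ∈ St := by
        rw [hSt, MulAction.mem_stabilizer_iff, mul_smul, mul_smul, ← hkk, h₂ a ha, hkk,
          inv_smul_smul]
      exact Subgroup.mul_mem _ h4 (Subgroup.inv_mem _ (hASt ha))
  have hLK : L ≤ K := inf_le_left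
  have hcopL : (Nat.card L).Coprime (Nat.card A) :=
    (Nat.Coprime.coprime_dvd_right (card_dvd_of_le hLK) hcop).symm
  have hsolvL : Group.IsSolvable L ∨ Group.IsSolvable A := by
    rcases hsolv with h | h
    · exact Or.inr h
    · left
      have := h
      exact Group.isSolvable_of_isSolvable_injective (f := inclusion hLK) (inclusion_injective hLK)
  obtain ⟨n, hn, hBn⟩ := sz_conj_internal L A B hAL hsolvL hcopL hBc hBle
  have hnK : n ∈ K := hLK hn
  have hnSt : n ∈ St := (mem_inf.mp hn).2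
  refine ⟨k * n, mem_inf.mpr ⟨K.mul_mem hk hnK, ?_⟩, ?_⟩
  · apply mem_centralizer_of_normalizes K A hAK hcop (k * n) (K.mul_mem hk hnK)
    intro a ha
    have h7 : n * a * n⁻¹ ∈ B := by
      rw [hBn]; exact ⟨a, ha, by simp⟩
    rw [hB, Cfsg.Agent.Helper52.mem_map_conj, inv_inv] at h7
    have e : k * n * a * (k * n)⁻¹ = k * (n * a * n⁻¹) * k⁻¹ := by group
    rw [e]; exact h7
  · rw [mul_smul, MulAction.mem_stabilizer_iff.mp hnSt]
    exact hkk

end Cfsg.Agent.Helper54
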