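import Mathlib
import Cfsg.Agent.Lib.Helper54.BGTransitivity
import Cfsg.Agent.Lib.Helper54.GlaubermanLemma

/-!
# Bender–Glauberman Lemma 6.5: the transitivity property passes to subnormal overgroups

`A` satisfies the transitivity hypothesis, `K = O_{π(A)'}(C_G(A))` is transitive on the maximal `A`-invariant
`q`-subgroups, `P` a proper `π(A)`-subgroup with `A ⊲⊲ P`.
-/

set_option autoImplicit false

namespace Cfsg.Agent.Helper54

open Subgroup Cfsg
open scoped commutatorElement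
open Cfsg.Agent.Helper52 (sylCard)
open Cfsg.Agent.Helper22 (conjS conjS_mul conjS_one conjS_mono conjS_inv_conjS conjS_conjS_inv
  mem_normalizer_iff_conjS)

section BG65

variable {G : Type*} [Group G]

/-- the conjugation action of `G` on its subgroups (as a local instance) -/
@[reducible] def conjSAction (G : Type*) [Group G] : MulAction G (Subgroup G) where
  smul g H := conjS g H
  one_smul := conjS_one
  mul_smul := conjS_mul

/-- a characteristic subgroup of `H` is normalized by `N_G(H)` -/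
theorem normalizer_le_normalizer_map_of_characteristic (H : Subgroup G) (X : Subgroup H)
    [hX : X.Characteristic] :
    normalizer (H : Set G) ≤ normalizer ((X.map H.subtype : Subgroup G) : Set G) := by
  apply le_normalizer_of_forall_conj_mem
  intro g hg u hu
  obtain ⟨x, hx, rfl⟩ := mem_map.mp hu
  have hg' : g⁻¹ ∈ normalizer (H : Set G) := inv_mem hg
  let φ : H ≃* H :=
    { toFun := fun y => ⟨g * y * g⁻¹, (mem_normalizer_iff.mp hg y).mp y.2⟩
      invFun := fun y => ⟨g⁻¹ * y * g, by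
        have := (mem_normalizer_iff.mp hg' y).mp y.2
        simpa using this⟩
      left_inv := fun y => by ext; simp [mul_assoc]
      right_inv := fun y => by ext; simp [mul_assoc]
      map_mul' := fun y z => by ext; simp [mul_assoc] }
  have h1 := (characteristic_iff_map_le.mp hX) φ
  exact mem_map.mpr ⟨φ x, h1 (mem_map_of_mem _ hx), rfl⟩

theorem normalizer_le_normalizer_piCoreOf_centralizer [Finite G] (π : Set ℕ) (A : Subgroup G) :
    normalizer (A : Set G) ≤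
      normalizer ((Cfsg.piCoreOf π (centralizer (A : Set G)) : Subgroup G) : Set G) :=
  (normalizer_le_normalizer_centralizer A).trans
    (normalizer_le_normalizer_map_of_characteristic (centralizer (A : Set G)) _)

/-- normalizers grow in `q`-groups -/
theorem card_lt_card_normalizer_inf [Finite G] {q : ℕ} [Fact q.Prime] (D P : Subgroup G)
    (hP : IsPGroup q P) (hDP : D ≤ P) (hne' : D ≠ P) :
    Nat.card D < Nat.card (normalizer (D : Set G) ⊓ P : Subgroup G) := by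
  have h1 : (D.subgroupOf P) < ⊤ := by
    rw [lt_top_iff_ne_top]
    intro h
    rw [subgroupOf_eq_top] at h
    exact hne' (le_antisymm hDP h)
  have hPfin : Finite P := inferInstance
  have hnil : Group.IsNilpotent P := hP.isNilpotent
  have h2 := Group.normalizerCondition_of_isNilpotent (G := P) (D.subgroupOf P) h1
  have h3 : Nat.card (D.subgroupOf P) < Nat.card (normalizer ((D.subgroupOf P : Subgroup P) : Set P)) := by
    by_contra hge
    rw [not_lt] at hge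
    exact (ne_of_lt h2) (Subgroup.eq_of_le_of_card_ge le_normalizer hge)
  have h4 : Nat.card (D.subgroupOf P) = Nat.card D :=
    Nat.card_congr (subgroupOfEquivOfLe hDP).toEquiv
  have h5 : Nat.card (normalizer ((D.subgroupOf P : Subgroup P) : Set P)) ≤
      Nat.card (normalizer (D : Set G) ⊓ P : Subgroup G) := by
    have hmap : (normalizer ((D.subgroupOf P : Subgroup P) : Set P)).map P.subtype ≤
        normalizer (D : Set G) ⊓ P := by
      rintro _ ⟨x, hx, rfl⟩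
      refine mem_inf.mpr ⟨?_, x.2⟩
      have := Subgroup.subgroupOf_normalizer_eq hDP
      rw [← this] at hx
      exact mem_subgroupOf.mp hx
    calc Nat.card (normalizer ((D.subgroupOf P : Subgroup P) : Set P))
        = Nat.card ((normalizer ((D.subgroupOf P : Subgroup P) : Set P)).map P.subtype) :=
          (card_map_of_injective (subtype_injective _)).symm
      _ ≤ _ := Subgroup.card_le_of_le hmap
  omega

theorem mem_maxInvSubgroups_of_isMaxInvQ [Finite G] (A : Subgroup G) (q : ℕ) [hq : Fact q.Prime] (Q : Subgroup G)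
    (hQ : IsMaxInvQ A q Q) : Q ∈ Cfsg.maxInvSubgroups ⊤ A {q} := by
  obtain ⟨hQq, hAQ, hmax⟩ := hQ
  have key : ∀ R : Subgroup G, IsPGroup q R → ∀ r : ℕ, r.Prime → r ∣ Nat.card R → r ∈ ({q} : Set ℕ) := by
    intro R hR r hr hrd
    obtain ⟨n, hn⟩ := IsPGroup.iff_card.mp hR
    rw [hn] at hrd
    exact (Nat.prime_dvd_prime_iff_eq hr hq.out).mp (hr.dvd_of_dvd_pow hrd)
  refine ⟨⟨le_top, key Q hQq, hAQ⟩, fun R hR hle => ?_⟩
  obtain ⟨_, hRq, hAR⟩ := hR
  have h1 : Nat.card R = q ^ (Nat.card R).primeFactorsList.length :=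
    Nat.eq_prime_pow_of_unique_prime_dvd Nat.card_pos.ne' (fun {d} hd hdvd => hRq d hd hdvd)
  exact hmax R (IsPGroup.of_card h1) hAR hle

theorem ne_top_of_isPGroup_of_not_dvd [Finite G] {A : Subgroup G} (hA1 : A ≠ ⊥) {q : ℕ} [Fact q.Prime] (hqA : ¬ q ∣ Nat.card A)
    (D : Subgroup G) (hDq : IsPGroup q D) : D ≠ ⊤ := by
  rintro rfl
  have hAq : IsPGroup q A := hDq.to_le le_top
  obtain ⟨n, hn⟩ := IsPGroup.iff_card.mp hAq
  have hn0 : n ≠ 0 := by
    rintro rfl
    rw [pow_zero] at hn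
    exact hA1 (Subgroup.card_eq_one.mp hn)
  exact hqA (hn ▸ dvd_pow_self q hn0)

theorem coprime_card_of_pi_of_pi' [Finite G] (A P L : Subgroup G)
    (hPπ : ∀ r : ℕ, r.Prime → r ∣ Nat.card P → r ∣ Nat.card A)
    (hL : ∀ r : ℕ, r.Prime → r ∣ Nat.card L → r ∈ Cfsg.primesNotDvd (Nat.card A)) :
    (Nat.card P).Coprime (Nat.card L) := by
  apply Nat.coprime_of_dvd
  intro r hr hrP hrL
  exact (hL r hr hrL).2 (hPπ r hr hrP)

theorem coprime_card_of_isPGroup [Finite G] {A : Subgroup G} {q : ℕ} [hq : Fact q.Prime] (hqA : ¬ q ∣ Nat.card A)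
    (U : Subgroup G) (hU : IsPGroup q U) : (Nat.card U).Coprime (Nat.card A) := by
  obtain ⟨n, hn⟩ := IsPGroup.iff_card.mp hU
  rw [hn]
  exact Nat.Coprime.pow_left n ((Nat.Prime.coprime_iff_not_dvd hq.out).mpr hqA)

/-- BG 6.5(c) for a nontrivial `Q`: a maximal `P`-invariant `q`-subgroup is a maximal `A`-invariant one. -/
theorem isMaxInvQ_of_isMaxInvQ_overgroup [Finite G] (hG : Cfsg.IsMinSimpleOddOrder G) (A : Subgroup G)
    (hA : Cfsg.TransitivityHypothesis A) (q : ℕ) [hq : Fact q.Prime] (hqA : ¬ q ∣ Nat.card A)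
    (P : Subgroup G) (hP : P ≠ ⊤) (hPπ : ∀ r : ℕ, r.Prime → r ∣ Nat.card P → r ∣ Nat.card A)
    (hAP : A ≤ P) (Q : Subgroup G) (hQ : IsMaxInvQ P q Q) (hQ1 : Q ≠ ⊥) : IsMaxInvQ A q Q := by
  obtain ⟨_, hsimple, hnc, hsolv⟩ := hG
  have := hsimple
  obtain ⟨hQq, hPQ, hmax⟩ := hQ
  set π' := Cfsg.primesNotDvd (Nat.card A) with hπ'
  have hAQ : A ≤ normalizer (Q : Set G) := hAP.trans hPQ
  refine ⟨hQq, hAQ, fun R hRq hAR hle => ?_⟩
  set N := normalizer (Q : Set G) with hN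
  have hNtop : N ≠ ⊤ :=
    normalizer_ne_top_of_isSimpleGroup Q hQ1 (ne_top_of_isPGroup_of_not_dvd hA.1 hqA Q hQq)
  set L := Cfsg.piCoreOf π' N with hL
  have hQL : Q ≤ L :=
    le_piCoreOf_of_transitivityHypothesis A hA N hNtop hAQ Q le_normalizer
      (coprime_card_of_isPGroup hqA Q hQq) hAQ
  have hPL : P ≤ normalizer (L : Set G) := hPQ.trans (le_normalizer_piCoreOf π' N)
  have hcopPL : (Nat.card P).Coprime (Nat.card L) :=
    coprime_card_of_pi_of_pi' A P L hPπ (isPi_piCoreOf π' N)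
  have hPsolv : Group.IsSolvable P := hsolv P hP
  obtain ⟨S, hSL, hSc, hQS, hPS⟩ :=
    Cfsg.Agent.Helper52.exists_invariant_sylow_ge P L hPL hcopPL (Or.inl hPsolv) q Q hQL hQq hPQ
  have hSq : IsPGroup q S := IsPGroup.of_card hSc
  have hSQ : S = Q := hmax S hSq hPS hQS
  -- `R ⊓ N ≤ L`
  set R₁ := R ⊓ N with hR₁
  have hAN : A ≤ normalizer (N : Set G) := hAQ.trans le_normalizer
  have hAR₁ : A ≤ normalizer (R₁ : Set G) := le_normalizer_inf_of_le hAR hAN
  have hR₁q : IsPGroup q R₁ := hRq.to_le inf_le_left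
  have hR₁L : R₁ ≤ L :=
    le_piCoreOf_of_transitivityHypothesis A hA N hNtop hAQ R₁ inf_le_right
      (coprime_card_of_isPGroup hqA R₁ hR₁q) hAR₁
  have hQR₁ : Q ≤ R₁ := le_inf hle le_normalizer
  have hcard : Nat.card R₁ ≤ Nat.card Q := by
    obtain ⟨m, hm⟩ := IsPGroup.iff_card.mp hR₁q
    have h1 : q ^ m ∣ Nat.card L := hm ▸ card_dvd_of_le hR₁L
    have h2 : m ≤ (Nat.card L).factorization q :=
      (Nat.Prime.pow_dvd_iff_le_factorization hq.out Nat.card_pos.ne').mp h1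
    rw [hm, ← hSQ, hSc]
    exact Nat.pow_le_pow_right hq.out.pos h2
  have hR₁Q : Q = R₁ := Subgroup.eq_of_le_of_card_ge hQR₁ hcard
  by_contra hne
  have hne' : Q ≠ R := fun h => hne h.symm
  have hgrow := card_lt_card_normalizer_inf Q R hRq hle hne'
  have e : normalizer (Q : Set G) ⊓ R = R₁ := by rw [hR₁, inf_comm]
  rw [e, ← hR₁Q] at hgrow
  exact lt_irrefl _ hgrow

/-- The conclusion (a), (b), (c) of BG Lemma 6.5. -/
def BG65Concl (A P : Subgroup G) (q : ℕ) : Prop :=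
  (Cfsg.piCoreOf (Cfsg.primesNotDvd (Nat.card A)) (centralizer (A : Set G)) ⊓ centralizer (P : Set G) =
      Cfsg.piCoreOf (Cfsg.primesNotDvd (Nat.card A)) (centralizer (P : Set G))) ∧
    (∀ Q₁ Q₂, IsMaxInvQ P q Q₁ → IsMaxInvQ P q Q₂ →
      ∃ k ∈ Cfsg.piCoreOf (Cfsg.primesNotDvd (Nat.card A)) (centralizer (P : Set G)), Q₂ = conjS k Q₁) ∧
    (∀ Q, IsMaxInvQ P q Q → IsMaxInvQ A q Q)

/-- The hypotheses on `A` in BG Lemma 6.5. -/
def BG65Hyp (A : Subgroup G) (q : ℕ) : Prop :=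
  Cfsg.TransitivityHypothesis A ∧ ¬ q ∣ Nat.card A ∧
    (∀ Q₁ Q₂, IsMaxInvQ A q Q₁ → IsMaxInvQ A q Q₂ →
      ∃ k ∈ Cfsg.piCoreOf (Cfsg.primesNotDvd (Nat.card A)) (centralizer (A : Set G)), Q₂ = conjS k Q₁)

/-- BG Lemma 6.5 (a), (b), (c) when `A` is normal in `P`. -/
theorem bg65_normal [Finite G] (hG : Cfsg.IsMinSimpleOddOrder G) (A : Subgroup G) (q : ℕ)
    [hq : Fact q.Prime] (hyp : BG65Hyp A q)
    (P : Subgroup G) (hP : P ≠ ⊤) (hPπ : ∀ r : ℕ, r.Prime → r ∣ Nat.card P → r ∣ Nat.card A)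
    (hAP : A ≤ P) (hPA : P ≤ normalizer (A : Set G)) : BG65Concl A P q := by
  obtain ⟨hA, hqA, htr⟩ := hyp
  have hG' := hG
  obtain ⟨_, hsimple, hnc, hsolv⟩ := hG
  have := hsimple
  set π' := Cfsg.primesNotDvd (Nat.card A) with hπ'
  set K := Cfsg.piCoreOf π' (centralizer (A : Set G)) with hK
  set KP := Cfsg.piCoreOf π' (centralizer (P : Set G)) with hKP
  have hCPA : centralizer (P : Set G) ≤ centralizer (A : Set G) := centralizer_le hAP
  have hKC : K ≤ centralizer (A : Set G) := piCoreOf_le _ _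
  have hKPC : KP ≤ centralizer (P : Set G) := piCoreOf_le _ _
  have hKpi := isPi_piCoreOf π' (centralizer (A : Set G))
  have hKPpi := isPi_piCoreOf π' (centralizer (P : Set G))
  -- (a)
  have ha : K ⊓ centralizer (P : Set G) = KP := by
    apply le_antisymm
    · apply le_piCoreOf_of_normalized π' _ _ inf_le_right
      · exact le_normalizer_inf_of_le (hCPA.trans (le_normalizer_piCoreOf π' _)) le_normalizer
      · intro r hr hrd
        exact hKpi r hr (hrd.trans (card_dvd_of_le inf_le_left))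
    · refine le_inf ?_ hKPC
      exact le_piCoreOf_centralizer_of_transitivityHypothesis A hA KP (hKPC.trans hCPA)
        (coprime_of_isPi_primesNotDvd A KP hKPpi)
  -- Glauberman's lemma setup
  let _ : MulAction G (Subgroup G) := conjSAction G
  have hPK : P ≤ normalizer (K : Set G) :=
    hPA.trans (normalizer_le_normalizer_piCoreOf_centralizer π' A)
  have hcopPK : (Nat.card P).Coprime (Nat.card K) := coprime_card_of_pi_of_pi' A P K hPπ hKpi
  have hPsolv : Group.IsSolvable P := hsolv P hP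
  have hKN : K ≤ normalizer (A : Set G) := hKC.trans (centralizer_le_normalizer _)
  obtain ⟨Q₀, hQ₀, hQ₀P⟩ := glauberman_exists_fixed P K hPK hcopPK (Or.inl hPsolv)
    {Q : Subgroup G | IsMaxInvQ A q Q}
    (by
      obtain ⟨Q, hQ, _⟩ := exists_isMaxInvQ_ge (E := A) (q := q) (R := ⊥) IsPGroup.of_bot
        (le_normalizer_of_forall_conj_mem (fun b _ u hu => by
          rw [mem_bot] at hu ⊢
          rw [hu]; group))
      exact ⟨Q, hQ⟩)
    (fun p hp Q hQ => IsMaxInvQ.conj (hPA hp) hQ)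
    (fun k hk Q hQ => IsMaxInvQ.conj (hKN hk) hQ)
    (fun Q₁ h₁ Q₂ h₂ => htr Q₁ Q₂ h₁ h₂)
  have hPQ₀ : P ≤ normalizer (Q₀ : Set G) := fun p hp => mem_normalizer_iff_conjS.mpr (hQ₀P p hp)
  -- (c)
  have hc : ∀ Q, IsMaxInvQ P q Q → IsMaxInvQ A q Q := by
    intro Q hQ
    by_cases hQ1 : Q = ⊥
    · have h1 : Q₀ = Q := hQ.2.2 Q₀ hQ₀.1 hPQ₀ (by rw [hQ1]; exact bot_le)
      rw [← h1]; exact hQ₀
    · exact isMaxInvQ_of_isMaxInvQ_overgroup hG' A hA q hqA P hP hPπ hAP Q hQ hQ1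
  refine ⟨ha, fun Q₁ Q₂ h₁ h₂ => ?_, hc⟩
  obtain ⟨k, hk, hkk⟩ := htr Q₁ Q₂ (hc Q₁ h₁) (hc Q₂ h₂)
  obtain ⟨c, hc', hcc⟩ := glauberman_conj_fixed P K hPK hcopPK (Or.inl hPsolv) Q₁ Q₂
    (fun p hp => mem_normalizer_iff_conjS.mp (h₁.2.1 hp))
    (fun p hp => mem_normalizer_iff_conjS.mp (h₂.2.1 hp)) k hk hkk
  rw [ha] at hc'
  exact ⟨c, hc', hcc⟩

/-- the transitivity hypothesis passes to `π(A)`-overgroups -/
theorem transitivityHypothesis_of_le [Finite G] (A B : Subgroup G)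
    (hA : Cfsg.TransitivityHypothesis A) (hAB : A ≤ B) (hB : B ≠ ⊤)
    (hBπ : ∀ r : ℕ, r.Prime → r ∣ Nat.card B → r ∣ Nat.card A) :
    Cfsg.primesNotDvd (Nat.card B) = Cfsg.primesNotDvd (Nat.card A) ∧
      Cfsg.TransitivityHypothesis B := by
  have hπ : Cfsg.primesNotDvd (Nat.card B) = Cfsg.primesNotDvd (Nat.card A) := by
    ext r
    constructor
    · rintro ⟨hr, hrB⟩
      exact ⟨hr, fun h => hrB (h.trans (card_dvd_of_le hAB))⟩
    · rintro ⟨hr, hrA⟩
      exact ⟨hr, fun h => hrA (hBπ r hr h)⟩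
  refine ⟨hπ, ?_, hB, ?_⟩
  · intro h
    apply hA.1
    rw [eq_bot_iff, ← h]; exact hAB
  · intro X hX hBX
    rw [hπ]
    apply le_antisymm
    · apply sSup_le
      rintro Y ⟨hYX, hYπ, hBY⟩
      rw [← hA.2.2 X hX (hAB.trans hBX)]
      exact le_sSup ⟨hYX, hYπ, hAB.trans hBY⟩
    · apply le_sSup
      exact ⟨piCoreOf_le _ _, isPi_piCoreOf _ _, hBX.trans (le_normalizer_piCoreOf _ X)⟩

/-- BG Lemma 6.5 (a), (b), (c). -/
theorem bg65_subnormal [Finite G] (hG : Cfsg.IsMinSimpleOddOrder G) (q : ℕ)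
    [hq : Fact q.Prime] (P : Subgroup G) (hP : P ≠ ⊤) (A' : Subgroup P) (hsn : A'.IsSubnormal) :
    BG65Hyp (A'.map P.subtype) q →
    (∀ r : ℕ, r.Prime → r ∣ Nat.card P → r ∣ Nat.card (A'.map P.subtype)) →
    BG65Concl (A'.map P.subtype) P q := by
  induction hsn with
  | top =>
    intro hyp hPπ
    have e : (⊤ : Subgroup P).map P.subtype = P := by
      rw [← MonoidHom.range_eq_map, range_subtype]
    rw [e] at hyp hPπ ⊢
    exact bg65_normal hG P q hyp P hP hPπ le_rfl le_normalizer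
  | step H K h_le hSubn hN ih =>
    intro hyp hPπ
    set A := H.map P.subtype with hA
    set B := K.map P.subtype with hB
    have hAB : A ≤ B := map_mono h_le
    have hBP : B ≤ P := map_subtype_le _
    have hBtop : B ≠ ⊤ := by
      intro h
      apply hP
      rw [eq_top_iff, ← h]; exact hBP
    have hBA : B ≤ normalizer (A : Set G) := by
      rw [normal_subgroupOf_iff_le_normalizer h_le] at hN
      exact (map_mono hN).trans (le_normalizer_map _)
    have hBπ : ∀ r : ℕ, r.Prime → r ∣ Nat.card B → r ∣ Nat.card A :=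
      fun r hr h => hPπ r hr (h.trans (card_dvd_of_le hBP))
    have h1 := bg65_normal hG A q hyp B hBtop hBπ hAB hBA
    obtain ⟨hπ, hTB⟩ := transitivityHypothesis_of_le A B hyp.1 hAB hBtop hBπ
    have hqB : ¬ q ∣ Nat.card B := fun h => hyp.2.1 (hBπ q hq.out h)
    have hypB : BG65Hyp B q := by
      refine ⟨hTB, hqB, ?_⟩
      rw [hπ]
      exact h1.2.1
    have hPπB : ∀ r : ℕ, r.Prime → r ∣ Nat.card P → r ∣ Nat.card B :=
      fun r hr h => (hPπ r hr h).trans (card_dvd_of_le hAB)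
    have h2 := ih hypB hPπB
    unfold BG65Concl at h1 h2 ⊢
    rw [hπ] at h2
    refine ⟨?_, h2.2.1, fun Q hQ => h1.2.2 Q (h2.2.2 Q hQ)⟩
    rw [← h2.1, ← h1.1, inf_assoc]
    congr 1
    exact (inf_eq_right.mpr (centralizer_le hBP)).symm

/-- BG Lemma 6.5 (d), from transitivity. -/
theorem bg65_d [Finite G] (P C Q : Subgroup G)
    (hNC : normalizer (P : Set G) ≤ normalizer (C : Set G)) (hCN : C ≤ normalizer (P : Set G))
    (hcop : (Nat.card C).Coprime (Nat.card P)) (hPQ : P ≤ normalizer (Q : Set G))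
    (htrans : ∀ n ∈ normalizer (P : Set G), ∃ k ∈ C, conjS n Q = conjS k Q) :
    P ⊓ ⁅normalizer (P : Set G), normalizer (P : Set G)⁆ ≤
        ⁅normalizer (Q : Set G), normalizer (Q : Set G)⁆ ∧
      normalizer (P : Set G) = C ⊔ (normalizer (P : Set G) ⊓ normalizer (Q : Set G)) := by
  set N := normalizer (P : Set G) with hN
  set M := N ⊓ normalizer (Q : Set G) with hM
  have hMN : M ≤ N := inf_le_left
  -- factorization of elements of `N`
  have hfac : ∀ n ∈ N, ∃ c ∈ C, ∃ m ∈ M, n = c * m := by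
    intro n hn
    obtain ⟨k, hk, hkk⟩ := htrans n hn
    refine ⟨k, hk, k⁻¹ * n, mem_inf.mpr ⟨N.mul_mem (N.inv_mem (hCN hk)) hn, ?_⟩, by group⟩
    rw [mem_normalizer_iff_conjS, conjS_mul, hkk, conjS_inv_conjS]
  have hsecond : N = C ⊔ M := by
    apply le_antisymm
    · intro n hn
      obtain ⟨c, hc, m, hm, rfl⟩ := hfac n hn
      exact mul_mem_sup hc hm
    · exact sup_le hCN hMN
  refine ⟨?_, hsecond⟩
  -- conjugates of `C` by `N`
  have hconj : ∀ n ∈ N, ∀ c ∈ C, n * c * n⁻¹ ∈ C := fun n hn c hc =>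
    (mem_normalizer_iff.mp (hNC hn) c).mp hc
  set M' := ⁅M, M⁆ with hM'
  have hM'M : M' ≤ M := by
    rw [hM', commutator_le]
    intro g₁ hg₁ g₂ hg₂
    rw [commutatorElement_def]
    exact M.mul_mem (M.mul_mem (M.mul_mem hg₁ hg₂) (M.inv_mem hg₁)) (M.inv_mem hg₂)
  have hM'C : M' ≤ normalizer (C : Set G) := (hM'M.trans hMN).trans hNC
  -- `N' ≤ C M'`
  have hNN : ⁅N, N⁆ ≤ C ⊔ M' := by
    rw [commutator_le]
    intro g₁ hg₁ g₂ hg₂
    obtain ⟨c₁, hc₁, m₁, hm₁, rfl⟩ := hfac g₁ hg₁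
    obtain ⟨c₂, hc₂, m₂, hm₂, rfl⟩ := hfac g₂ hg₂
    have hm₁N := hMN hm₁
    have hm₂N := hMN hm₂
    have e : ⁅c₁ * m₁, c₂ * m₂⁆ =
        (c₁ * (m₁ * c₂ * m₁⁻¹) * ((m₁ * m₂ * m₁⁻¹) * c₁⁻¹ * (m₁ * m₂ * m₁⁻¹)⁻¹) *
          ((m₁ * m₂ * m₁⁻¹ * m₂⁻¹) * c₂⁻¹ * (m₁ * m₂ * m₁⁻¹ * m₂⁻¹)⁻¹)) * ⁅m₁, m₂⁆ := by
      rw [commutatorElement_def, commutatorElement_def]; group
    rw [e]
    refine mul_mem_sup (C.mul_mem (C.mul_mem (C.mul_mem hc₁ (hconj _ hm₁N _ hc₂)) ?_) ?_)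
      (commutator_mem_commutator hm₁ hm₂)
    · exact hconj _ (N.mul_mem (N.mul_mem hm₁N hm₂N) (N.inv_mem hm₁N)) _ (C.inv_mem hc₁)
    · exact hconj _ (N.mul_mem (N.mul_mem (N.mul_mem hm₁N hm₂N) (N.inv_mem hm₁N)) (N.inv_mem hm₂N))
        _ (C.inv_mem hc₂)
  intro x hx
  obtain ⟨hxP, hxN'⟩ := mem_inf.mp hx
  have hPM : P ≤ M := le_inf le_normalizer hPQ
  have hxM : x ∈ M := hPM hxP
  have hx' : x ∈ ((C ⊔ M' : Subgroup G) : Set G) := hNN hxN'
  rw [coe_mul_of_right_le_normalizer_left C M' hM'C] at hx'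
  obtain ⟨c, hc, m, hm, hcm⟩ := Set.mem_mul.mp hx'
  have hcM : c ∈ M := by
    have : c = x * m⁻¹ := by rw [← hcm]; group
    rw [this]; exact M.mul_mem hxM (M.inv_mem (hM'M hm))
  -- pass to the abelianization of `M`
  let f : M →* Abelianization M := Abelianization.of
  have hker : ∀ y : M, f y = 1 ↔ (y : G) ∈ M' := by
    intro y
    rw [← MonoidHom.mem_ker, Abelianization.ker_of, hM', ← map_subtype_commutator]
    constructor
    · intro h; exact mem_map.mpr ⟨y, h, rfl⟩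
    · intro h
      obtain ⟨z, hz, hzy⟩ := mem_map.mp h
      have : z = y := Subtype.ext hzy
      rwa [← this]
  have hfx : f ⟨x, hxM⟩ = f ⟨c, hcM⟩ := by
    have h1 : (⟨x, hxM⟩ : M) = ⟨c, hcM⟩ * ⟨m, hM'M hm⟩ := Subtype.ext hcm.symm
    rw [h1, map_mul, (hker ⟨m, hM'M hm⟩).mpr hm, mul_one]
  have h1 : f ⟨x, hxM⟩ ^ Nat.card P = 1 := by
    rw [← map_pow]
    have : (⟨x, hxM⟩ : M) ^ Nat.card P = 1 := by
      apply Subtype.ext
      have h2 : (⟨x, hxP⟩ : P) ^ Nat.card P = 1 := pow_card_eq_one'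
      calc x ^ Nat.card P = (((⟨x, hxP⟩ : P) ^ Nat.card P : P) : G) := rfl
        _ = ((1 : P) : G) := by rw [h2]
        _ = 1 := rfl
    rw [this, map_one]
  have h2 : f ⟨x, hxM⟩ ^ Nat.card C = 1 := by
    rw [hfx, ← map_pow]
    have : (⟨c, hcM⟩ : M) ^ Nat.card C = 1 := by
      apply Subtype.ext
      have h2 : (⟨c, hc⟩ : C) ^ Nat.card C = 1 := pow_card_eq_one'
      calc c ^ Nat.card C = (((⟨c, hc⟩ : C) ^ Nat.card C : C) : G) := rfl
        _ = ((1 : C) : G) := by rw [h2]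
        _ = 1 := rfl
    rw [this, map_one]
  have h3 : orderOf (f ⟨x, hxM⟩) ∣ Nat.gcd (Nat.card C) (Nat.card P) :=
    Nat.dvd_gcd (orderOf_dvd_of_pow_eq_one h2) (orderOf_dvd_of_pow_eq_one h1)
  rw [hcop, Nat.dvd_one, orderOf_eq_one_iff] at h3
  have h4 : x ∈ M' := (hker ⟨x, hxM⟩).mp h3
  exact commutator_mono inf_le_right inf_le_right h4

end BG65

end Cfsg.Agent.Helper54
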