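import Mathlib
import Cfsg.Agent.S1467
import Cfsg.Agent.S1466

/-!
# The Puig series of a subgroup `R ≤ G`, computed inside `G`

`stepIn R X = ⟨A ≤ R abelian, X ≤ N_G(A)⟩`, `seqIn R n` the Puig series of `R` as subgroups of `G`,
`lowIn R = L_*(R)`, `upIn R = L(R)` (images in `G`), comparison lemmas (BG Appendix B).
-/

set_option autoImplicit false

namespace Cfsg.Agent.Helper54.Puig

open Subgroup Cfsg

variable {G : Type*} [Group G]

/-- relative Puig step: the subgroup generated by the abelian subgroups of `R` normalized by `X`. -/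
def stepIn (R X : Subgroup G) : Subgroup G :=
  sSup {A : Subgroup G | A ≤ R ∧ IsMulCommutative A ∧ X ≤ normalizer (A : Set G)}

theorem stepIn_le (R X : Subgroup G) : stepIn R X ≤ R := sSup_le fun _ hA => hA.1

theorem le_stepIn {R X A : Subgroup G} (hAR : A ≤ R) (hA : IsMulCommutative A)
    (hX : X ≤ normalizer (A : Set G)) : A ≤ stepIn R X := le_sSup ⟨hAR, hA, hX⟩

theorem stepIn_anti (R : Subgroup G) {X Y : Subgroup G} (h : X ≤ Y) : stepIn R Y ≤ stepIn R X :=
  sSup_le_sSup fun _ hA => ⟨hA.1, hA.2.1, h.trans hA.2.2⟩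

theorem stepIn_mono {R₁ R₂ : Subgroup G} (h : R₁ ≤ R₂) (X : Subgroup G) :
    stepIn R₁ X ≤ stepIn R₂ X :=
  sSup_le_sSup fun _ hA => ⟨hA.1.trans h, hA.2.1, hA.2.2⟩

/-- if all of `stepIn R X` lies in `Q ≤ R`, it can be computed in `Q`. -/
theorem stepIn_eq_of_le {R Q X : Subgroup G} (hQR : Q ≤ R) (h : stepIn R X ≤ Q) :
    stepIn Q X = stepIn R X :=
  le_antisymm (stepIn_mono hQR X)
    (sSup_le fun _ hA => le_stepIn ((le_sSup hA).trans h) hA.2.1 hA.2.2)

theorem map_puigStep (R : Subgroup G) (X : Subgroup R) :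
    (puigStep X).map R.subtype = stepIn R (X.map R.subtype) := by
  apply le_antisymm
  · rw [map_le_iff_le_comap]
    unfold puigStep
    apply sSup_le
    rintro A ⟨hA, hXA⟩
    rw [← map_le_iff_le_comap]
    apply le_stepIn (map_subtype_le A)
    · have := hA
      exact Subgroup.map_isMulCommutative (H := A) R.subtype
    · exact (map_mono hXA).trans (le_normalizer_map R.subtype)
  · apply sSup_le
    rintro A ⟨hAR, hA, hXA⟩
    have h1 : A = (A.subgroupOf R).map R.subtype := by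
      rw [subgroupOf_map_subtype]; exact (inf_eq_left.mpr hAR).symm
    rw [h1]
    apply map_mono
    unfold puigStep
    apply le_sSup
    refine ⟨?_, ?_⟩
    · have := hA
      infer_instance
    · intro x hx
      have h2 : (x : G) ∈ normalizer (A : Set G) := hXA (mem_map_of_mem _ hx)
      rw [mem_normalizer_iff] at h2 ⊢
      intro a
      rw [mem_subgroupOf, mem_subgroupOf]
      exact h2 a

/-- the Puig series of `R`, as subgroups of `G`. -/
def seqIn (R : Subgroup G) : ℕ → Subgroup G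
  | 0 => ⊥
  | n + 1 => stepIn R (seqIn R n)

theorem map_puigSeq (R : Subgroup G) (n : ℕ) : (puigSeq R n).map R.subtype = seqIn R n := by
  induction n with
  | zero => show (⊥ : Subgroup R).map _ = ⊥; exact map_bot _
  | succ n ih =>
    show (puigStep (puigSeq R n)).map _ = stepIn R (seqIn R n)
    rw [map_puigStep, ih]

/-- `L_*(R)` inside `G`. -/
def lowIn (R : Subgroup G) : Subgroup G := (puigLower R).map R.subtype

/-- `L(R)` inside `G`. -/
def upIn (R : Subgroup G) : Subgroup G := (puigSubgroup R).map R.subtype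

theorem stab_in [Finite G] (R : Subgroup G) :
    ∃ k : ℕ, ∀ n : ℕ, k ≤ n → seqIn R (2 * n) = lowIn R ∧ seqIn R (2 * n + 1) = upIn R := by
  obtain ⟨k, hk⟩ := Cfsg.Agent.S1467.stab (G := R)
  refine ⟨k, fun n hn => ⟨?_, ?_⟩⟩
  · rw [← map_puigSeq, (hk n hn).1]; rfl
  · rw [← map_puigSeq, (hk n hn).2]; rfl

theorem stepIn_lowIn [Finite G] (R : Subgroup G) : stepIn R (lowIn R) = upIn R := by
  unfold lowIn upIn
  rw [← map_puigStep, (Cfsg.Agent.S1467.result (G := R)).2.2.2.2.2.1]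

theorem stepIn_upIn [Finite G] (R : Subgroup G) : stepIn R (upIn R) = lowIn R := by
  unfold lowIn upIn
  rw [← map_puigStep, (Cfsg.Agent.S1467.result (G := R)).2.2.2.2.2.2]

theorem lowIn_le_upIn [Finite G] (R : Subgroup G) : lowIn R ≤ upIn R :=
  map_mono (Cfsg.Agent.S1467.result (G := R)).2.2.2.2.1

theorem upIn_le (R : Subgroup G) : upIn R ≤ R := map_subtype_le _

theorem lowIn_le (R : Subgroup G) : lowIn R ≤ R := map_subtype_le _

theorem seqIn_le (R : Subgroup G) (n : ℕ) : seqIn R n ≤ R := by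
  rw [← map_puigSeq]; exact map_subtype_le _

theorem seqIn_even_le_lowIn (R : Subgroup G) (n : ℕ) : seqIn R (2 * n) ≤ lowIn R := by
  rw [← map_puigSeq]
  exact map_mono (le_iSup (fun n => puigSeq R (2 * n)) n)

theorem upIn_le_seqIn_odd (R : Subgroup G) (n : ℕ) : upIn R ≤ seqIn R (2 * n + 1) := by
  rw [← map_puigSeq]
  exact map_mono (iInf_le (fun n => puigSeq R (2 * n + 1)) n)

theorem seqIn_one (R : Subgroup G) : seqIn R 1 = R := by
  rw [← map_puigSeq, Cfsg.Agent.S1467.puigSeq_one, ← MonoidHom.range_eq_map, range_subtype]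

/-- **Comparison lemma** for the Puig series of `R₂ ≤ R₁`. -/
theorem comparison {R₁ R₂ : Subgroup G} (h : R₂ ≤ R₁)
    (H : ∀ i : ℕ, seqIn R₂ (2 * i + 1) ≤ seqIn R₁ (2 * i + 1) → seqIn R₁ (2 * i + 2) ≤ R₂) :
    ∀ i : ℕ, seqIn R₁ (2 * i) ≤ seqIn R₂ (2 * i) ∧ seqIn R₂ (2 * i + 1) ≤ seqIn R₁ (2 * i + 1) := by
  intro i
  induction i with
  | zero =>
    refine ⟨bot_le, ?_⟩
    show seqIn R₂ 1 ≤ seqIn R₁ 1
    rw [seqIn_one, seqIn_one]; exact h
  | succ i ih =>
    have hle := H i ih.2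
    have h1 : seqIn R₁ (2 * i + 2) ≤ seqIn R₂ (2 * i + 2) := by
      show stepIn R₁ (seqIn R₁ (2 * i + 1)) ≤ stepIn R₂ (seqIn R₂ (2 * i + 1))
      apply sSup_le
      rintro A ⟨hAR, hA, hXA⟩
      exact le_stepIn ((le_stepIn hAR hA hXA).trans hle) hA (ih.2.trans hXA)
    refine ⟨h1, ?_⟩
    show stepIn R₂ (seqIn R₂ (2 * i + 2)) ≤ stepIn R₁ (seqIn R₁ (2 * i + 2))
    exact (stepIn_anti R₂ h1).trans (stepIn_mono h _)

theorem comparison_low_up [Finite G] {R₁ R₂ : Subgroup G} (h : R₂ ≤ R₁)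
    (H : ∀ i : ℕ, seqIn R₂ (2 * i + 1) ≤ seqIn R₁ (2 * i + 1) → seqIn R₁ (2 * i + 2) ≤ R₂) :
    lowIn R₁ ≤ lowIn R₂ ∧ upIn R₂ ≤ upIn R₁ := by
  obtain ⟨k1, hk1⟩ := stab_in R₁
  obtain ⟨k2, hk2⟩ := stab_in R₂
  have := comparison h H (max k1 k2)
  rw [(hk1 _ (le_max_left _ _)).1, (hk1 _ (le_max_left _ _)).2, (hk2 _ (le_max_right _ _)).1,
    (hk2 _ (le_max_right _ _)).2] at this
  exact this

/-- If `L(S) ≤ Q ≤ S` then `L(Q) = L(S)` and `L_*(Q) = L_*(S)`. -/
theorem upIn_eq_of_le [Finite G] {S Q : Subgroup G} (hQS : Q ≤ S) (h : upIn S ≤ Q) :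
    upIn Q = upIn S ∧ lowIn Q = lowIn S := by
  have h1 : lowIn S ≤ lowIn Q ∧ upIn Q ≤ upIn S := by
    apply comparison_low_up hQS
    intro i _
    have : 2 * i + 2 = 2 * (i + 1) := by ring
    rw [this]
    exact (seqIn_even_le_lowIn S (i + 1)).trans ((lowIn_le_upIn S).trans h)
  have h2 : ∀ i : ℕ, seqIn Q (2 * i) ≤ lowIn S ∧ upIn S ≤ seqIn Q (2 * i + 1) := by
    intro i
    induction i with
    | zero =>
      refine ⟨bot_le, ?_⟩
      show upIn S ≤ seqIn Q 1
      rw [seqIn_one]; exact h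
    | succ i ih =>
      have h3 : seqIn Q (2 * i + 2) ≤ lowIn S := by
        show stepIn Q (seqIn Q (2 * i + 1)) ≤ lowIn S
        rw [← stepIn_upIn S]
        exact (stepIn_anti Q ih.2).trans (stepIn_mono hQS _)
      refine ⟨h3, ?_⟩
      show upIn S ≤ stepIn Q (seqIn Q (2 * i + 2))
      have h4 : stepIn Q (lowIn S) = stepIn S (lowIn S) :=
        stepIn_eq_of_le hQS (by rw [stepIn_lowIn]; exact h)
      rw [← stepIn_lowIn S, ← h4]
      exact stepIn_anti Q h3
  obtain ⟨k, hk⟩ := stab_in Q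
  have h5 := h2 k
  rw [(hk k le_rfl).1, (hk k le_rfl).2] at h5
  exact ⟨le_antisymm h1.2 h5.2, le_antisymm h5.1 h1.1⟩

/-! ### Behaviour under homomorphisms injective on `R` -/

theorem le_normalizer_of_conj_mem {A U : Subgroup G}
    (h : ∀ b ∈ A, ∀ u ∈ U, b * u * b⁻¹ ∈ U) : A ≤ normalizer (U : Set G) := by
  intro b hb
  rw [mem_normalizer_iff]
  intro u
  refine ⟨h b hb u, fun hu => ?_⟩
  have := h b⁻¹ (A.inv_mem hb) _ hu
  simpa [mul_assoc] using this

theorem eq_of_map_eq {H : Type*} [Group H] (f : G →* H) {R : Subgroup G} (hf : R ⊓ f.ker = ⊥)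
    {a b : G} (ha : a ∈ R) (hb : b ∈ R) (h : f a = f b) : a = b := by
  have h1 : a * b⁻¹ ∈ R ⊓ f.ker := by
    refine mem_inf.mpr ⟨R.mul_mem ha (R.inv_mem hb), MonoidHom.mem_ker.mpr ?_⟩
    rw [map_mul, map_inv, h, mul_inv_cancel]
  rw [hf, mem_bot] at h1
  exact mul_inv_eq_one.mp h1

theorem map_stepIn {H : Type*} [Group H] (f : G →* H) {R X : Subgroup G} (hf : R ⊓ f.ker = ⊥)
    (hX : X ≤ R) : (stepIn R X).map f = stepIn (R.map f) (X.map f) := by
  apply le_antisymm
  · rw [map_le_iff_le_comap]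
    apply sSup_le
    rintro A ⟨hAR, hA, hXA⟩
    rw [← map_le_iff_le_comap]
    apply le_stepIn (map_mono hAR)
    · have := hA
      exact Subgroup.map_isMulCommutative (H := A) f
    · exact (map_mono hXA).trans (le_normalizer_map f)
  · apply sSup_le
    rintro B ⟨hBR, hB, hXB⟩
    set A : Subgroup G := R ⊓ B.comap f with hAdef
    have hAB : A.map f = B := by
      apply le_antisymm
      · rintro _ ⟨a, ha, rfl⟩
        exact ha.2
      · intro b hb
        obtain ⟨r, hr, rfl⟩ := hBR hb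
        exact ⟨r, ⟨hr, hb⟩, rfl⟩
    rw [← hAB]
    apply map_mono
    apply le_stepIn inf_le_left
    · refine ⟨⟨fun a b => ?_⟩⟩
      apply Subtype.ext
      have h1 : (⟨f a, a.2.2⟩ : B) * ⟨f b, b.2.2⟩ = ⟨f b, b.2.2⟩ * ⟨f a, a.2.2⟩ := mul_comm' _ _
      have h2 : f (a * b) = f (b * a) := by
        rw [map_mul, map_mul]; exact congrArg Subtype.val h1
      exact eq_of_map_eq f hf (R.mul_mem a.2.1 b.2.1) (R.mul_mem b.2.1 a.2.1) h2
    · apply le_normalizer_of_conj_mem
      intro x hx a ha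
      refine ⟨R.mul_mem (R.mul_mem (hX hx) ha.1) (R.inv_mem (hX hx)), ?_⟩
      show f (x * a * x⁻¹) ∈ B
      rw [map_mul, map_mul, map_inv]
      have hfx : f x ∈ normalizer (B : Set H) := hXB (mem_map_of_mem f hx)
      exact (mem_normalizer_iff.mp hfx (f a)).mp ha.2

theorem map_seqIn {H : Type*} [Group H] (f : G →* H) {R : Subgroup G} (hf : R ⊓ f.ker = ⊥)
    (n : ℕ) : (seqIn R n).map f = seqIn (R.map f) n := by
  induction n with
  | zero => show (⊥ : Subgroup G).map f = ⊥; exact map_bot f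
  | succ n ih =>
    show (stepIn R (seqIn R n)).map f = stepIn (R.map f) (seqIn (R.map f) n)
    rw [map_stepIn f hf (seqIn_le R n), ih]

theorem map_upIn {H : Type*} [Group H] [Finite G] [Finite H] (f : G →* H) {R : Subgroup G}
    (hf : R ⊓ f.ker = ⊥) : (upIn R).map f = upIn (R.map f) := by
  obtain ⟨k1, hk1⟩ := stab_in R
  obtain ⟨k2, hk2⟩ := stab_in (R.map f)
  rw [← (hk1 _ (le_max_left k1 k2)).2, ← (hk2 _ (le_max_right k1 k2)).2, map_seqIn f hf]

theorem map_lowIn {H : Type*} [Group H] [Finite G] [Finite H] (f : G →* H) {R : Subgroup G}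
    (hf : R ⊓ f.ker = ⊥) : (lowIn R).map f = lowIn (R.map f) := by
  obtain ⟨k1, hk1⟩ := stab_in R
  obtain ⟨k2, hk2⟩ := stab_in (R.map f)
  rw [← (hk1 _ (le_max_left k1 k2)).1, ← (hk2 _ (le_max_right k1 k2)).1, map_seqIn f hf]

/-- `U ∩ C(U)` (the centre of `U`) under a homomorphism injective on `R ≥ U`. -/
theorem map_inf_centralizer {H : Type*} [Group H] (f : G →* H) {R U : Subgroup G}
    (hf : R ⊓ f.ker = ⊥) (hU : U ≤ R) :
    (U ⊓ centralizer (U : Set G)).map f =
      U.map f ⊓ centralizer ((U.map f : Subgroup H) : Set H) := by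
  ext y
  simp only [mem_map, mem_inf]
  constructor
  · rintro ⟨x, ⟨hxU, hxC⟩, rfl⟩
    refine ⟨⟨x, hxU, rfl⟩, ?_⟩
    rw [mem_centralizer_iff]
    rintro _ ⟨u, hu, rfl⟩
    rw [← map_mul, ← map_mul, (mem_centralizer_iff.mp hxC) u hu]
  · rintro ⟨⟨x, hxU, rfl⟩, hy⟩
    refine ⟨x, ⟨hxU, ?_⟩, rfl⟩
    rw [mem_centralizer_iff]
    intro u hu
    have h1 := (mem_centralizer_iff.mp hy) (f u) (mem_map_of_mem f hu)
    rw [← map_mul, ← map_mul] at h1
    exact eq_of_map_eq f hf (R.mul_mem (hU hu) (hU hxU)) (R.mul_mem (hU hxU) (hU hu)) h1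

/-- the centre of `L(R)`, inside `G`. -/
def zIn (R : Subgroup G) : Subgroup G := upIn R ⊓ centralizer (upIn R : Set G)

theorem map_zIn {H : Type*} [Group H] [Finite G] [Finite H] (f : G →* H) {R : Subgroup G}
    (hf : R ⊓ f.ker = ⊥) : (zIn R).map f = zIn (R.map f) := by
  unfold zIn
  rw [map_inf_centralizer f hf (upIn_le R), map_upIn f hf]

theorem center_map_map (R : Subgroup G) (N : Subgroup R) :
    ((center N).map N.subtype).map R.subtype =
      N.map R.subtype ⊓ centralizer ((N.map R.subtype : Subgroup G) : Set G) := by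
  ext x
  simp only [mem_map, mem_inf]
  constructor
  · rintro ⟨_, ⟨z, hz, rfl⟩, rfl⟩
    refine ⟨⟨(z : R), z.2, rfl⟩, ?_⟩
    rw [mem_centralizer_iff]
    rintro _ ⟨w, hw, rfl⟩
    have h1 := (mem_center_iff.mp hz) ⟨w, hw⟩
    have h2 := congrArg (fun t : N => ((t : R) : G)) h1
    exact h2
  · rintro ⟨⟨w, hw, rfl⟩, hx⟩
    refine ⟨w, ⟨⟨w, hw⟩, ?_, rfl⟩, rfl⟩
    rw [mem_center_iff]
    intro v
    apply Subtype.ext
    apply Subtype.ext
    exact (mem_centralizer_iff.mp hx) ((v : R) : G) ⟨(v : R), v.2, rfl⟩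

theorem center_puigSubgroup_map (R : Subgroup G) :
    ((center (puigSubgroup R)).map (puigSubgroup R).subtype).map R.subtype = zIn R :=
  center_map_map R (puigSubgroup R)

/-! ### Conjugation -/

theorem map_conj_seqIn {R : Subgroup G} {g : G} (hg : g ∈ normalizer (R : Set G)) (n : ℕ) :
    (seqIn R n).map (MulAut.conj g) = seqIn R n := by
  have h1 : R.map (MulAut.conj g) = R := mem_normalizer_iff_map_conj_eq.mp hg
  have h2 := map_seqIn (MulAut.conj g : G →* G) (R := R) (by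
    rw [(MonoidHom.ker_eq_bot_iff _).mpr (MulAut.conj g).injective, inf_bot_eq]) n
  rw [h1] at h2
  exact h2

theorem seqIn_normal {R : Subgroup G} [hR : R.Normal] (n : ℕ) : (seqIn R n).Normal := by
  rw [normal_iff_map_conj_eq]
  intro g
  exact map_conj_seqIn (by rw [normalizer_eq_top]; exact mem_top g) n

theorem map_conj_upIn [Finite G] {R : Subgroup G} {g : G} (hg : g ∈ normalizer (R : Set G)) :
    (upIn R).map (MulAut.conj g) = upIn R := by
  obtain ⟨k, hk⟩ := stab_in R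
  rw [← (hk k le_rfl).2]
  exact map_conj_seqIn hg _

theorem map_conj_lowIn [Finite G] {R : Subgroup G} {g : G} (hg : g ∈ normalizer (R : Set G)) :
    (lowIn R).map (MulAut.conj g) = lowIn R := by
  obtain ⟨k, hk⟩ := stab_in R
  rw [← (hk k le_rfl).1]
  exact map_conj_seqIn hg _

theorem map_conj_zIn [Finite G] {R : Subgroup G} {g : G} (hg : g ∈ normalizer (R : Set G)) :
    (zIn R).map (MulAut.conj g) = zIn R := by
  unfold zIn
  have h := map_inf_centralizer (MulAut.conj g : G →* G) (R := ⊤) (U := upIn R) (by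
    rw [(MonoidHom.ker_eq_bot_iff _).mpr (MulAut.conj g).injective, inf_bot_eq]) le_top
  rw [map_conj_upIn hg] at h
  exact h

theorem upIn_normal [Finite G] {R : Subgroup G} [hR : R.Normal] : (upIn R).Normal := by
  rw [normal_iff_map_conj_eq]
  intro g
  exact map_conj_upIn (by rw [normalizer_eq_top]; exact mem_top g)

theorem lowIn_normal [Finite G] {R : Subgroup G} [hR : R.Normal] : (lowIn R).Normal := by
  rw [normal_iff_map_conj_eq]
  intro g
  exact map_conj_lowIn (by rw [normalizer_eq_top]; exact mem_top g)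

theorem normalizer_le_normalizer_zIn [Finite G] (R : Subgroup G) :
    normalizer (R : Set G) ≤ normalizer (zIn R : Set G) := fun _ hg =>
  mem_normalizer_iff_map_conj_eq.mpr (map_conj_zIn hg)

theorem normalizer_le_normalizer_upIn [Finite G] (R : Subgroup G) :
    normalizer (R : Set G) ≤ normalizer (upIn R : Set G) := fun _ hg =>
  mem_normalizer_iff_map_conj_eq.mpr (map_conj_upIn hg)

/-! ### Centralizers -/

/-- `C_R(L_n(R)) ≤ L_n(R)` for a nilpotent `R` and `n > 0` (BG B.3), inside `G`. -/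
theorem inf_centralizer_seqIn_le (R : Subgroup G) [Group.IsNilpotent R] (n : ℕ) :
    R ⊓ centralizer (seqIn R (n + 1) : Set G) ≤ seqIn R (n + 1) := by
  rintro x ⟨hxR, hxC⟩
  have := Cfsg.Agent.S1466.puigSeq_normal (R := R) n
  have h1 := Cfsg.Agent.S1466.centralizer_puigStep_le (puigSeq R n)
  have h2 : (⟨x, hxR⟩ : R) ∈ centralizer ((puigStep (puigSeq R n) : Subgroup R) : Set R) := by
    rw [mem_centralizer_iff]
    intro y hy
    apply Subtype.ext
    have h3 : (y : G) ∈ seqIn R (n + 1) := by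
      rw [← map_puigSeq]
      exact ⟨y, hy, rfl⟩
    exact (mem_centralizer_iff.mp hxC) (y : G) h3
  have h4 := h1 h2
  rw [← map_puigSeq]
  exact ⟨⟨x, hxR⟩, h4, rfl⟩

/-- An abelian subgroup of `R` normalized by `R` lies in every `stepIn R X`, `X ≤ R`. -/
theorem le_stepIn_of_normal {R A X : Subgroup G} (hAR : A ≤ R) (hA : IsMulCommutative A)
    (hRA : R ≤ normalizer (A : Set G)) (hX : X ≤ R) : A ≤ stepIn R X :=
  le_stepIn hAR hA (hX.trans hRA)

end Cfsg.Agent.Helper54.Puig
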