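import Mathlib
import Cfsg.Agent.Lib.Helper10.ConjRep
import Cfsg.Agent.Lib.Helper10.QuadPStable
import Cfsg.Agent.Lib.Helper10.MinNormal
import Cfsg.Agent.Lib.Helper10.Quadratic
import Cfsg.Agent.Lib.Helper10.StableClosure
import Cfsg.Agent.Lib.Helper11.ZJ1
import Cfsg.Agent.Lib.Helper76.SolvPSolv

/-!
# `p`-stability of solvable groups of odd order

* `isPStableOn_of_elemAb` : a solvable group `X` of odd order acts `p`-stably (`p` odd) on every normal elementary
  abelian `p`-subgroup (via helper10's Hall–Higman type theorem: a failure produces a section `SL₂(3)`).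
* `isPStableOn_step` : generic induction step: `p`-stability on `Z` and on `P/Z` gives `p`-stability on `P`
  (`Z ≤ P` normal, `Z` of exponent `p`).
* `isPStableOn_of_odd_solvable` : a solvable group of odd order acts `p`-stably on every normal `p`-subgroup.
-/

set_option autoImplicit false
set_option linter.style.haveILetI false

namespace Cfsg.Agent.Helper54

open Cfsg Subgroup
open Cfsg.Agent.Helper10 (conjRep conjRep_eq_one_iff conjRep_quadratic ElemAbAdd IsMinNormal
  exists_isMinNormal_le quad_map quadratic_conj_pow)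
open Cfsg.Agent.Helper11.ZJ (stabL stabL_normal centralizer_le_stabL stabL_pow le_pCore'
  isPGroup_subgroup_iff')
open scoped commutatorElement

universe u

section Parity

/-- `SL₂(3)` has an involution, so it is not a section of a group of odd order. -/
theorem false_of_sl23_of_odd {Γ : Type*} [Group Γ] [Finite Γ] (hodd : Odd (Nat.card Γ))
    (Γ₀ : Subgroup Γ) {F : Type*} [Field F] (φ : Γ₀ →* Matrix.SpecialLinearGroup (Fin 2) F)
    (S : Subgroup (Matrix.SpecialLinearGroup (Fin 2) F)) (hS : S ≤ φ.range)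
    (e : S ≃* Matrix.SpecialLinearGroup (Fin 2) (ZMod 3)) : False := by
  let t : Matrix.SpecialLinearGroup (Fin 2) (ZMod 3) := ⟨!![2, 0; 0, 2], by decide⟩
  have ht1 : t ≠ 1 := by
    intro h
    have h0 := congrArg (fun M : Matrix.SpecialLinearGroup (Fin 2) (ZMod 3) =>
      (M : Matrix (Fin 2) (Fin 2) (ZMod 3)) 0 0) h
    revert h0
    simp only [t]
    decide
  have ht2 : t * t = 1 := by
    apply Subtype.ext
    show (!![2, 0; 0, 2] : Matrix (Fin 2) (Fin 2) (ZMod 3)) * !![2, 0; 0, 2] = 1
    decide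
  set s : S := e.symm t with hs
  have hs1 : s ≠ 1 := by
    intro h
    apply ht1
    have := congrArg e h
    simpa [hs] using this
  have hs2 : s * s = 1 := by
    apply e.injective
    rw [map_mul, map_one, hs, e.apply_symm_apply, ht2]
  obtain ⟨γ, hγ⟩ := hS s.2
  have h1 : (φ γ) * (φ γ) = 1 := by
    rw [hγ]
    have := congrArg Subtype.val hs2
    simpa using this
  have h2 : φ γ ≠ 1 := by
    rw [hγ]
    intro h
    exact hs1 (Subtype.ext h)
  have h3 : orderOf (φ γ) = 2 := orderOf_eq_prime (by rw [pow_two]; exact h1) h2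
  have h4 : 2 ∣ Nat.card Γ := by
    rw [← h3]
    exact (orderOf_map_dvd φ γ).trans ((orderOf_dvd_natCard γ).trans (Subgroup.card_subgroup_dvd_card Γ₀))
  exact (Nat.not_even_iff_odd.mpr hodd) (even_iff_two_dvd.mpr h4)

end Parity

section ElemAb

variable {X : Type u} [Group X]

/-- A solvable group of odd order acts `p`-stably on a normal elementary abelian `p`-subgroup. -/
theorem isPStableOn_of_elemAb [Finite X] [Group.IsSolvable X] (hodd : Odd (Nat.card X)) {p : ℕ}
    [Fact p.Prime] (hp : p ≠ 2) (V : Subgroup X) [hVn : V.Normal] (hV : IsElementaryAbelian p V) :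
    IsPStableOn p V := by
  intro a hq
  by_contra hna
  set C := centralizer (V : Set X) with hC
  have hHV : (⊤ : Subgroup X) ≤ normalizer (V : Set X) := by
    rw [normalizer_eq_top_iff.mpr hVn]
  let ρX : X →* Module.End (ZMod p) (ElemAbAdd p V hV) :=
    (conjRep hV hHV).comp (Subgroup.topEquiv (G := X)).symm.toMonoidHom
  have hker : ∀ x : X, ρX x = 1 ↔ x ∈ C := fun x =>
    conjRep_eq_one_iff hV hHV ⟨x, mem_top x⟩
  let ρ : X ⧸ C →* Module.End (ZMod p) (ElemAbAdd p V hV) :=
    QuotientGroup.lift C ρX (fun x hx => (hker x).mpr hx)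
  have hρ : Function.Injective ρ := by
    rw [injective_iff_map_eq_one]
    intro q hq1
    induction q using QuotientGroup.induction_on with
    | H x =>
      have h1 : ρX x = 1 := hq1
      exact (QuotientGroup.eq_one_iff x).mpr ((hker x).mp h1)
  have hqa : ∀ m, ρ (QuotientGroup.mk a) (ρ (QuotientGroup.mk a) m - m) =
      ρ (QuotientGroup.mk a) m - m :=
    conjRep_quadratic hV hHV ⟨a, mem_top a⟩ hq
  have hsolq : Group.IsSolvable (X ⧸ C) := inferInstance
  have hsol : IsPSolvable p (X ⧸ C) := Cfsg.Agent.Helper76.isPSolvable_of_isSolvable' p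
  obtain ⟨_, Γ₀, F, _, φ, S, hS, ⟨e⟩⟩ :=
    Cfsg.Agent.Helper10.exists_sl23_of_quadratic_not_mem_pCore hp ρ hρ hsol (QuotientGroup.mk a) hqa hna
  have hoddq : Odd (Nat.card (X ⧸ C)) := Odd.of_dvd_nat hodd (Subgroup.card_quotient_dvd_card C)
  exact false_of_sl23_of_odd hoddq Γ₀ φ S hS e

end ElemAb

section Step

variable {X : Type u} [Group X]

/-- a normal subgroup which is a `p`-group modulo `C_X(P)` lies in `stabL p P` -/
theorem le_stabL_of_pow_mem {p : ℕ} [Fact p.Prime] (P : Subgroup X) [P.Normal] (D : Subgroup X)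
    [hD : D.Normal] (h : ∀ d ∈ D, ∃ k : ℕ, d ^ p ^ k ∈ centralizer (P : Set X)) :
    D ≤ stabL p P := by
  have hmapN : (D.map (QuotientGroup.mk' (centralizer (P : Set X)))).Normal :=
    hD.map _ (QuotientGroup.mk'_surjective _)
  have hmapP : IsPGroup p (D.map (QuotientGroup.mk' (centralizer (P : Set X)))) := by
    rw [isPGroup_subgroup_iff']
    rintro _ ⟨d, hd, rfl⟩
    obtain ⟨k, hk⟩ := h d hd
    refine ⟨k, ?_⟩
    rw [← map_pow]
    exact (QuotientGroup.eq_one_iff _).mpr hk
  intro d hd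
  exact le_pCore' hmapN hmapP (mem_map_of_mem _ hd)

/-- **Induction step for `p`-stability**: `Z ≤ P` normal subgroups of `X`, `Z` abelian of exponent `p`; if `a` lies in
`stabL p Z` and its image lies in `stabL p (P/Z)`, then `a ∈ stabL p P`. -/
theorem mem_stabL_of_step {p : ℕ} [Fact p.Prime] (P Z : Subgroup X) [hPn : P.Normal] [hZn : Z.Normal]
    (hZP : Z ≤ P) (hZp : ∀ z ∈ Z, z ^ p = 1) (a : X) (ha1 : a ∈ stabL p Z)
    (ha2 : haveI : (P.map (QuotientGroup.mk' Z)).Normal := hPn.map _ (QuotientGroup.mk'_surjective Z)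
      (QuotientGroup.mk' Z a) ∈ stabL p (P.map (QuotientGroup.mk' Z))) :
    a ∈ stabL p P := by
  haveI hPbar : (P.map (QuotientGroup.mk' Z)).Normal := hPn.map _ (QuotientGroup.mk'_surjective Z)
  haveI h1n := stabL_normal p Z
  haveI h2n := stabL_normal p (P.map (QuotientGroup.mk' Z))
  set D : Subgroup X := stabL p Z ⊓ (stabL p (P.map (QuotientGroup.mk' Z))).comap (QuotientGroup.mk' Z)
    with hD
  haveI hDn : D.Normal := by rw [hD]; infer_instance
  have haD : a ∈ D := mem_inf.mpr ⟨ha1, ha2⟩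
  refine le_stabL_of_pow_mem P D ?_ haD
  intro d hd
  obtain ⟨hd1, hd2⟩ := mem_inf.mp hd
  obtain ⟨k₁, hk₁⟩ := stabL_pow Z hd1
  obtain ⟨k₂, hk₂⟩ := stabL_pow (P.map (QuotientGroup.mk' Z)) (mem_comap.mp hd2)
  -- a common power
  set k := k₁ + k₂ with hk
  set e := d ^ p ^ k with he
  have heZ : e ∈ centralizer (Z : Set X) := by
    have : e = (d ^ p ^ k₁) ^ p ^ k₂ := by rw [he, hk, pow_add, pow_mul]
    rw [this]; exact pow_mem hk₁ _
  have heP : QuotientGroup.mk' Z e ∈ centralizer ((P.map (QuotientGroup.mk' Z) : Subgroup (X ⧸ Z)) : Set (X ⧸ Z)) := by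
    have : QuotientGroup.mk' Z e = ((QuotientGroup.mk' Z d) ^ p ^ k₂) ^ p ^ k₁ := by
      rw [he, hk, map_pow, add_comm, pow_add, pow_mul]
    rw [this]; exact pow_mem hk₂ _
  refine ⟨k + 1, ?_⟩
  have hpow : d ^ p ^ (k + 1) = e ^ p := by rw [he, pow_succ, pow_mul]
  rw [hpow, mem_centralizer_iff]
  intro x hx
  -- `e x e⁻¹ = z x` with `z ∈ Z`
  have hz : e * x * e⁻¹ * x⁻¹ ∈ Z := by
    rw [← QuotientGroup.eq_one_iff, ← QuotientGroup.mk'_apply]
    have h1 := (mem_centralizer_iff.mp heP) (QuotientGroup.mk' Z x) (mem_map_of_mem _ hx)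
    simp only [map_mul, map_inv]
    rw [← h1]
    group
  set z := e * x * e⁻¹ * x⁻¹ with hzdef
  have hez : ∀ h ∈ zpowers e, h * z = z * h := by
    intro h hh
    obtain ⟨i, rfl⟩ := mem_zpowers_iff.mp hh
    have h0 : z * e = e * z := (mem_centralizer_iff.mp heZ) z hz
    have h1 : Commute e z := h0.symm
    exact (h1.zpow_left i).eq
  have hconj : e * x * e⁻¹ = z * x := by rw [hzdef]; group
  have h2 := quadratic_conj_pow (H := zpowers e) (mem_zpowers e) hez hconj p
  rw [hZp z hz, one_mul] at h2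
  calc x * e ^ p = (e ^ p * x * (e ^ p)⁻¹) * e ^ p := by rw [h2]
    _ = e ^ p * x := by group

/-- **Induction step, `IsPStableOn` form.** -/
theorem isPStableOn_step {p : ℕ} [Fact p.Prime] (P Z : Subgroup X) [hPn : P.Normal] [hZn : Z.Normal]
    (hZP : Z ≤ P) (hZp : ∀ z ∈ Z, z ^ p = 1) (h1 : IsPStableOn p Z)
    (h2 : haveI : (P.map (QuotientGroup.mk' Z)).Normal := hPn.map _ (QuotientGroup.mk'_surjective Z)
      IsPStableOn p (P.map (QuotientGroup.mk' Z))) :
    IsPStableOn p P := by
  intro a hq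
  haveI hPbar : (P.map (QuotientGroup.mk' Z)).Normal := hPn.map _ (QuotientGroup.mk'_surjective Z)
  have hqZ : ⁅⁅Z, zpowers a⁆, zpowers a⁆ = ⊥ := by
    rw [eq_bot_iff, ← hq]
    exact commutator_mono (commutator_mono hZP le_rfl) le_rfl
  have hqbar := quad_map (QuotientGroup.mk' Z) hq
  exact mem_stabL_of_step P Z hZP hZp a (h1 a hqZ) (h2 _ hqbar)

end Step

section Main

/-- A solvable group of odd order acts `p`-stably on each of its normal `p`-subgroups (`p` odd). -/
theorem isPStableOn_of_odd_solvable_aux {p : ℕ} [Fact p.Prime] (hp : p ≠ 2) :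
    ∀ (n : ℕ) (X : Type u) [Group X] [Finite X] [Group.IsSolvable X], Odd (Nat.card X) →
      ∀ (P : Subgroup X) [P.Normal], IsPGroup p P → Nat.card P = n → IsPStableOn p P := by
  intro n
  induction n using Nat.strong_induction_on with
  | _ n ih =>
  intro X _ _ _ hodd P hPn hPp hn
  by_cases hP1 : P = ⊥
  · intro a _
    apply centralizer_le_stabL p P
    rw [hP1, mem_centralizer_iff]
    intro h hh
    rw [coe_bot, Set.mem_singleton_iff] at hh
    rw [hh]; simp
  obtain ⟨Z, hZmin, hZP⟩ := exists_isMinNormal_le P hP1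
  haveI hZn : Z.Normal := hZmin.1
  obtain ⟨r, hr, hrd, hrpow⟩ := hZmin.exists_prime_pow_eq_one
  have hab := hZmin.isMulCommutative
  -- `r = p`
  have hrp : r = p := by
    have hZp : IsPGroup p Z := hPp.to_le hZP
    obtain ⟨k, hk⟩ := IsPGroup.iff_card.mp hZp
    rw [hk] at hrd
    exact (Nat.prime_dvd_prime_iff_eq hr (Fact.out : p.Prime)).mp (hr.dvd_of_dvd_pow hrd)
  rw [hrp] at hrpow
  have hZe : IsElementaryAbelian p Z := ⟨hab, hrpow⟩
  have h1 : IsPStableOn p Z := isPStableOn_of_elemAb hodd hp Z hZe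
  haveI hPbar : (P.map (QuotientGroup.mk' Z)).Normal := hPn.map _ (QuotientGroup.mk'_surjective Z)
  have hsolq : Group.IsSolvable (X ⧸ Z) := inferInstance
  have hoddq : Odd (Nat.card (X ⧸ Z)) := Odd.of_dvd_nat hodd (Subgroup.card_quotient_dvd_card Z)
  have hcard : Nat.card (P.map (QuotientGroup.mk' Z)) < n := by
    rw [← hn]
    have hsurj : Function.Surjective ((QuotientGroup.mk' Z).subgroupMap P) :=
      (QuotientGroup.mk' Z).subgroupMap_surjective P
    have hninj : ¬ Function.Injective ((QuotientGroup.mk' Z).subgroupMap P) := by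
      intro hinj
      apply hZmin.2.1
      rw [eq_bot_iff]
      intro z hz
      have h0 : (QuotientGroup.mk' Z).subgroupMap P ⟨z, hZP hz⟩ = (QuotientGroup.mk' Z).subgroupMap P 1 := by
        apply Subtype.ext
        simp only [MonoidHom.subgroupMap_apply_coe, map_one, coe_one]
        exact (QuotientGroup.eq_one_iff z).mpr hz
      have := congrArg Subtype.val (hinj h0)
      simpa using this
    haveI := Fintype.ofFinite P
    haveI := Fintype.ofFinite (P.map (QuotientGroup.mk' Z))
    rw [Nat.card_eq_fintype_card, Nat.card_eq_fintype_card]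
    exact Fintype.card_lt_of_surjective_not_injective _ hsurj hninj
  have h2 : IsPStableOn p (P.map (QuotientGroup.mk' Z)) :=
    ih _ hcard (X ⧸ Z) hoddq _ (hPp.map _) rfl
  exact isPStableOn_step P Z hZP hrpow h1 h2

/-- **`p`-stability of solvable groups of odd order.** -/
theorem isPStableOn_of_odd_solvable {X : Type u} [Group X] [Finite X] [Group.IsSolvable X]
    (hodd : Odd (Nat.card X)) {p : ℕ} [Fact p.Prime] (hp : p ≠ 2) (P : Subgroup X) [P.Normal]
    (hP : IsPGroup p P) : IsPStableOn p P :=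
  isPStableOn_of_odd_solvable_aux hp _ X hodd P hP rfl

end Main

end Cfsg.Agent.Helper54
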