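import Mathlib
import Cfsg.Prelude.Def_Characters

/-!
# S4756 (characters multiplicative on coprime prime-power elements): shared definitions

`PPair x y` : `x, y` are non-identity elements of prime-power orders for two different primes.
`Mult G`    : condition (1) of S4756.
`ConjK G`   : the key consequence (K): for a `PPair x y` the whole coset `x y G'` is one conjugacy class.
`Struct G`  : the third alternative of condition (2) of S4756, verbatim.
-/

set_option autoImplicit false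

namespace Cfsg.Agent.Helper54.CHM

open Cfsg

/-- `x, y` are non-identity elements of prime-power orders for two different primes. -/
def PPair {G : Type*} [Group G] (x y : G) : Prop :=
  x ≠ 1 ∧ y ≠ 1 ∧
    ∃ p q a b : ℕ, p.Prime ∧ q.Prime ∧ p ≠ q ∧ orderOf x = p ^ a ∧ orderOf y = q ^ b

/-- Condition (1) of S4756. -/
def Mult (G : Type*) [Group G] : Prop :=
  ∀ (x y : G) (χ : Cfsg.IrrCharacter G), PPair x y →
    (χ : G → ℂ) (x * y) = (χ : G → ℂ) x * (χ : G → ℂ) y

/-- Key consequence (K): for a `PPair x y`, every element of the coset `x y G'` is conjugate to `x y`. -/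
def ConjK (G : Type*) [Group G] : Prop :=
  ∀ x y : G, PPair x y → ∀ c ∈ commutator G, IsConj (x * y) (x * y * c)

/-- The third alternative of condition (2) of S4756 (verbatim). -/
def Struct (G : Type*) [Group G] : Prop :=
  ∃ (p : ℕ) (_ : Fact p.Prime) (P : Sylow p G) (A : Subgroup G), (P : Subgroup G).Normal ∧
    IsCyclic ↥A ∧ A ≠ ⊥ ∧ (Nat.card ↥A).Coprime p ∧ A ⊔ (P : Subgroup G) = ⊤ ∧
    IsMulCommutative ↥((P : Subgroup G) ⊓ Subgroup.centralizer (A : Set G)) ∧
    (⁅A, (P : Subgroup G)⁆).Normal ∧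
    ((P : Subgroup G) ⊓ Subgroup.centralizer (A : Set G)) ⊔ ⁅A, (P : Subgroup G)⁆ = (P : Subgroup G) ∧
    ((P : Subgroup G) ⊓ Subgroup.centralizer (A : Set G)) ⊓ ⁅A, (P : Subgroup G)⁆ = ⊥ ∧
    ∀ a ∈ A, a ≠ 1 → ∀ d ∈ ⁅A, (P : Subgroup G)⁆, a * d = d * a → d = 1

theorem mult_iff {G : Type*} [Group G] :
    Mult G ↔ ∀ (x y : G) (χ : Cfsg.IrrCharacter G), x ≠ 1 → y ≠ 1 →
      (∃ p q a b : ℕ, p.Prime ∧ q.Prime ∧ p ≠ q ∧ orderOf x = p ^ a ∧ orderOf y = q ^ b) →
      (χ : G → ℂ) (x * y) = (χ : G → ℂ) x * (χ : G → ℂ) y := by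
  constructor
  · intro h x y χ hx hy hxy
    exact h x y χ ⟨hx, hy, hxy⟩
  · intro h x y χ hxy
    exact h x y χ hxy.1 hxy.2.1 hxy.2.2

theorem PPair.symm {G : Type*} [Group G] {x y : G} (h : PPair x y) : PPair y x := by
  obtain ⟨hx, hy, p, q, a, b, hp, hq, hpq, hxa, hyb⟩ := h
  exact ⟨hy, hx, q, p, b, a, hq, hp, hpq.symm, hyb, hxa⟩

theorem PPair.conj_left {G : Type*} [Group G] {x y : G} (h : PPair x y) (g : G) :
    PPair (g * x * g⁻¹) y := by
  obtain ⟨hx, hy, p, q, a, b, hp, hq, hpq, hxa, hyb⟩ := h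
  refine ⟨?_, hy, p, q, a, b, hp, hq, hpq, ?_, hyb⟩
  · intro h1
    apply hx
    have : x = g⁻¹ * (g * x * g⁻¹) * g := by group
    rw [this, h1]; group
  · rw [← hxa]
    exact (MulAut.conj g).orderOf_eq x

end Cfsg.Agent.Helper54.CHM
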