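import Mathlib
import Cfsg.Prelude.Def_Local
import Cfsg.Agent.Lib.Helper54.PConstrained
import Cfsg.Agent.Lib.Helper54.PSolv

/-!
# `p`-constraint of `p`-locals from centralizers of elements of order `p`

* `IsPConstrained.of_surjective` : images of `p`-constrained groups under surjections with `p'`-kernel;
* `isCharP_of_subgroup_isPConstrained` : a group `X` with `O_{p'}(X) = 1` having a `p`-constrained subgroup
  containing `O_p(X) C_X(O_p(X))` has characteristic `p`;
* `isPConstrained_of_centralizers` : a group with a nontrivial normal `p`-subgroup `T` such that `C(x)` is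
  `p`-constrained for all `x ∈ Z(T)` of order `p` is `p`-constrained.
-/

set_option autoImplicit false

namespace Cfsg.Agent.Helper54

open Cfsg

variable {G : Type*} [Group G]

/-- A nontrivial normal subgroup of a nilpotent group meets the centre nontrivially.
(Same argument as `Cfsg.Agent.Helper62.normal_inf_center_ne_bot`, restated here with light imports.) -/
theorem normal_inf_center_ne_bot {N : Type*} [Group N] [Group.IsNilpotent N]
    (K : Subgroup N) [K.Normal] (hK : K ≠ ⊥) : K ⊓ Subgroup.center N ≠ ⊥ := by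
  classical
  let c : ℕ → Subgroup N := fun j => Nat.rec K (fun _ X => ⁅X, (⊤ : Subgroup N)⁆) j
  have c0 : c 0 = K := rfl
  have cs : ∀ j, c (j + 1) = ⁅c j, (⊤ : Subgroup N)⁆ := fun j => rfl
  have hcn : ∀ j, (c j).Normal := by
    intro j
    induction j with
    | zero => rw [c0]; infer_instance
    | succ j ih => rw [cs]; exact @Subgroup.commutator_normal _ _ (c j) ⊤ ih inferInstance
  have hcK : ∀ j, c j ≤ K := by
    intro j
    induction j with
    | zero => rw [c0]
    | succ j ih =>
      rw [cs]
      exact (@Subgroup.commutator_le_left _ _ (c j) ⊤ (hcn j)).trans ih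
  have hcl : ∀ j, c j ≤ (⊤ : Subgroup N).lowerCentralSeries j := by
    intro j
    induction j with
    | zero => rw [c0]; simp
    | succ j ih =>
      rw [cs, Subgroup.lowerCentralSeries_succ]
      exact Subgroup.commutator_mono ih le_rfl
  obtain ⟨n, hn⟩ := Subgroup.nilpotent_iff_lowerCentralSeries.mp (inferInstance : Group.IsNilpotent N)
  have hex : ∃ j, c j = ⊥ := ⟨n, le_bot_iff.mp (hn ▸ hcl n)⟩
  obtain ⟨j, hj, hjmin⟩ : ∃ j, c j = ⊥ ∧ ∀ i < j, c i ≠ ⊥ :=
    ⟨@Nat.find (fun n => c n = ⊥) (Classical.decPred _) hex,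
      @Nat.find_spec (fun n => c n = ⊥) (Classical.decPred _) hex,
      fun i hi => @Nat.find_min (fun n => c n = ⊥) (Classical.decPred _) hex i hi⟩
  have hj0 : j ≠ 0 := by
    intro h
    rw [h, c0] at hj
    exact hK hj
  obtain ⟨i, hi⟩ := Nat.exists_eq_succ_of_ne_zero hj0
  have hci : c i ≠ ⊥ := by
    have : i < j := by omega
    exact hjmin i this
  have hcomm : ⁅c i, (⊤ : Subgroup N)⁆ = ⊥ := by
    rw [← cs, ← Nat.succ_eq_add_one, ← hi]; exact hj
  have hcen : c i ≤ Subgroup.center N := Subgroup.commutator_top_right_eq_bot_iff_le_center.mp hcomm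
  intro h
  apply hci
  rw [eq_bot_iff, ← h]
  exact le_inf (hcK i) hcen

/-- Images of `p`-constrained groups under surjections with `p'`-kernel are `p`-constrained. -/
theorem IsPConstrained.of_surjective {A B : Type*} [Group A] [Group B] [Finite A] {p : ℕ} [hp : Fact p.Prime]
    (f : A →* B) (hf : Function.Surjective f) (hker : (Nat.card f.ker).Coprime p)
    (hA : IsPConstrained p A) : IsPConstrained p B := by
  have : Finite B := Finite.of_surjective f hf
  rw [isPConstrained_iff_isCharP_quotient] at hA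
  set KA := pPrimeCore p A with hKA
  have hKAn : KA.Normal := pPrimeCore_normal' p
  set L := KA.map f with hL
  have hLn : L.Normal := hKAn.map f hf
  have hLc : (Nat.card L).Coprime p :=
    Nat.Coprime.coprime_dvd_left (Subgroup.card_map_dvd _ f) (pPrimeCore_coprime p)
  set g : A →* B ⧸ L := (QuotientGroup.mk' L).comp f with hg
  have hgs : Function.Surjective g := (QuotientGroup.mk'_surjective L).comp hf
  have hgker : g.ker = KA := by
    ext a
    rw [MonoidHom.mem_ker, hg, MonoidHom.comp_apply, QuotientGroup.mk'_apply, QuotientGroup.eq_one_iff]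
    constructor
    · rintro ⟨k, hk, hkf⟩
      have h1 : k⁻¹ * a ∈ f.ker := by
        rw [MonoidHom.mem_ker, map_mul, map_inv, hkf, inv_mul_cancel]
      have h2 : k⁻¹ * a ∈ KA := le_pPrimeCore (MonoidHom.normal_ker f) hker h1
      have := KA.mul_mem hk h2
      simpa using this
    · intro ha
      exact Subgroup.mem_map_of_mem f ha
  have e : A ⧸ KA ≃* B ⧸ L :=
    (QuotientGroup.quotientMulEquivOfEq hgker.symm).trans (QuotientGroup.quotientKerEquivOfSurjective g hgs)
  have hBL : IsCharP p (B ⧸ L) := hA.of_mulEquiv e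
  refine isPConstrained_of_surjective (QuotientGroup.mk' L) (QuotientGroup.mk'_surjective L) ?_ hBL
  rw [QuotientGroup.ker_mk']
  exact hLc

/-- A finite group `X` with `O_{p'}(X) = 1` which has a `p`-constrained subgroup `Y` containing `O_p(X)` and
`C_X(O_p(X))` has characteristic `p`. -/
theorem isCharP_of_subgroup_isPConstrained {X : Type*} [Group X] [Finite X] {p : ℕ} [hp : Fact p.Prime]
    (hX : pPrimeCore p X = ⊥) (Y : Subgroup X) (hRY : pCore p X ≤ Y)
    (hDY : Subgroup.centralizer (pCore p X : Set X) ≤ Y) (hY : IsPConstrained p Y) : IsCharP p X := by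
  set R := pCore p X with hR
  have hRn : R.Normal := pCore_normal' p
  have hRp : IsPGroup p R := isPGroup_pCore
  set D := Subgroup.centralizer (R : Set X) with hD
  have hDn : D.Normal := inferInstance
  rw [isPConstrained_iff_isCharP_quotient] at hY
  set V := pPrimeCore p Y with hV
  have hVn : V.Normal := pPrimeCore_normal' p
  have hVc : (Nat.card V).Coprime p := pPrimeCore_coprime p
  have hQn : (pCore p (Y ⧸ V)).Normal := pCore_normal' p
  set ι : D →* Y := Subgroup.inclusion hDY with hι
  set φ : D →* Y ⧸ V := (QuotientGroup.mk' V).comp ι with hφ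
  have hDbot : pPrimeCore p D = ⊥ := pPrimeCore_eq_bot_of_normal p D hX
  have hφker : ∀ d : D, φ d = 1 → d = 1 := by
    intro d hd
    have h1 : V.comap ι ≤ pPrimeCore p D := by
      apply le_pPrimeCore
      · infer_instance
      · exact Nat.Coprime.coprime_dvd_left
          (Subgroup.card_comap_dvd_of_injective V ι (Subgroup.inclusion_injective hDY)) hVc
    rw [hDbot, le_bot_iff] at h1
    have h2 : d ∈ V.comap ι := by
      rw [Subgroup.mem_comap]
      have h3 : (QuotientGroup.mk' V) (ι d) = 1 := hd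
      rwa [QuotientGroup.mk'_apply, QuotientGroup.eq_one_iff] at h3
    rw [h1, Subgroup.mem_bot] at h2
    exact h2
  set E : Subgroup D := (pCore p (Y ⧸ V)).comap φ with hE
  have hEn : E.Normal := inferInstance
  have hEp : IsPGroup p E := by
    rintro ⟨e, he⟩
    have he' : φ e ∈ pCore p (Y ⧸ V) := he
    obtain ⟨k, hk⟩ := (isPGroup_pCore (p := p) (G := Y ⧸ V)) ⟨φ e, he'⟩
    refine ⟨k, ?_⟩
    have h1 : φ (e ^ p ^ k) = 1 := by
      rw [map_pow]
      exact congrArg Subtype.val hk
    have h2 := hφker _ h1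
    exact Subtype.ext h2
  have hER : ∀ d : D, φ d ∈ pCore p (Y ⧸ V) → (d : X) ∈ R := by
    intro d hd
    have h1 : d ∈ pCore p D := le_pCore hEn hEp hd
    exact pCore_map_le p D (Subgroup.mem_map_of_mem D.subtype h1)
  have hDp : IsPGroup p D := by
    apply isPGroup_of_pprime_elements_trivial
    intro y hy hyo
    set y' : D := ⟨y, hy⟩ with hy'
    have h1 : φ y' = 1 := by
      apply eq_one_of_centralizes_of_isCharP hY ((R.subgroupOf Y).map (QuotientGroup.mk' V))
        ((hRp.comap_subtype).map _) (φ y')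
      · rw [Subgroup.mem_centralizer_iff]
        rintro _ ⟨r, hr, rfl⟩
        have hr' : (r : X) ∈ R := Subgroup.mem_subgroupOf.mp hr
        have h2 : (r : X) * y = y * (r : X) := (Subgroup.mem_centralizer_iff.mp hy) _ hr'
        show (QuotientGroup.mk' V) r * (QuotientGroup.mk' V) (ι y') =
          (QuotientGroup.mk' V) (ι y') * (QuotientGroup.mk' V) r
        rw [← map_mul, ← map_mul]
        congr 1
        exact Subtype.ext h2
      · intro u hu
        obtain ⟨c, rfl⟩ := QuotientGroup.mk'_surjective V u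
        have hc : ∀ t ∈ R.subgroupOf Y, c * t * c⁻¹ * t⁻¹ ∈ V := by
          intro t ht
          have h2 := (Subgroup.mem_centralizer_iff.mp hu.2) _ (Subgroup.mem_map_of_mem _ ht)
          rw [← QuotientGroup.eq_one_iff, ← QuotientGroup.mk'_apply]
          simp only [map_mul, map_inv]
          rw [← h2]
          group
        obtain ⟨k, hk, hck⟩ := exists_mul_mem_centralizer V hVc (R.subgroupOf Y) hRp.comap_subtype c hc
        have hdD : ((c * k : Y) : X) ∈ D := by
          rw [hD, Subgroup.mem_centralizer_iff]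
          intro r hr
          have := (Subgroup.mem_centralizer_iff.mp hck) ⟨r, hRY hr⟩ (Subgroup.mem_subgroupOf.mpr hr)
          exact congrArg Subtype.val this
        have hπ : (QuotientGroup.mk' V) (c * k) = (QuotientGroup.mk' V) c := by
          rw [map_mul, QuotientGroup.mk'_apply, QuotientGroup.mk'_apply,
            (QuotientGroup.eq_one_iff k).mpr hk, mul_one]
        set d : D := ⟨((c * k : Y) : X), hdD⟩ with hd
        have hιd : ι d = c * k := Subtype.ext rfl
        have hφd : φ d = (QuotientGroup.mk' V) c := by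
          show (QuotientGroup.mk' V) (ι d) = _
          rw [hιd, hπ]
        have hdR : (d : X) ∈ R := hER d (by rw [hφd]; exact hu.1)
        have h3 : (d : X) * y = y * (d : X) := (Subgroup.mem_centralizer_iff.mp hy) _ hdR
        have h4 : d * y' = y' * d := Subtype.ext h3
        rw [← hφd, ← map_mul, ← map_mul, h4]
      · have h5 : orderOf (φ y') ∣ orderOf y' := orderOf_map_dvd φ y'
        have h6 : orderOf y' = orderOf y := Subgroup.orderOf_mk y hy
        rw [h6] at h5
        exact Nat.Coprime.coprime_dvd_left h5 hyo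
    have := hφker y' h1
    exact congrArg Subtype.val this
  exact le_pCore hDn hDp

/-- A finite group `N` with a nontrivial normal `p`-subgroup `T` such that `C_N(x)` is `p`-constrained for every
`x ∈ Z(T)` of order `p` is `p`-constrained. -/
theorem isPConstrained_of_centralizers {N : Type*} [Group N] [Finite N] {p : ℕ} [hp : Fact p.Prime]
    (T : Subgroup N) [hTn : T.Normal] (hT : IsPGroup p T) (hT1 : T ≠ ⊥)
    (h : ∀ x ∈ T, orderOf x = p → (∀ t ∈ T, t * x = x * t) →
      IsPConstrained p ↥(Subgroup.centralizer ({x} : Set N))) : IsPConstrained p N := by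
  rw [isPConstrained_iff_isCharP_quotient]
  set W := pPrimeCore p N with hW
  have hWn : W.Normal := pPrimeCore_normal' p
  have hWc : (Nat.card W).Coprime p := pPrimeCore_coprime p
  have hWT : W ⊓ T = ⊥ := inf_eq_bot_of_isPGroup_of_coprime W T hWc hT
  set π := QuotientGroup.mk' W with hπ
  have hπs : Function.Surjective π := QuotientGroup.mk'_surjective W
  have hπ1 : ∀ n : N, π n = 1 ↔ n ∈ W := by
    intro n
    rw [hπ, QuotientGroup.mk'_apply, QuotientGroup.eq_one_iff]
  have hbot : pPrimeCore p (N ⧸ W) = ⊥ := pPrimeCore_quotient_eq_bot p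
  set R := pCore p (N ⧸ W) with hR
  have hRn : R.Normal := pCore_normal' p
  have hRp : IsPGroup p R := isPGroup_pCore
  have hTbn : (T.map π).Normal := hTn.map π hπs
  have hTR : T.map π ≤ R := le_pCore hTbn (hT.map π)
  set Z := R ⊓ Subgroup.centralizer (R : Set (N ⧸ W)) with hZ
  set A := T ⊓ Z.comap π with hA
  have hA1 : A ≠ ⊥ := by
    have hnil : Group.IsNilpotent R := hRp.isNilpotent
    have hKn : ((T.map π).subgroupOf R).Normal := inferInstance
    have hK1 : (T.map π).subgroupOf R ≠ ⊥ := by
      intro hK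
      apply hT1
      rw [eq_bot_iff]
      intro t ht
      have h1 : (⟨π t, hTR (Subgroup.mem_map_of_mem π ht)⟩ : R) ∈ (T.map π).subgroupOf R :=
        Subgroup.mem_subgroupOf.mpr (Subgroup.mem_map_of_mem π ht)
      rw [hK, Subgroup.mem_bot] at h1
      have h2 : π t = 1 := congrArg Subtype.val h1
      have h3 : t ∈ W := (hπ1 t).mp h2
      rw [← hWT]
      exact ⟨h3, ht⟩
    have h2 := normal_inf_center_ne_bot ((T.map π).subgroupOf R) hK1
    obtain ⟨⟨z, hz⟩, hz1⟩ := (Subgroup.ne_bot_iff_exists_ne_one).mp h2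
    obtain ⟨t, ht, htz⟩ := Subgroup.mem_subgroupOf.mp hz.1
    intro hAbot
    have htA : t ∈ A := by
      refine Subgroup.mem_inf.mpr ⟨ht, ?_⟩
      rw [Subgroup.mem_comap, htz]
      refine Subgroup.mem_inf.mpr ⟨z.2, ?_⟩
      rw [Subgroup.mem_centralizer_iff]
      intro r hr
      have h3 := (Subgroup.mem_center_iff.mp hz.2) ⟨r, hr⟩
      exact congrArg Subtype.val h3
    rw [hAbot, Subgroup.mem_bot] at htA
    apply hz1
    apply Subtype.ext
    apply Subtype.ext
    rw [← htz, htA, map_one]
    rfl
  have hAp : IsPGroup p A := hT.to_le inf_le_left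
  have hdvd : p ∣ Nat.card A := by
    obtain ⟨n, hn⟩ := IsPGroup.iff_card.mp hAp
    rcases n with _ | n
    · rw [pow_zero, Subgroup.card_eq_one] at hn
      exact absurd hn hA1
    · rw [hn, pow_succ]
      exact Dvd.intro_left _ rfl
  obtain ⟨a, ha⟩ := exists_prime_orderOf_dvd_card' p hdvd
  set x : N := (a : N) with hx
  have hxo : orderOf x = p := by rw [hx, Subgroup.orderOf_coe]; exact ha
  have hxT : x ∈ T := a.2.1
  have hxZ : π x ∈ Z := a.2.2
  have hxc : ∀ t ∈ T, t * x = x * t := by
    intro t ht
    have h1 : t * x * t⁻¹ * x⁻¹ ∈ W ⊓ T := by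
      refine Subgroup.mem_inf.mpr ⟨?_, ?_⟩
      · rw [← hπ1]
        simp only [map_mul, map_inv]
        have h2 := (Subgroup.mem_centralizer_iff.mp hxZ.2) (π t) (hTR (Subgroup.mem_map_of_mem π ht))
        rw [h2]
        group
      · exact T.mul_mem (hTn.conj_mem x hxT t) (T.inv_mem hxT)
    rw [hWT, Subgroup.mem_bot] at h1
    calc t * x = (t * x * t⁻¹ * x⁻¹) * x * t := by group
      _ = x * t := by rw [h1, one_mul]
  have hY0 := h x hxT hxo hxc
  set Y0 := Subgroup.centralizer ({x} : Set N) with hY0def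
  set Yb := Y0.map π with hYb
  have hYb : IsPConstrained p Yb := by
    refine IsPConstrained.of_surjective (π.subgroupMap Y0) (π.subgroupMap_surjective Y0) ?_ hY0
    have h1 : (π.subgroupMap Y0).ker.map Y0.subtype ≤ W := by
      rintro _ ⟨y, hy, rfl⟩
      have hy' : (π.subgroupMap Y0) y = 1 := MonoidHom.mem_ker.mp hy
      have h2 : π (y : N) = 1 := congrArg Subtype.val hy'
      exact (hπ1 _).mp h2
    have h3 : Nat.card (π.subgroupMap Y0).ker = Nat.card ((π.subgroupMap Y0).ker.map Y0.subtype) :=
      Nat.card_congr ((π.subgroupMap Y0).ker.equivMapOfInjective Y0.subtype Y0.subtype_injective).toEquiv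
    rw [h3]
    exact Nat.Coprime.coprime_dvd_left (Subgroup.card_dvd_of_le h1) hWc
  have key : ∀ y : N ⧸ W, y * π x = π x * y → y ∈ Yb := by
    intro y hy
    obtain ⟨c, rfl⟩ := hπs y
    have hzp : IsPGroup p (Subgroup.zpowers x) := by
      apply IsPGroup.of_card (n := 1)
      rw [Nat.card_zpowers, hxo, pow_one]
    have hc : ∀ t ∈ Subgroup.zpowers x, c * t * c⁻¹ * t⁻¹ ∈ W := by
      intro t ht
      obtain ⟨k, rfl⟩ := Subgroup.mem_zpowers_iff.mp ht
      rw [← hπ1]
      simp only [map_mul, map_inv, map_zpow]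
      have h1 : Commute (π c) (π x) := hy
      rw [(h1.zpow_right k).eq]
      group
    obtain ⟨k0, hk0, hck⟩ := exists_mul_mem_centralizer W hWc (Subgroup.zpowers x) hzp c hc
    have h2 : c * k0 ∈ Y0 := by
      rw [hY0def, Subgroup.mem_centralizer_iff]
      intro s hs
      rw [Set.mem_singleton_iff] at hs
      subst hs
      exact (Subgroup.mem_centralizer_iff.mp hck) _ (Subgroup.mem_zpowers _)
    have h3 : π (c * k0) = π c := by
      rw [map_mul, (hπ1 k0).mpr hk0, mul_one]
    rw [← h3]
    exact Subgroup.mem_map_of_mem π h2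
  have hRY : R ≤ Yb := by
    intro r hr
    exact key r ((Subgroup.mem_centralizer_iff.mp hxZ.2) r hr)
  have hDY : Subgroup.centralizer (R : Set (N ⧸ W)) ≤ Yb := by
    intro d hd
    exact key d ((Subgroup.mem_centralizer_iff.mp hd) (π x) hxZ.1).symm
  exact isCharP_of_subgroup_isPConstrained hbot Yb hRY hDY hYb

/-- `H ∩ K` as a subgroup of `K` and as a subgroup of `H`. -/
def subgroupOfSwap (H K : Subgroup G) : ↥(H.subgroupOf K) ≃* ↥(K.subgroupOf H) where
  toFun a := ⟨⟨a.1.1, Subgroup.mem_subgroupOf.mp a.2⟩, Subgroup.mem_subgroupOf.mpr a.1.2⟩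
  invFun b := ⟨⟨b.1.1, Subgroup.mem_subgroupOf.mp b.2⟩, Subgroup.mem_subgroupOf.mpr b.1.2⟩
  left_inv _ := rfl
  right_inv _ := rfl
  map_mul' _ _ := rfl

end Cfsg.Agent.Helper54
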