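import Mathlib
import Cfsg.Prelude.Def_PLocal
import Cfsg.Prelude.Def_LocalEven

/-!
# Iterated commutators with `⟨g⟩` on chief factors (Glauberman's critical subgroup lemma)

* `three_subgroups_le'` : three subgroups lemma modulo a subgroup normalized by the three subgroups.
* `core` : Leibniz rule for the commutator pairing `N × A⁺ → D / D'`.
* `chief_below` : the chief-factor statement for a normal subgroup `P` with a "critical-like"
  subgroup `Q` (`[P,Q] ≤ Z(Q)`, `C_P(Q) = Z(Q)`).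
-/

set_option autoImplicit false

namespace Cfsg.Agent.Helper54.Crit

open Subgroup Cfsg
open scoped commutatorElement

variable {G : Type*} [Group G]

/-! ### Generalities -/

theorem subgroupOf_commutator {Γ K₁ K₂ : Subgroup G} (h1 : K₁ ≤ Γ) (h2 : K₂ ≤ Γ) :
    ⁅K₁.subgroupOf Γ, K₂.subgroupOf Γ⁆ = (⁅K₁, K₂⁆).subgroupOf Γ := by
  apply Subgroup.map_injective Γ.subtype_injective
  rw [Subgroup.map_commutator, subgroupOf_map_subtype, subgroupOf_map_subtype,
    subgroupOf_map_subtype, inf_eq_left.mpr h1, inf_eq_left.mpr h2]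
  refine (inf_eq_left.mpr ?_).symm
  rw [Subgroup.commutator_le]
  intro a ha b hb
  exact Γ.mul_mem (Γ.mul_mem (Γ.mul_mem (h1 ha) (h2 hb)) (Γ.inv_mem (h1 ha))) (Γ.inv_mem (h2 hb))

theorem commutator_le_of_le {Γ K₁ K₂ : Subgroup G} (h1 : K₁ ≤ Γ) (h2 : K₂ ≤ Γ) : ⁅K₁, K₂⁆ ≤ Γ := by
  rw [Subgroup.commutator_le]
  intro a ha b hb
  exact Γ.mul_mem (Γ.mul_mem (Γ.mul_mem (h1 ha) (h2 hb)) (Γ.inv_mem (h1 ha))) (Γ.inv_mem (h2 hb))

/-- Three subgroups lemma modulo a normal subgroup (as in helper62's `LowerCentral`). -/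
theorem three_subgroups_le {H₁ H₂ H₃ T : Subgroup G} [T.Normal] (h1 : ⁅⁅H₂, H₃⁆, H₁⁆ ≤ T)
    (h2 : ⁅⁅H₃, H₁⁆, H₂⁆ ≤ T) : ⁅⁅H₁, H₂⁆, H₃⁆ ≤ T := by
  have key : ∀ A : Subgroup G, A ≤ T ↔ A.map (QuotientGroup.mk' T) = ⊥ := by
    intro A
    rw [Subgroup.map_eq_bot_iff, QuotientGroup.ker_mk']
  rw [key, Subgroup.map_commutator, Subgroup.map_commutator] at *
  exact Subgroup.commutator_commutator_eq_bot_of_rotate h1 h2

/-- Three subgroups lemma modulo a subgroup `T` normalized by the three subgroups. -/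
theorem three_subgroups_le' {H₁ H₂ H₃ T : Subgroup G} (n1 : H₁ ≤ normalizer (T : Set G))
    (n2 : H₂ ≤ normalizer (T : Set G)) (n3 : H₃ ≤ normalizer (T : Set G))
    (h1 : ⁅⁅H₂, H₃⁆, H₁⁆ ≤ T) (h2 : ⁅⁅H₃, H₁⁆, H₂⁆ ≤ T) : ⁅⁅H₁, H₂⁆, H₃⁆ ≤ T := by
  set Γ := normalizer (T : Set G) with hΓ
  have hT : T ≤ Γ := le_normalizer
  have hn : (T.subgroupOf Γ).Normal := Subgroup.normal_in_normalizer
  have e1 : ⁅⁅H₂.subgroupOf Γ, H₃.subgroupOf Γ⁆, H₁.subgroupOf Γ⁆ ≤ T.subgroupOf Γ := by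
    rw [subgroupOf_commutator n2 n3, subgroupOf_commutator (commutator_le_of_le n2 n3) n1]
    intro x hx
    exact h1 hx
  have e2 : ⁅⁅H₃.subgroupOf Γ, H₁.subgroupOf Γ⁆, H₂.subgroupOf Γ⁆ ≤ T.subgroupOf Γ := by
    rw [subgroupOf_commutator n3 n1, subgroupOf_commutator (commutator_le_of_le n3 n1) n2]
    intro x hx
    exact h2 hx
  have e3 := three_subgroups_le e1 e2
  rw [subgroupOf_commutator n1 n2, subgroupOf_commutator (commutator_le_of_le n1 n2) n3] at e3
  intro x hx
  have hxΓ : x ∈ Γ := commutator_le_of_le (commutator_le_of_le n1 n2) n3 hx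
  exact e3 (show (⟨x, hxΓ⟩ : Γ) ∈ (⁅⁅H₁, H₂⁆, H₃⁆).subgroupOf Γ from hx)

/-- `[H L, K] ≤ [H, K] L` for `L` normal. -/
theorem commutator_sup_normal_le (H K L : Subgroup G) [L.Normal] : ⁅H ⊔ L, K⁆ ≤ ⁅H, K⁆ ⊔ L := by
  have h1 : (⁅H ⊔ L, K⁆).map (QuotientGroup.mk' L) = (⁅H, K⁆).map (QuotientGroup.mk' L) := by
    rw [Subgroup.map_commutator, Subgroup.map_commutator, Subgroup.map_sup]
    have : L.map (QuotientGroup.mk' L) = ⊥ := by
      rw [Subgroup.map_eq_bot_iff, QuotientGroup.ker_mk']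
    rw [this, sup_bot_eq]
  calc ⁅H ⊔ L, K⁆ ≤ ((⁅H ⊔ L, K⁆).map (QuotientGroup.mk' L)).comap (QuotientGroup.mk' L) :=
        Subgroup.le_comap_map _ _
    _ = ⁅H, K⁆ ⊔ L := by
        rw [h1, Subgroup.comap_map_eq, QuotientGroup.ker_mk']

theorem map_conj_eq_of_mem_normalizer {H : Subgroup G} {k : G} (hk : k ∈ normalizer (H : Set G)) :
    H.map (MulAut.conj k) = H := mem_normalizer_iff_map_conj_eq.mp hk

theorem le_normalizer_commutator {H K M : Subgroup G} (hH : M ≤ normalizer (H : Set G))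
    (hK : M ≤ normalizer (K : Set G)) : M ≤ normalizer ((⁅H, K⁆ : Subgroup G) : Set G) := by
  intro m hm
  rw [mem_normalizer_iff_map_conj_eq, Subgroup.map_commutator,
    map_conj_eq_of_mem_normalizer (hH hm), map_conj_eq_of_mem_normalizer (hK hm)]

theorem le_normalizer_sup {H K M : Subgroup G} (hH : M ≤ normalizer (H : Set G))
    (hK : M ≤ normalizer (K : Set G)) : M ≤ normalizer ((H ⊔ K : Subgroup G) : Set G) := by
  intro m hm
  rw [mem_normalizer_iff_map_conj_eq, Subgroup.map_sup,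
    map_conj_eq_of_mem_normalizer (hH hm), map_conj_eq_of_mem_normalizer (hK hm)]

/-! ### `iterCommutator` -/

theorem iterC_mono {A B : Subgroup G} (h : A ≤ B) (K : Subgroup G) (n : ℕ) :
    iterCommutator A K n ≤ iterCommutator B K n := by
  induction n with
  | zero => exact h
  | succ n ih => exact Subgroup.commutator_mono ih le_rfl

theorem iterC_le (A K : Subgroup G) [A.Normal] (n : ℕ) : iterCommutator A K n ≤ A := by
  induction n with
  | zero => exact le_rfl
  | succ n ih =>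
    exact (Subgroup.commutator_mono ih le_rfl).trans (Subgroup.commutator_le_left A K)

theorem iterC_succ_le (A K : Subgroup G) [A.Normal] (n : ℕ) :
    iterCommutator A K (n + 1) ≤ iterCommutator A K n := by
  induction n with
  | zero => exact Subgroup.commutator_le_left A K
  | succ n ih => exact Subgroup.commutator_mono ih le_rfl

theorem iterC_antitone (A K : Subgroup G) [A.Normal] : Antitone (iterCommutator A K) :=
  antitone_nat_of_succ_le (iterC_succ_le A K)

theorem le_normalizer_iterC {A K M : Subgroup G} (hA : M ≤ normalizer (A : Set G))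
    (hK : M ≤ normalizer (K : Set G)) (n : ℕ) :
    M ≤ normalizer ((iterCommutator A K n : Subgroup G) : Set G) := by
  induction n with
  | zero => exact hA
  | succ n ih => exact le_normalizer_commutator ih hK

/-- If `X ≤ X₀ Y` with `Y` normal and `[X₀, K; m] ≤ Y` then `[X, K; m] ≤ Y`. -/
theorem iterC_le_of_le_sup {X X₀ Y K : Subgroup G} [Y.Normal] (hX : X ≤ X₀ ⊔ Y) (m : ℕ)
    (h : iterCommutator X₀ K m ≤ Y) : iterCommutator X K m ≤ Y := by
  have h1 : ∀ n : ℕ, iterCommutator (X₀ ⊔ Y) K n ≤ iterCommutator X₀ K n ⊔ Y := by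
    intro n
    induction n with
    | zero => exact le_rfl
    | succ n ih =>
      exact (Subgroup.commutator_mono ih le_rfl).trans (commutator_sup_normal_le _ K Y)
  exact ((iterC_mono hX K m).trans (h1 m)).trans (sup_le h le_rfl)

/-! ### The core Leibniz lemma -/

section core

variable {P D D' A Ap N K : Subgroup G}

/-- the filtration `E_u = [D, K; j - u] D'` -/
def Efil (D D' K : Subgroup G) (j u : ℕ) : Subgroup G := iterCommutator D K (j - u) ⊔ D'

theorem core [D.Normal] [D'.Normal] [A.Normal] [Ap.Normal] [N.Normal]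
    (hDD' : D' ≤ D) (hDP : ⁅D, P⁆ ≤ D') (hNP : N ≤ P) (hApP : Ap ≤ P)
    (hND : ⁅N, Ap⁆ ≤ D) (hNA : ⁅N, A⁆ ≤ D') (i j : ℕ)
    (hA : iterCommutator Ap K i ≤ A) (hD : iterCommutator D K j ≤ D') :
    ⁅iterCommutator N K (i + j - 1), Ap⁆ ≤ D' := by
  -- basic facts on the filtration
  have hE0 : Efil D D' K j 0 = D' := by
    unfold Efil
    rw [Nat.sub_zero]
    exact sup_eq_right.mpr hD
  have hD'E : ∀ u, D' ≤ Efil D D' K j u := fun u => le_sup_right
  have hED : ∀ u, Efil D D' K j u ≤ D := fun u => sup_le (iterC_le D K _) hDD'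
  have hEtop : ∀ u, j ≤ u → D ≤ Efil D D' K j u := by
    intro u hu
    unfold Efil
    rw [Nat.sub_eq_zero_of_le hu]
    exact le_sup_left
  have hEstep : ∀ u, ⁅Efil D D' K j (u + 1), K⁆ ≤ Efil D D' K j u := by
    intro u
    unfold Efil
    refine (commutator_sup_normal_le _ K D').trans (sup_le_sup_right ?_ D')
    show iterCommutator D K (j - (u + 1) + 1) ≤ iterCommutator D K (j - u)
    exact iterC_antitone D K (by omega)
  -- normalizers
  have hEK : ∀ u, K ≤ normalizer ((Efil D D' K j u : Subgroup G) : Set G) := by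
    intro u
    unfold Efil
    apply le_normalizer_sup
    · exact le_normalizer_iterC (by rw [normalizer_eq_top]; exact le_top) le_normalizer _
    · rw [normalizer_eq_top]; exact le_top
  have hEP : ∀ u, P ≤ normalizer ((Efil D D' K j u : Subgroup G) : Set G) := by
    intro u y hy
    have hle : ∀ z ∈ P, ∀ d ∈ Efil D D' K j u, z * d * z⁻¹ ∈ Efil D D' K j u := by
      intro z hz d hd
      have h1 : ⁅d, z⁆ ∈ D' := hDP (Subgroup.commutator_mem_commutator (hED u hd) hz)
      have h2 : z * d * z⁻¹ = (⁅d, z⁆)⁻¹ * d := by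
        rw [commutatorElement_def]; group
      rw [h2]
      exact Subgroup.mul_mem _ (Subgroup.inv_mem _ (hD'E u h1)) hd
    rw [mem_normalizer_iff]
    intro d
    refine ⟨hle y hy d, fun hd => ?_⟩
    have := hle y⁻¹ (P.inv_mem hy) _ hd
    simpa [mul_assoc] using this
  -- the statement `G(s,t,u)`
  have hAt : ∀ t, iterCommutator Ap K t ≤ Ap := fun t => iterC_le Ap K t
  have hNs : ∀ s, iterCommutator N K s ≤ N := fun s => iterC_le N K s
  have hAi : ∀ t, i ≤ t → iterCommutator Ap K t ≤ A := fun t ht =>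
    (iterC_antitone Ap K ht).trans hA
  have key : ∀ s t u : ℕ, i + j - 1 ≤ s + t + u →
      ⁅iterCommutator N K s, iterCommutator Ap K t⁆ ≤ Efil D D' K j u := by
    intro s
    induction s with
    | zero =>
      intro t u h
      by_cases ht : i ≤ t
      · exact ((Subgroup.commutator_mono le_rfl (hAi t ht)).trans hNA).trans (hD'E u)
      · have hu : j ≤ u := by omega
        exact ((Subgroup.commutator_mono le_rfl (hAt t)).trans hND).trans (hEtop u hu)
    | succ s ih =>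
      intro t u h
      -- `[N_{s+1}, A_t] = [[K, N_s], A_t]`
      show ⁅⁅iterCommutator N K s, K⁆, iterCommutator Ap K t⁆ ≤ Efil D D' K j u
      rw [Subgroup.commutator_comm (iterCommutator N K s) K]
      apply three_subgroups_le' (hEK u) ((hNs s).trans (hNP.trans (hEP u)))
        ((hAt t).trans (hApP.trans (hEP u)))
      · -- `[[N_s, A_t], K] ≤ E_u`
        exact (Subgroup.commutator_mono (ih t (u + 1) (by omega)) le_rfl).trans (hEstep u)
      · -- `[[A_t, K], N_s] ≤ E_u`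
        rw [Subgroup.commutator_comm]
        exact ih (t + 1) u (by omega)
  have := key (i + j - 1) 0 0 (by omega)
  rw [hE0] at this
  exact this

end core


/-! ### Chief factors -/

section chief

/-- A nilpotent normal subgroup centralizes every chief factor. -/
theorem chief_central {P : Subgroup G} [P.Normal] (hP : Group.IsNilpotent ↥P) {U V : Subgroup G}
    (h : IsChiefFactor U V) : ⁅U, P⁆ ≤ V := by
  obtain ⟨hlt, hU, hV, hmax⟩ := h
  by_contra hnot
  have hWU : ⁅U, P⁆ ⊔ V ≤ U := sup_le (Subgroup.commutator_le_left U P) hlt.le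
  rcases hmax _ inferInstance le_sup_right hWU with h | h
  · exact hnot (h ▸ le_sup_left)
  · obtain ⟨n, hn⟩ := (Subgroup.isNilpotent_iff_lowerCentralSeries P).mp hP
    have key : ∀ k, U ≤ P.lowerCentralSeries k ⊔ V := by
      intro k
      induction k with
      | zero =>
        rw [Subgroup.lowerCentralSeries_zero]
        calc U = ⁅U, P⁆ ⊔ V := h.symm
          _ ≤ P ⊔ V := sup_le_sup_right (Subgroup.commutator_le_right U P) V
      | succ k ih =>
        calc U = ⁅U, P⁆ ⊔ V := h.symm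
          _ ≤ ⁅P.lowerCentralSeries k ⊔ V, P⁆ ⊔ V :=
            sup_le_sup_right (Subgroup.commutator_mono ih le_rfl) V
          _ ≤ (⁅P.lowerCentralSeries k, P⁆ ⊔ V) ⊔ V :=
            sup_le_sup_right (commutator_sup_normal_le _ _ _) V
          _ = P.lowerCentralSeries (k + 1) ⊔ V := by
            rw [sup_assoc, sup_idem, Subgroup.lowerCentralSeries_succ]
    have := key n
    rw [hn, bot_sup_eq] at this
    exact not_le_of_gt hlt this

/-- A normal subgroup either covers or avoids a chief factor. -/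
theorem chief_dichotomy {X Y : Subgroup G} (h : IsChiefFactor X Y) (M : Subgroup G) [M.Normal] :
    X ≤ (X ⊓ M) ⊔ Y ∨ X ⊓ M ≤ Y := by
  obtain ⟨hlt, hX, hY, hmax⟩ := h
  rcases hmax ((X ⊓ M) ⊔ Y) inferInstance le_sup_right (sup_le inf_le_left hlt.le) with h | h
  · right
    exact h ▸ le_sup_left
  · left
    exact h.ge

theorem chief_not_both {X Y : Subgroup G} (h : IsChiefFactor X Y) {M : Subgroup G}
    (h1 : X ≤ (X ⊓ M) ⊔ Y) (h2 : X ⊓ M ≤ Y) : False :=
  not_le_of_gt h.1 (h1.trans (sup_le h2 le_rfl))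

/-- A chief factor covered by a normal subgroup `M` gives a chief factor inside `M`. -/
theorem chief_inf {X Y : Subgroup G} (h : IsChiefFactor X Y) {M : Subgroup G} [M.Normal]
    (hc : X ≤ (X ⊓ M) ⊔ Y) : IsChiefFactor (X ⊓ M) (Y ⊓ M) := by
  obtain ⟨hlt, hX, hY, hmax⟩ := h
  refine ⟨?_, inferInstance, inferInstance, ?_⟩
  · refine lt_of_le_of_ne (inf_le_inf_right M hlt.le) ?_
    intro heq
    have h1 : X ⊓ M ≤ Y := heq.symm ▸ inf_le_left
    exact not_le_of_gt hlt (hc.trans (sup_le h1 le_rfl))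
  · intro N hN hYN hNX
    rcases hmax (N ⊔ Y) inferInstance le_sup_right
      (sup_le (hNX.trans inf_le_left) hlt.le) with h | h
    · left
      have hNY : N ≤ Y := h ▸ le_sup_left
      exact le_antisymm (le_inf hNY (hNX.trans inf_le_right)) hYN
    · right
      refine le_antisymm hNX ?_
      intro x hx
      have hxX : x ∈ N ⊔ Y := h.symm ▸ (mem_inf.mp hx).1
      rw [Subgroup.mem_sup_of_normal_right] at hxX
      obtain ⟨n, hn, y, hy, rfl⟩ := hxX
      have hyM : y ∈ M := by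
        have e : y = n⁻¹ * (n * y) := by group
        rw [e]
        exact M.mul_mem (M.inv_mem (mem_inf.mp (hNX hn)).2) (mem_inf.mp hx).2
      exact N.mul_mem hn (hYN (mem_inf.mpr ⟨hy, hyM⟩))

end chief

/-! ### Relative centralizers -/

section cen

/-- `{x ∈ P | [x, B] ≤ E}` for normal `E`. -/
def cen (P B E : Subgroup G) [hE : E.Normal] : Subgroup G where
  carrier := {x | x ∈ P ∧ ∀ b ∈ B, ⁅x, b⁆ ∈ E}
  one_mem' := ⟨P.one_mem, fun b _ => by rw [commutatorElement_one_left]; exact E.one_mem⟩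
  mul_mem' := by
    rintro x y ⟨hx, hx'⟩ ⟨hy, hy'⟩
    refine ⟨P.mul_mem hx hy, fun b hb => ?_⟩
    have e : ⁅x * y, b⁆ = x * ⁅y, b⁆ * x⁻¹ * ⁅x, b⁆ := by
      simp only [commutatorElement_def]; group
    rw [e]
    exact E.mul_mem (hE.conj_mem _ (hy' b hb) x) (hx' b hb)
  inv_mem' := by
    rintro x ⟨hx, hx'⟩
    refine ⟨P.inv_mem hx, fun b hb => ?_⟩
    have e : ⁅x⁻¹, b⁆ = x⁻¹ * (⁅x, b⁆)⁻¹ * x⁻¹⁻¹ := by
      simp only [commutatorElement_def]; group
    rw [e]
    exact hE.conj_mem _ (E.inv_mem (hx' b hb)) x⁻¹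

theorem mem_cen {P B E : Subgroup G} [E.Normal] {x : G} :
    x ∈ cen P B E ↔ x ∈ P ∧ ∀ b ∈ B, ⁅x, b⁆ ∈ E := Iff.rfl

theorem le_cen_iff {P B E M : Subgroup G} [E.Normal] :
    M ≤ cen P B E ↔ M ≤ P ∧ ⁅M, B⁆ ≤ E := by
  constructor
  · intro h
    exact ⟨fun x hx => (h hx).1, Subgroup.commutator_le.mpr fun x hx b hb => (h hx).2 b hb⟩
  · rintro ⟨h1, h2⟩ x hx
    exact ⟨h1 hx, fun b hb => h2 (Subgroup.commutator_mem_commutator hx hb)⟩

theorem cen_le (P B E : Subgroup G) [E.Normal] : cen P B E ≤ P := (le_cen_iff.mp le_rfl).1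

theorem commutator_cen_le (P B E : Subgroup G) [E.Normal] : ⁅cen P B E, B⁆ ≤ E :=
  (le_cen_iff.mp le_rfl).2

theorem cen_normal (P B E : Subgroup G) [hP : P.Normal] [hB : B.Normal] [hE : E.Normal] :
    (cen P B E).Normal := by
  refine ⟨fun x hx g => ⟨hP.conj_mem x hx.1 g, fun b hb => ?_⟩⟩
  have hb' : g⁻¹ * b * g ∈ B := by simpa using hB.conj_mem b hb g⁻¹
  have e : ⁅g * x * g⁻¹, b⁆ = g * ⁅x, g⁻¹ * b * g⁆ * g⁻¹ := by
    simp only [commutatorElement_def]; group
  rw [e]
  exact hE.conj_mem _ (hx.2 _ hb') g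

end cen

/-! ### The main theorem -/

theorem chief_below [Finite G] (P : Subgroup G) [P.Normal] (hP : Group.IsNilpotent ↥P)
    (Q ZQ : Subgroup G) [Q.Normal] [ZQ.Normal] (hQP : Q ≤ P)
    (hQ3 : ⁅P, Q⁆ ≤ ZQ) (hQ4 : P ⊓ centralizer (Q : Set G) ≤ ZQ)
    (K : Subgroup G) (i j : ℕ) (hi : 1 ≤ i)
    (hQi : ∀ U V : Subgroup G, IsChiefFactor U V → U ≤ Q → iterCommutator U K i ≤ V)
    (hZj : ∀ U V : Subgroup G, IsChiefFactor U V → U ≤ ZQ → iterCommutator U K j ≤ V) :
    ∀ U V : Subgroup G, IsChiefFactor U V → U ≤ P → iterCommutator U K (i + j - 1) ≤ V := by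
  intro X Y hXY hXP
  have hXn : X.Normal := hXY.2.1
  have hYn : Y.Normal := hXY.2.2.1
  -- Step 1: a minimal `D ≤ ZQ` such that `C_P(Q mod D)` covers `X / Y`
  let 𝒟 : Set (Subgroup G) := {D | ∃ _ : D.Normal, D ≤ ZQ ∧ X ≤ (X ⊓ cen P Q D) ⊔ Y}
  have hne : 𝒟.Nonempty := by
    refine ⟨ZQ, inferInstance, le_rfl, ?_⟩
    have h1 : X ≤ cen P Q ZQ := le_cen_iff.mpr ⟨hXP, (Subgroup.commutator_mono hXP le_rfl).trans hQ3⟩
    exact (le_inf le_rfl h1).trans le_sup_left
  obtain ⟨D, ⟨hDn, hDZ, hDc⟩, hDmin⟩ := wellFounded_lt.has_min 𝒟 hne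
  by_cases hD0 : D = ⊥
  · -- `X / Y` is covered by `ZQ`
    have h1 : cen P Q D ≤ ZQ := by
      refine le_trans (le_inf (cen_le P Q D) ?_) hQ4
      rw [← Subgroup.commutator_eq_bot_iff_le_centralizer, eq_bot_iff]
      exact (commutator_cen_le P Q D).trans hD0.le
    have h2 : X ≤ (X ⊓ ZQ) ⊔ Y := hDc.trans (sup_le_sup_right (inf_le_inf_left X h1) Y)
    have h3 : IsChiefFactor (X ⊓ ZQ) (Y ⊓ ZQ) := chief_inf hXY h2
    have h4 : iterCommutator (X ⊓ ZQ) K j ≤ Y := (hZj _ _ h3 inf_le_right).trans inf_le_left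
    have h5 : iterCommutator X K j ≤ Y := iterC_le_of_le_sup h2 j h4
    exact (iterC_antitone X K (by omega)).trans h5
  · -- a maximal normal `D' < D`
    let 𝒟' : Set (Subgroup G) := {E | E.Normal ∧ E < D}
    have hne' : 𝒟'.Nonempty := ⟨⊥, inferInstance, bot_lt_iff_ne_bot.mpr hD0⟩
    obtain ⟨D', ⟨hD'n, hD'lt⟩, hD'max⟩ := wellFounded_gt.has_min 𝒟' hne'
    have hchiefD : IsChiefFactor D D' := by
      refine ⟨hD'lt, hDn, hD'n, fun N hN h1 h2 => ?_⟩
      by_cases hND : N = D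
      · exact Or.inr hND
      · left
        by_contra hne
        exact hD'max N ⟨hN, lt_of_le_of_ne h2 hND⟩ (lt_of_le_of_ne h1 (Ne.symm hne))
    have hD'avoid : X ⊓ cen P Q D' ≤ Y := by
      have := cen_normal P Q D'
      rcases chief_dichotomy hXY (cen P Q D') with h | h
      · exact absurd hD'lt (hDmin D' ⟨hD'n, hD'lt.le.trans hDZ, h⟩)
      · exact h
    -- Step 2: a maximal `A ≤ Q` such that `N_A` covers `X / Y`
    let 𝒜 : Set (Subgroup G) :=
      {A | A.Normal ∧ A ≤ Q ∧ X ≤ (X ⊓ (cen P Q D ⊓ cen P A D')) ⊔ Y}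
    have hneA : 𝒜.Nonempty := by
      refine ⟨⊥, inferInstance, bot_le, hDc.trans (sup_le_sup_right (le_inf inf_le_left ?_) Y)⟩
      refine le_inf inf_le_right (inf_le_right.trans ?_)
      refine le_cen_iff.mpr ⟨cen_le P Q D, ?_⟩
      rw [Subgroup.commutator_bot_right]
      exact bot_le
    obtain ⟨A, ⟨hAn, hAQ, hAc⟩, hAmax⟩ := wellFounded_gt.has_min 𝒜 hneA
    have hAneQ : A ≠ Q := by
      rintro rfl
      refine chief_not_both hXY (hAc.trans (sup_le_sup_right (inf_le_inf_left X ?_) Y)) hD'avoid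
      exact inf_le_right
    let 𝒜' : Set (Subgroup G) := {B | B.Normal ∧ A < B ∧ B ≤ Q}
    have hneA' : 𝒜'.Nonempty := ⟨Q, inferInstance, lt_of_le_of_ne hAQ hAneQ, le_rfl⟩
    obtain ⟨Ap, ⟨hApn, hAAp, hApQ⟩, hApmin⟩ := wellFounded_lt.has_min 𝒜' hneA'
    have hchiefA : IsChiefFactor Ap A := by
      refine ⟨hAAp, hApn, hAn, fun N hN h1 h2 => ?_⟩
      by_cases hNA : N = A
      · exact Or.inl hNA
      · right
        by_contra hne
        exact hApmin N ⟨hN, lt_of_le_of_ne h1 (Ne.symm hNA), h2.trans hApQ⟩ (lt_of_le_of_ne h2 hne)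
    have hApavoid : X ⊓ (cen P Q D ⊓ cen P Ap D') ≤ Y := by
      have hn : (cen P Q D ⊓ cen P Ap D').Normal := by
        have := cen_normal P Q D
        have := cen_normal P Ap D'
        infer_instance
      rcases chief_dichotomy hXY (cen P Q D ⊓ cen P Ap D') with h | h
      · exact absurd hAAp (hAmax Ap ⟨hApn, hApQ, h⟩)
      · exact h
    -- Step 3: the Leibniz rule
    set N := cen P Q D ⊓ cen P A D' with hN
    have hNn : N.Normal := by
      have := cen_normal P Q D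
      have := cen_normal P A D'
      infer_instance
    have hNP : N ≤ P := inf_le_left.trans (cen_le P Q D)
    have hNQ : ⁅N, Q⁆ ≤ D := (Subgroup.commutator_mono inf_le_left le_rfl).trans
      (commutator_cen_le P Q D)
    have hNA : ⁅N, A⁆ ≤ D' := (Subgroup.commutator_mono inf_le_right le_rfl).trans
      (commutator_cen_le P A D')
    have hcore : ⁅iterCommutator N K (i + j - 1), Ap⁆ ≤ D' :=
      core (P := P) hD'lt.le (chief_central hP hchiefD) hNP (hApQ.trans hQP)
        ((Subgroup.commutator_mono le_rfl hApQ).trans hNQ) hNA i j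
        (hQi Ap A hchiefA hApQ) (hZj D D' hchiefD hDZ)
    have hle : iterCommutator N K (i + j - 1) ≤ N := iterC_le N K _
    have h1 : iterCommutator N K (i + j - 1) ≤ cen P Q D ⊓ cen P Ap D' :=
      le_inf (le_cen_iff.mpr ⟨hle.trans hNP, (Subgroup.commutator_mono hle le_rfl).trans hNQ⟩)
        (le_cen_iff.mpr ⟨hle.trans hNP, hcore⟩)
    have h2 : iterCommutator (X ⊓ N) K (i + j - 1) ≤ Y :=
      (le_inf ((iterC_mono inf_le_left K _).trans (iterC_le X K _))
        ((iterC_mono inf_le_right K _).trans h1)).trans hApavoid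
    exact iterC_le_of_le_sup hAc _ h2

end Cfsg.Agent.Helper54.Crit
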