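import Mathlib

/-!
# Semisimple actions on abelian subgroups (group-theoretic Clifford theory)

`SS H X` : every `H`-invariant subgroup of `X` has an `H`-invariant complement in `X`.
-/

set_option autoImplicit false

namespace Cfsg.Agent.Helper54.SemiSimp

open Subgroup
open scoped commutatorElement Pointwise

variable {G : Type*} [Group G]

/-- `X` is a semisimple `H`-group: every `H`-invariant subgroup of `X` has an `H`-invariant
complement in `X`. -/
def SS (H X : Subgroup G) : Prop :=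
  ∀ Z : Subgroup G, Z ≤ X → H ≤ normalizer (Z : Set G) →
    ∃ Z' : Subgroup G, Z' ≤ X ∧ H ≤ normalizer (Z' : Set G) ∧ Z ⊓ Z' = ⊥ ∧ X ≤ Z ⊔ Z'

/-- `X` is abelian (elementwise form) -/
def Ab (X : Subgroup G) : Prop := ∀ a ∈ X, ∀ b ∈ X, a * b = b * a

theorem Ab.mono {X Q : Subgroup G} (hX : Ab X) (h : Q ≤ X) : Ab Q :=
  fun a ha b hb => hX a (h ha) b (h hb)

theorem Ab.le_normalizer {X Z Z' : Subgroup G} (hX : Ab X) (hZ : Z ≤ X) (hZ' : Z' ≤ X) :
    Z ≤ normalizer (Z' : Set G) := by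
  rw [le_normalizer_iff]
  intro z hz w hw
  have : z * w * z⁻¹ = w := by rw [hX z (hZ hz) w (hZ' hw), mul_inv_cancel_right]
  rw [this]; exact hw

theorem Ab.mem_sup {X Z Z' : Subgroup G} (hX : Ab X) (hZ : Z ≤ X) (hZ' : Z' ≤ X) {x : G}
    (hx : x ∈ Z ⊔ Z') : ∃ z ∈ Z, ∃ z' ∈ Z', z * z' = x := by
  have h := coe_mul_of_left_le_normalizer_right Z Z' (hX.le_normalizer hZ hZ')
  have hx' : x ∈ ((Z ⊔ Z' : Subgroup G) : Set G) := hx
  rw [h] at hx'
  exact Set.mem_mul.mp hx'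

theorem le_normalizer_inf {H Z Q : Subgroup G} (hZ : H ≤ normalizer (Z : Set G))
    (hQ : H ≤ normalizer (Q : Set G)) : H ≤ normalizer ((Z ⊓ Q : Subgroup G) : Set G) := by
  rw [le_normalizer_iff] at *
  intro h hh k hk
  exact mem_inf.mpr ⟨hZ h hh k (mem_inf.mp hk).1, hQ h hh k (mem_inf.mp hk).2⟩

theorem le_normalizer_sup {H Z Q : Subgroup G} (hZ : H ≤ normalizer (Z : Set G))
    (hQ : H ≤ normalizer (Q : Set G)) : H ≤ normalizer ((Z ⊔ Q : Subgroup G) : Set G) := by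
  intro h hh
  have h1 := mem_normalizer_iff_map_conj_eq.mp (hZ hh)
  have h2 := mem_normalizer_iff_map_conj_eq.mp (hQ hh)
  rw [mem_normalizer_iff_map_conj_eq, Subgroup.map_sup, h1, h2]

theorem le_normalizer_centralizer {H N : Subgroup G} (hN : H ≤ normalizer (N : Set G)) :
    H ≤ normalizer ((centralizer (N : Set G) : Subgroup G) : Set G) := by
  rw [le_normalizer_iff] at *
  intro h hh c hc
  rw [mem_centralizer_iff] at hc ⊢
  intro n hn
  have h1 : h⁻¹ * n * h⁻¹⁻¹ ∈ N := hN h⁻¹ (inv_mem hh) n hn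
  have h2 := hc _ h1
  rw [inv_inv] at h2
  calc n * (h * c * h⁻¹) = h * ((h⁻¹ * n * h) * c) * h⁻¹ := by group
    _ = h * (c * (h⁻¹ * n * h)) * h⁻¹ := by rw [h2]
    _ = h * c * h⁻¹ * n := by group

/-- a minimal normal subgroup is semisimple for the whole group -/
theorem SS.of_minimal {X : Subgroup G} [hXn : X.Normal]
    (hmin : ∀ N : Subgroup G, N.Normal → N ≤ X → N = ⊥ ∨ N = X) : SS ⊤ X := by
  intro Z hZX hZ
  have hZn : Z.Normal := normalizer_eq_top_iff.mp (top_le_iff.mp hZ)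
  rcases hmin Z hZn hZX with h | h
  · refine ⟨X, le_rfl, ?_, ?_, ?_⟩
    · rw [normalizer_eq_top]
    · rw [h]; exact bot_inf_eq _
    · exact le_sup_right
  · refine ⟨⊥, bot_le, ?_, inf_bot_eq _, ?_⟩
    · rw [normalizer_eq_top]
    · rw [h]; exact le_sup_left

/-- invariant subgroups of semisimple groups are semisimple -/
theorem SS.sub {H X Q : Subgroup G} (hSS : SS H X) (hX : Ab X) (hQX : Q ≤ X)
    (hQ : H ≤ normalizer (Q : Set G)) : SS H Q := by
  intro Z hZQ hZ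
  obtain ⟨Z', hZ'X, hZ', hdisj, hsup⟩ := hSS Z (hZQ.trans hQX) hZ
  refine ⟨Z' ⊓ Q, inf_le_right, le_normalizer_inf hZ' hQ, ?_, ?_⟩
  · rw [eq_bot_iff, ← hdisj]
    exact inf_le_inf_left Z inf_le_left
  · intro q hq
    obtain ⟨z, hz, z', hz', rfl⟩ := hX.mem_sup (hZQ.trans hQX) hZ'X (hsup (hQX hq))
    refine mul_mem (mem_sup_left hz) (mem_sup_right (mem_inf.mpr ⟨hz', ?_⟩))
    have : z' = z⁻¹ * (z * z') := by group
    rw [this]
    exact mul_mem (inv_mem (hZQ hz)) hq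

/-! ### Conjugates of subgroups -/

/-- the conjugate `k U k⁻¹` -/
def cj (k : G) (U : Subgroup G) : Subgroup G := U.map (MulAut.conj k).toMonoidHom

theorem mem_cj {k x : G} {U : Subgroup G} : x ∈ cj k U ↔ k⁻¹ * x * k ∈ U := by
  constructor
  · rintro ⟨u, hu, rfl⟩
    have : k⁻¹ * (MulAut.conj k).toMonoidHom u * k = u := by
      simp only [MulEquiv.toMonoidHom_eq_coe, MonoidHom.coe_coe, MulAut.conj_apply]; group
    rw [this]; exact hu
  · intro h
    refine ⟨k⁻¹ * x * k, h, ?_⟩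
    simp only [MulEquiv.toMonoidHom_eq_coe, MonoidHom.coe_coe, MulAut.conj_apply]; group

theorem cj_mono (k : G) {U V : Subgroup G} (h : U ≤ V) : cj k U ≤ cj k V := Subgroup.map_mono h

theorem cj_inv_cj (k : G) (U : Subgroup G) : cj k⁻¹ (cj k U) = U := by
  ext x
  rw [mem_cj, mem_cj]
  have : k⁻¹ * (k⁻¹⁻¹ * x * k⁻¹) * k = x := by group
  rw [this]

theorem cj_cj_inv (k : G) (U : Subgroup G) : cj k (cj k⁻¹ U) = U := by
  have := cj_inv_cj k⁻¹ U
  rwa [inv_inv] at this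

theorem cj_eq_bot {k : G} {U : Subgroup G} : cj k U = ⊥ ↔ U = ⊥ :=
  Subgroup.map_eq_bot_iff_of_injective U (MulAut.conj k).injective

theorem le_normalizer_cj {H U : Subgroup G} {k : G} (hU : H ≤ normalizer (U : Set G))
    (hk : ∀ h ∈ H, k⁻¹ * h * k ∈ H) : H ≤ normalizer ((cj k U : Subgroup G) : Set G) := by
  rw [le_normalizer_iff] at *
  intro h hh y hy
  rw [mem_cj] at hy ⊢
  have := hU _ (hk h hh) _ hy
  have e : k⁻¹ * (h * y * h⁻¹) * k = k⁻¹ * h * k * (k⁻¹ * y * k) * (k⁻¹ * h * k)⁻¹ := by group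
  rw [e]; exact this

theorem cj_le_of_normalizes {X : Subgroup G} {k : G} (hk : ∀ x ∈ X, k * x * k⁻¹ ∈ X)
    {U : Subgroup G} (hU : U ≤ X) : cj k U ≤ X := by
  intro x hx
  rw [mem_cj] at hx
  have := hk _ (hU hx)
  have e : k * (k⁻¹ * x * k) * k⁻¹ = x := by group
  rwa [e] at this

/-! ### Minimal invariant subgroups and the socle -/

/-- `U` is a minimal `H`-invariant subgroup of `X` -/
def MinInv (H X U : Subgroup G) : Prop :=
  U ≤ X ∧ H ≤ normalizer (U : Set G) ∧ U ≠ ⊥ ∧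
    ∀ V : Subgroup G, V ≤ U → H ≤ normalizer (V : Set G) → V = ⊥ ∨ V = U

theorem exists_minInv [Finite G] {H X W : Subgroup G} (hWX : W ≤ X)
    (hW : H ≤ normalizer (W : Set G)) (hne : W ≠ ⊥) : ∃ U, MinInv H X U ∧ U ≤ W := by
  classical
  let 𝒮 : Set (Subgroup G) := {V | V ≤ W ∧ H ≤ normalizer (V : Set G) ∧ V ≠ ⊥}
  obtain ⟨U, ⟨hUW, hU, hUne⟩, hmin⟩ := Set.exists_min_image 𝒮 (fun V => Nat.card V)
    (Set.toFinite 𝒮) ⟨W, le_rfl, hW, hne⟩
  refine ⟨U, ⟨hUW.trans hWX, hU, hUne, ?_⟩, hUW⟩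
  intro V hVU hV
  by_cases hVb : V = ⊥
  · exact Or.inl hVb
  · right
    exact Subgroup.eq_of_le_of_card_ge hVU (hmin V ⟨hVU.trans hUW, hV, hVb⟩)

theorem MinInv.cj {H X U : Subgroup G} {k : G} (hU : MinInv H X U)
    (hk1 : ∀ h ∈ H, k⁻¹ * h * k ∈ H) (hk2 : ∀ h ∈ H, k * h * k⁻¹ ∈ H)
    (hkX : ∀ x ∈ X, k * x * k⁻¹ ∈ X) : MinInv H X (cj k U) := by
  obtain ⟨hUX, hUn, hUne, hUmin⟩ := hU
  refine ⟨cj_le_of_normalizes hkX hUX, le_normalizer_cj hUn hk1, ?_, ?_⟩
  · rwa [Ne, cj_eq_bot]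
  · intro V hVU hV
    have h1 : SemiSimp.cj k⁻¹ V ≤ U := by
      have := cj_mono k⁻¹ hVU
      rwa [cj_inv_cj] at this
    have h2 : H ≤ normalizer ((SemiSimp.cj k⁻¹ V : Subgroup G) : Set G) := by
      apply le_normalizer_cj hV
      intro h hh
      rw [inv_inv]; exact hk2 h hh
    rcases hUmin _ h1 h2 with h | h
    · left; exact cj_eq_bot.mp h
    · right
      rw [← h, cj_cj_inv]

/-- the `H`-socle of `X` -/
def soc (H X : Subgroup G) : Subgroup G := sSup {U | MinInv H X U}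

theorem soc_le (H X : Subgroup G) : soc H X ≤ X := sSup_le fun _ hU => hU.1

theorem le_normalizer_soc {H K X : Subgroup G} (hKH : K ≤ normalizer (H : Set G))
    (hKX : K ≤ normalizer (X : Set G)) : K ≤ normalizer ((soc H X : Subgroup G) : Set G) := by
  rw [le_normalizer_iff]
  intro k hk s hs
  rw [le_normalizer_iff] at hKH hKX
  have hk1 : ∀ h ∈ H, k⁻¹ * h * k ∈ H := by
    intro h hh
    have := hKH k⁻¹ (inv_mem hk) h hh
    rwa [inv_inv] at this
  have hle : SemiSimp.cj k (soc H X) ≤ soc H X := by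
    unfold SemiSimp.cj
    rw [Subgroup.map_le_iff_le_comap]
    apply sSup_le
    intro U hU
    rw [← Subgroup.map_le_iff_le_comap]
    exact le_sSup (hU.cj hk1 (hKH k hk) (hKX k hk))
  apply hle
  rw [mem_cj]
  have e : k⁻¹ * (k * s * k⁻¹) * k = s := by group
  rw [e]; exact hs

/-- **Clifford**: a semisimple `K`-group is semisimple for every normal subgroup `H` of `K`. -/
theorem SS.clifford [Finite G] {H K X : Subgroup G} (hSS : SS K X) (hX : Ab X) (hHK : H ≤ K)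
    (hKH : K ≤ normalizer (H : Set G)) (hKX : K ≤ normalizer (X : Set G)) : SS H X := by
  classical
  have hsocX : soc H X ≤ X := soc_le H X
  have hsoc : X ≤ soc H X := by
    obtain ⟨W', hW'X, hW', hdisj, hsup⟩ := hSS (soc H X) hsocX (le_normalizer_soc hKH hKX)
    by_cases hne : W' = ⊥
    · rw [hne, sup_bot_eq] at hsup; exact hsup
    · exfalso
      obtain ⟨U, hU, hUW'⟩ := exists_minInv hW'X (hHK.trans hW') hne
      have h1 : U ≤ soc H X := le_sSup hU
      have h2 : U ≤ ⊥ := by rw [← hdisj]; exact le_inf h1 hUW'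
      exact hU.2.2.1 (le_bot_iff.mp h2)
  intro Z hZX hZ
  let 𝒮 : Set (Subgroup G) := {Z' | Z' ≤ X ∧ H ≤ normalizer (Z' : Set G) ∧ Z ⊓ Z' = ⊥}
  obtain ⟨Z', ⟨hZ'X, hZ', hdisj⟩, hmax⟩ := Set.exists_max_image 𝒮 (fun V => Nat.card V)
    (Set.toFinite 𝒮) ⟨⊥, bot_le, by rw [le_normalizer_iff]; intro h _ k hk; rw [mem_bot] at hk ⊢; rw [hk]; group, inf_bot_eq _⟩
  refine ⟨Z', hZ'X, hZ', hdisj, ?_⟩
  by_contra hnot
  have hnot' : ¬ soc H X ≤ Z ⊔ Z' := fun h => hnot (hsoc.trans h)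
  have : ∃ U, MinInv H X U ∧ ¬ U ≤ Z ⊔ Z' := by
    by_contra hcon
    push Not at hcon
    exact hnot' (sSup_le fun U hU => hcon U hU)
  obtain ⟨U, hU, hUnot⟩ := this
  have hUint : U ⊓ (Z ⊔ Z') = ⊥ := by
    rcases hU.2.2.2 (U ⊓ (Z ⊔ Z')) inf_le_left
      (le_normalizer_inf hU.2.1 (le_normalizer_sup hZ hZ')) with h | h
    · exact h
    · exact absurd (inf_eq_left.mp h) hUnot
  have hmem : Z' ⊔ U ∈ 𝒮 := by
    refine ⟨sup_le hZ'X hU.1, le_normalizer_sup hZ' hU.2.1, ?_⟩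
    rw [eq_bot_iff]
    intro x hx
    obtain ⟨hxZ, hxs⟩ := mem_inf.mp hx
    obtain ⟨z', hz', u, hu, rfl⟩ := hX.mem_sup hZ'X hU.1 hxs
    have hu1 : u ∈ U ⊓ (Z ⊔ Z') := by
      refine mem_inf.mpr ⟨hu, ?_⟩
      have : u = z'⁻¹ * (z' * u) := by group
      rw [this]
      exact mul_mem (mem_sup_right (inv_mem hz')) (mem_sup_left hxZ)
    rw [hUint, mem_bot] at hu1
    rw [hu1, mul_one] at hxZ ⊢
    rw [← hdisj]
    exact mem_inf.mpr ⟨hxZ, hz'⟩
  have heq : Z' = Z' ⊔ U := Subgroup.eq_of_le_of_card_ge le_sup_left (hmax _ hmem)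
  apply hUnot
  calc U ≤ Z' ⊔ U := le_sup_right
    _ = Z' := heq.symm
    _ ≤ Z ⊔ Z' := le_sup_right

/-! ### Subnormal subgroups below a `p`-quotient -/

theorem exists_normalizing_of_pquotient [Finite G] {p : ℕ} [Fact p.Prime] {C H K : Subgroup G}
    (hCH : C ≤ H) (hHK : H ≤ K) (hne : H ≠ K) (hKC : K ≤ normalizer (C : Set G))
    (hp : ∀ k ∈ K, ∃ n : ℕ, k ^ (p ^ n) ∈ C) :
    ∃ k ∈ K, k ∉ H ∧ k ∈ normalizer (H : Set G) := by
  have hCn : (C.subgroupOf K).Normal :=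
    (normal_subgroupOf_iff_le_normalizer (hCH.trans hHK)).mpr hKC
  have hQ : IsPGroup p (↥K ⧸ C.subgroupOf K) := by
    intro q
    induction q using QuotientGroup.induction_on with
    | H k =>
      obtain ⟨n, hn⟩ := hp k k.2
      refine ⟨n, ?_⟩
      rw [← QuotientGroup.mk_pow, QuotientGroup.eq_one_iff, mem_subgroupOf]
      simpa using hn
  have : Group.IsNilpotent (↥K ⧸ C.subgroupOf K) := hQ.isNilpotent
  have hnc : NormalizerCondition (↥K ⧸ C.subgroupOf K) := Group.normalizerCondition_of_isNilpotent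
  set π := QuotientGroup.mk' (C.subgroupOf K) with hπ
  have hker : π.ker ≤ H.subgroupOf K := by
    rw [hπ, QuotientGroup.ker_mk']
    intro x hx
    rw [mem_subgroupOf] at hx ⊢
    exact hCH hx
  have hcomap : ((H.subgroupOf K).map π).comap π = H.subgroupOf K := comap_map_eq_self hker
  have hlt : (H.subgroupOf K).map π < ⊤ := by
    rw [lt_top_iff_ne_top]
    intro htop
    rw [htop, comap_top] at hcomap
    apply hne
    refine le_antisymm hHK ?_
    intro k hk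
    have : (⟨k, hk⟩ : K) ∈ H.subgroupOf K := by rw [← hcomap]; exact mem_top _
    exact mem_subgroupOf.mp this
  obtain ⟨q, hqN, hqH⟩ := SetLike.exists_of_lt (hnc _ hlt)
  obtain ⟨k, rfl⟩ := QuotientGroup.mk'_surjective (C.subgroupOf K) q
  have hkN : k ∈ normalizer ((H.subgroupOf K : Subgroup K) : Set K) := by
    have : k ∈ (normalizer (((H.subgroupOf K).map π : Subgroup _) : Set _)).comap π := hqN
    rw [comap_normalizer_eq_of_surjective _ (QuotientGroup.mk'_surjective _), hcomap] at this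
    exact this
  have hkH : k ∉ H.subgroupOf K := by
    intro h
    exact hqH (mem_map_of_mem π h)
  refine ⟨k, k.2, fun h => hkH (mem_subgroupOf.mpr h), ?_⟩
  have hle : zpowers (k : G) ≤ normalizer (H : Set G) := by
    rw [le_normalizer_iff]
    intro x hx h hh
    obtain ⟨m, rfl⟩ := mem_zpowers_iff.mp hx
    have hm : (k ^ m) ∈ normalizer ((H.subgroupOf K : Subgroup K) : Set K) := zpow_mem hkN m
    have := (mem_normalizer_iff.mp hm ⟨h, hHK hh⟩).mp (mem_subgroupOf.mpr hh)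
    rw [mem_subgroupOf] at this
    simpa using this
  exact hle (mem_zpowers _)

/-- **Clifford along a subnormal chain**: if `K / C` is a `p`-group, a semisimple `K`-group is
semisimple for every subgroup between `C` and `K`. -/
theorem SS.of_pquotient [Finite G] {p : ℕ} [Fact p.Prime] {C H K X : Subgroup G} (hSS : SS K X)
    (hX : Ab X) (hKX : K ≤ normalizer (X : Set G)) (hCH : C ≤ H) (hHK : H ≤ K)
    (hKC : K ≤ normalizer (C : Set G)) (hp : ∀ k ∈ K, ∃ n : ℕ, k ^ (p ^ n) ∈ C) : SS H X := by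
  revert hCH hHK
  induction H using WellFoundedGT.induction with
  | ind H ih =>
    intro hCH hHK
    by_cases hne : H = K
    · rw [hne]; exact hSS
    · obtain ⟨k, hkK, hkH, hkN⟩ := exists_normalizing_of_pquotient hCH hHK hne hKC hp
      have hlt : H < H ⊔ zpowers k := by
        refine lt_of_le_of_ne le_sup_left ?_
        intro h
        apply hkH
        rw [h]
        exact mem_sup_right (mem_zpowers k)
      have hle : H ⊔ zpowers k ≤ K := sup_le hHK (zpowers_le.mpr hkK)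
      have h1 := ih _ hlt (hCH.trans le_sup_left) hle
      refine h1.clifford hX le_sup_left ?_ (hle.trans hKX)
      exact sup_le le_normalizer (zpowers_le.mpr hkN)

/-! ### Consequences of semisimplicity -/

/-- fixed points and commutator of a normal subgroup `N₁` of `H` meet trivially -/
theorem SS.centralizer_inf_commutator {H X N₁ : Subgroup G} (hSS : SS H X) (hX : Ab X)
    (hHX : H ≤ normalizer (X : Set G)) (hN₁H : N₁ ≤ H) (hHN₁ : H ≤ normalizer (N₁ : Set G)) :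
    (X ⊓ centralizer (N₁ : Set G)) ⊓ ⁅X, N₁⁆ = ⊥ := by
  obtain ⟨Z', hZ'X, hZ', hdisj, hsup⟩ := hSS (X ⊓ centralizer (N₁ : Set G)) inf_le_left
    (le_normalizer_inf hHX (le_normalizer_centralizer hHN₁))
  have hcomm : ⁅X, N₁⁆ ≤ Z' := by
    rw [Subgroup.commutator_le]
    intro x hx n hn
    obtain ⟨z, hz, z', hz', rfl⟩ := hX.mem_sup inf_le_left hZ'X (hsup hx)
    have hzc : n * z = z * n := (mem_centralizer_iff.mp (mem_inf.mp hz).2 n hn)
    have hz'n : n * z'⁻¹ * n⁻¹ ∈ Z' :=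
      (le_normalizer_iff.mp hZ') n (hN₁H hn) _ (inv_mem hz')
    have hzX : z ∈ X := (mem_inf.mp hz).1
    have hwX : z' * (n * z'⁻¹ * n⁻¹) ∈ X := hZ'X (mul_mem hz' hz'n)
    have e : ⁅z * z', n⁆ = z' * (n * z'⁻¹ * n⁻¹) := by
      rw [commutatorElement_def]
      calc z * z' * n * (z * z')⁻¹ * n⁻¹ = z * (z' * (n * z'⁻¹ * n⁻¹)) * (n * z * n⁻¹)⁻¹ := by group
        _ = z * (z' * (n * z'⁻¹ * n⁻¹)) * z⁻¹ := by rw [hzc]; group
        _ = (z' * (n * z'⁻¹ * n⁻¹)) * z * z⁻¹ := by rw [hX z hzX _ hwX]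
        _ = z' * (n * z'⁻¹ * n⁻¹) := by group
    rw [e]
    exact mul_mem hz' hz'n
  rw [eq_bot_iff, ← hdisj]
  exact inf_le_inf_left _ hcomm

/-! ### Fixed points of `p`-group actions -/

/-- the conjugation action of a normalizing subgroup, as a homomorphism -/
def conjHom (N₀ Z : Subgroup G) (hN : N₀ ≤ normalizer (Z : Set G)) : ↥N₀ →* MulAut ↥Z where
  toFun r :=
    { toFun := fun z => ⟨r * z * (r : G)⁻¹, (le_normalizer_iff.mp hN) r r.2 z z.2⟩
      invFun := fun z => ⟨(r : G)⁻¹ * z * r, by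
        have := (le_normalizer_iff.mp hN) (r : G)⁻¹ (inv_mem r.2) z z.2
        simpa using this⟩
      left_inv := fun z => by ext; simp only; group
      right_inv := fun z => by ext; simp only; group
      map_mul' := fun a b => by ext; simp only [Subgroup.coe_mul]; group }
  map_one' := by ext z; simp
  map_mul' := fun a b => by ext z; simp [mul_assoc]

theorem conjHom_apply (N₀ Z : Subgroup G) (hN : N₀ ≤ normalizer (Z : Set G)) (r : N₀) (z : Z) :
    ((conjHom N₀ Z hN r z : Z) : G) = r * z * (r : G)⁻¹ := rfl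

theorem exists_fixed_of_pgroup_action [Finite G] {p : ℕ} [Fact p.Prime] {N₀ Z : Subgroup G}
    (hZp : IsPGroup p Z) (hZne : Z ≠ ⊥) (hN : N₀ ≤ normalizer (Z : Set G))
    (hp : ∀ r ∈ N₀, ∃ n : ℕ, r ^ (p ^ n) ∈ centralizer (Z : Set G)) :
    ∃ z ∈ Z, z ≠ 1 ∧ ∀ r ∈ N₀, r * z * r⁻¹ = z := by
  set φ := conjHom N₀ Z hN with hφ
  have hIm : IsPGroup p φ.range := by
    rintro ⟨x, r, rfl⟩
    obtain ⟨n, hn⟩ := hp r r.2
    refine ⟨n, ?_⟩
    apply Subtype.ext
    rw [Subgroup.coe_pow, Subgroup.coe_one, ← map_pow]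
    ext z
    rw [conjHom_apply, MulAut.one_apply]
    have := mem_centralizer_iff.mp hn z z.2
    simp only [Subgroup.coe_pow] at this ⊢
    rw [← this]; group
  have hcard : p ∣ Nat.card ↥Z := by
    rcases hZp.card_eq_or_dvd with h | h
    · exact absurd ((Subgroup.card_eq_one).mp h) hZne
    · exact h
  have hfix : (1 : Z) ∈ MulAction.fixedPoints φ.range ↥Z := by
    intro x
    show (x : MulAut Z) (1 : Z) = 1
    exact map_one _
  obtain ⟨b, hb, hne⟩ := hIm.exists_fixed_point_of_prime_dvd_card_of_fixed_point (α := ↥Z) hcard hfix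
  refine ⟨b, b.2, ?_, ?_⟩
  · intro h
    apply hne
    apply Subtype.ext
    rw [h]; rfl
  · intro r hr
    have := hb ⟨φ ⟨r, hr⟩, ⟨⟨r, hr⟩, rfl⟩⟩
    have h2 : (φ ⟨r, hr⟩ b : Z) = b := this
    have h3 := congrArg Subtype.val h2
    rw [conjHom_apply] at h3
    exact h3

/-- a normal subgroup of `H` acting as a `p`-group on a semisimple `p`-group acts trivially -/
theorem SS.le_centralizer_of_pgroup_action [Finite G] {p : ℕ} [Fact p.Prime] {H Q N₀ : Subgroup G}
    (hSS : SS H Q) (hQp : IsPGroup p Q) (hHQ : H ≤ normalizer (Q : Set G)) (hN₀H : N₀ ≤ H)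
    (hHN₀ : H ≤ normalizer (N₀ : Set G))
    (hp : ∀ r ∈ N₀, ∃ n : ℕ, r ^ (p ^ n) ∈ centralizer (Q : Set G)) :
    N₀ ≤ centralizer (Q : Set G) := by
  obtain ⟨Z', hZ'Q, hZ', hdisj, hsup⟩ := hSS (Q ⊓ centralizer (N₀ : Set G)) inf_le_left
    (le_normalizer_inf hHQ (le_normalizer_centralizer hHN₀))
  by_cases hne : Z' = ⊥
  · rw [hne, sup_bot_eq] at hsup
    rw [le_centralizer_iff]
    exact hsup.trans inf_le_right
  · exfalso
    obtain ⟨z, hz, hz1, hfix⟩ := exists_fixed_of_pgroup_action (p := p) (N₀ := N₀) (hQp.to_le hZ'Q)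
      hne (hN₀H.trans hZ') (fun r hr => by
        obtain ⟨n, hn⟩ := hp r hr
        exact ⟨n, centralizer_le hZ'Q hn⟩)
    have hzc : z ∈ centralizer (N₀ : Set G) := by
      rw [mem_centralizer_iff]
      intro r hr
      have := hfix r hr
      calc r * z = r * z * r⁻¹ * r := by group
        _ = z * r := by rw [this]
    have : z ∈ (Q ⊓ centralizer (N₀ : Set G)) ⊓ Z' := mem_inf.mpr ⟨mem_inf.mpr ⟨hZ'Q hz, hzc⟩, hz⟩
    rw [hdisj, mem_bot] at this
    exact hz1 this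

end Cfsg.Agent.Helper54.SemiSimp
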