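import Mathlib
import Cfsg.Prelude.Def_OddOrderLocal
import Cfsg.Agent.Lib.Helper54.PxQ
import Cfsg.Agent.Lib.Helper54.SemiSimp
import Cfsg.Agent.Lib.Helper54.CritChief
import Cfsg.Agent.Lib.Helper52.CoprimeSylow
import Cfsg.Agent.Lib.Helper22.Structure
import Cfsg.Agent.Lib.Helper22.Fitting
import Cfsg.Agent.Lib.Helper21.BenderMax
import Cfsg.Agent.Lib.Helper94.Solvable
import Cfsg.Agent.Lib.Helper62.PiCore

/-!
# Bender's lemma on invariant `π'`-subgroups for a maximal local subgroup, part A (helper54)

General lemmas: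
* `BenderLocal.nil_AxB` : a coprime group `Y` acting on a nilpotent group `F` and centralizing a subgroup
  `M ≤ F` with `C_F(M) ≤ M` centralizes `F`;
* `BenderLocal.inf_centralizer_fittingOf_le` : a solvable subgroup `R` normalized by `C_H(F(H))` meets
  `C_H(F(H))` inside `F(H)`.
-/

set_option autoImplicit false

namespace Cfsg.Agent.Helper54.BenderLocal

open Subgroup Cfsg
open Cfsg.Agent.Helper54.SemiSimp (le_normalizer_inf le_normalizer_sup le_normalizer_centralizer)

variable {G : Type*} [Group G]

/-- normalizers grow in nilpotent groups (internal form) -/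
theorem card_lt_card_normalizer_inf_of_isNilpotent [Finite G] (D F : Subgroup G)
    (hF : Group.IsNilpotent F) (hDF : D ≤ F) (hne' : D ≠ F) :
    Nat.card D < Nat.card (normalizer (D : Set G) ⊓ F : Subgroup G) := by
  have h1 : (D.subgroupOf F) < ⊤ := by
    rw [lt_top_iff_ne_top]
    intro h
    rw [subgroupOf_eq_top] at h
    exact hne' (le_antisymm hDF h)
  have h2 := Group.normalizerCondition_of_isNilpotent (G := F) (D.subgroupOf F) h1
  have h3 : Nat.card (D.subgroupOf F) < Nat.card (normalizer ((D.subgroupOf F : Subgroup F) : Set F)) := by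
    by_contra hge
    rw [not_lt] at hge
    exact (ne_of_lt h2) (Subgroup.eq_of_le_of_card_ge le_normalizer hge)
  have h4 : Nat.card (D.subgroupOf F) = Nat.card D :=
    Nat.card_congr (subgroupOfEquivOfLe hDF).toEquiv
  have h5 : Nat.card (normalizer ((D.subgroupOf F : Subgroup F) : Set F)) ≤
      Nat.card (normalizer (D : Set G) ⊓ F : Subgroup G) := by
    have hmap : (normalizer ((D.subgroupOf F : Subgroup F) : Set F)).map F.subtype ≤
        normalizer (D : Set G) ⊓ F := by
      rintro _ ⟨x, hx, rfl⟩
      refine mem_inf.mpr ⟨?_, x.2⟩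
      have := Subgroup.subgroupOf_normalizer_eq hDF
      rw [← this] at hx
      exact mem_subgroupOf.mp hx
    calc Nat.card (normalizer ((D.subgroupOf F : Subgroup F) : Set F))
        = Nat.card ((normalizer ((D.subgroupOf F : Subgroup F) : Set F)).map F.subtype) :=
          (card_map_of_injective (subtype_injective _)).symm
      _ ≤ _ := Subgroup.card_le_of_le hmap
  omega

/-- **Thompson's `A × B` lemma for nilpotent groups**: if `Y` acts coprimely on the nilpotent group `F` and
centralizes a subgroup `M ≤ F` with `C_F(M) ≤ M`, then `Y` centralizes `F`. -/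
theorem nil_AxB [Finite G] (F Y : Subgroup G) (hF : Group.IsNilpotent F)
    (hYF : Y ≤ normalizer (F : Set G)) (hcop : (Nat.card Y).Coprime (Nat.card F)) :
    ∀ (d : ℕ) (M : Subgroup G), Nat.card F - Nat.card M = d → M ≤ F →
      F ⊓ centralizer (M : Set G) ≤ M → Y ≤ centralizer (M : Set G) → Y ≤ centralizer (F : Set G) := by
  intro d
  induction d using Nat.strong_induction_on with
  | _ d ih =>
    intro M hd hMF hCM hYM
    by_cases hMeq : M = F
    · rw [← hMeq]; exact hYM
    set N : Subgroup G := normalizer (M : Set G) ⊓ F with hN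
    have hlt : Nat.card M < Nat.card N := card_lt_card_normalizer_inf_of_isNilpotent M F hF hMF hMeq
    have hMN : M ≤ N := le_inf le_normalizer hMF
    have hNF : N ≤ F := inf_le_right
    have hNM : N ≤ normalizer (M : Set G) := inf_le_left
    -- `Y` normalizes `N`
    have hYN : Y ≤ normalizer (N : Set G) := by
      apply le_normalizer_inf _ hYF
      exact (hYM.trans (centralizer_le_normalizer _)).trans le_normalizer
    have hMY : ⁅M, Y⁆ = ⊥ := by
      rw [Subgroup.commutator_comm, Subgroup.commutator_eq_bot_iff_le_centralizer]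
      exact hYM
    -- three subgroups
    have h1 : ⁅⁅N, M⁆, Y⁆ = ⊥ := by
      have hNM' : ⁅N, M⁆ ≤ M := by
        rw [Subgroup.commutator_comm]
        exact commutator_le_of_le_normalizer M N hNM
      rw [eq_bot_iff, ← hMY]
      exact Subgroup.commutator_mono hNM' le_rfl
    have h2 : ⁅⁅M, Y⁆, N⁆ = ⊥ := by
      rw [hMY]
      exact Subgroup.commutator_bot_left N
    have h3 : ⁅⁅Y, N⁆, M⁆ = ⊥ := Subgroup.commutator_commutator_eq_bot_of_rotate h1 h2
    have h4 : ⁅Y, N⁆ ≤ centralizer (M : Set G) :=
      (Subgroup.commutator_eq_bot_iff_le_centralizer).mp h3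
    have h5 : ⁅Y, N⁆ ≤ F := by
      rw [Subgroup.commutator_comm]
      exact (Subgroup.commutator_mono hNF le_rfl).trans (commutator_le_of_le_normalizer F Y hYF)
    have h6 : ⁅N, Y⁆ ≤ M := by
      rw [Subgroup.commutator_comm]
      exact (le_inf h5 h4).trans hCM
    have h7 : ⁅⁅N, Y⁆, Y⁆ = ⊥ := by
      rw [eq_bot_iff, ← hMY]
      exact Subgroup.commutator_mono h6 le_rfl
    have hcop' : (Nat.card Y).Coprime (Nat.card N) :=
      Nat.Coprime.coprime_dvd_right (Subgroup.card_dvd_of_le hNF) hcop
    have hYcN : Y ≤ centralizer (N : Set G) := le_centralizer_of_coprime N Y hYN hcop' h7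
    have hCN : F ⊓ centralizer (N : Set G) ≤ N :=
      ((inf_le_inf_left F (centralizer_le hMN)).trans hCM).trans hMN
    have hcF : Nat.card N ≤ Nat.card F := Subgroup.card_le_of_le hNF
    exact ih (Nat.card F - Nat.card N) (by omega) N rfl hNF hCN hYcN

/-- a solvable subgroup `R` normalized by `D = C_H(F(H))` meets `D` inside `F(H)` -/
theorem inf_centralizer_fittingOf_le [Finite G] (H R : Subgroup G) (hR : Group.IsSolvable R)
    (hDR : H ⊓ centralizer (Cfsg.fittingOf H : Set G) ≤ normalizer (R : Set G)) :
    R ⊓ (H ⊓ centralizer (Cfsg.fittingOf H : Set G)) ≤ Cfsg.fittingOf H := by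
  classical
  have hFn : (Cfsg.fittingSubgroup H).Normal := Cfsg.Agent.Helper70.fittingSubgroup_normal H
  set D' : Subgroup H := centralizer (Cfsg.fittingSubgroup H : Set H) with hD'
  have hD'n : D'.Normal := by rw [hD']; infer_instance
  -- membership in `D'` in terms of `G`
  have hD'mem : ∀ h : H, h ∈ D' ↔ (h : G) ∈ centralizer (Cfsg.fittingOf H : Set G) := by
    intro h
    rw [hD', mem_centralizer_iff, mem_centralizer_iff]
    constructor
    · intro hh f hf
      obtain ⟨f', hf', rfl⟩ := mem_map.mp hf
      have := hh f' hf'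
      have h2 := congrArg (fun x : H => (x : G)) this
      simpa using h2
    · intro hh f hf
      have := hh (f : G) (mem_map_of_mem H.subtype hf)
      apply Subtype.ext
      simpa using this
  set X' : Subgroup H := R.subgroupOf H ⊓ D' with hX'
  have hDX : D' ≤ normalizer (X' : Set H) := by
    apply le_normalizer_inf _ le_normalizer
    intro d hd
    have hdG : (d : G) ∈ normalizer (R : Set G) :=
      hDR (mem_inf.mpr ⟨d.2, (hD'mem d).mp hd⟩)
    rw [mem_normalizer_iff]
    intro x
    rw [mem_subgroupOf, mem_subgroupOf]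
    have := mem_normalizer_iff.mp hdG (x : G)
    simpa using this
  have hXsn : X'.IsSubnormal :=
    IsSubnormal.step X' D' inf_le_right hD'n.isSubnormal (normal_subgroupOf_of_le_normalizer hDX)
  -- `X'` is solvable
  have hXsolv : Group.IsSolvable X' := by
    let φ : X' →* R :=
      { toFun := fun x => ⟨(x : H), mem_subgroupOf.mp (mem_inf.mp x.2).1⟩
        map_one' := rfl
        map_mul' := fun _ _ => rfl }
    have hφ : Function.Injective φ := by
      intro a b hab
      have := congrArg (fun r : R => (r : G)) hab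
      exact Subtype.ext (Subtype.ext this)
    exact Group.isSolvable_of_isSolvable_injective hφ
  have h1 := Cfsg.Agent.Helper22.map_fittingSubgroup_le hXsn
  have h2 := Cfsg.Agent.Helper94.centralizer_fitting_le (G := X')
  -- `X'` centralizes its Fitting subgroup
  have h3 : centralizer (Cfsg.fittingSubgroup X' : Set X') = ⊤ := by
    rw [eq_top_iff]
    intro x _
    rw [mem_centralizer_iff]
    intro f hf
    have hfF : ((f : X') : H) ∈ Cfsg.fittingSubgroup H := h1 (mem_map_of_mem X'.subtype hf)
    have hxD : (x : H) ∈ D' := (mem_inf.mp x.2).2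
    have := (mem_centralizer_iff.mp hxD) _ hfF
    exact Subtype.ext this
  rw [h3] at h2
  intro g hg
  obtain ⟨hgR, hgH, hgC⟩ := mem_inf.mp hg |>.imp_right mem_inf.mp
  set g' : H := ⟨g, hgH⟩ with hg'
  have hgX : g' ∈ X' := mem_inf.mpr ⟨mem_subgroupOf.mpr hgR, (hD'mem g').mpr hgC⟩
  have h4 : (⟨g', hgX⟩ : X') ∈ Cfsg.fittingSubgroup X' := h2 (mem_top _)
  have h5 : g' ∈ Cfsg.fittingSubgroup H := h1 (mem_map.mpr ⟨⟨g', hgX⟩, h4, rfl⟩)
  exact mem_map.mpr ⟨g', h5, rfl⟩

end Cfsg.Agent.Helper54.BenderLocal
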