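import Mathlib
import Cfsg.Agent.Lib.Helper54.BenderLocalA
import Cfsg.Agent.Lib.Helper54.Solv
import Cfsg.Agent.Lib.Helper54.BGOvergroup

/-!
# Bender's lemma on invariant `π'`-subgroups for a maximal local subgroup, part B (helper54)

`H` a maximal local subgroup, `F = F(H)`, `M ≤ F` with `C_F(M) ≤ M`, `R` a solvable subgroup normalized by `M` and
by `C_H(F)`.
* `exists_Z` : for every prime `t` dividing `|F|` the subgroup `Z = Z(O_t(H))` is a nontrivial `t`-subgroup of `M`
  centralized by `M` with `C_G(Z) ≤ H`;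
* `le_centralizer_of_invariant` : the `s'`-part of `M` centralizes every `s`-subgroup normalized by it and by `Z`;
* `eq_bot_of_invariant` : `M`-invariant subgroups of `H ∩ R` of order prime to `|F|` are trivial.
-/

set_option autoImplicit false

namespace Cfsg.Agent.Helper54.BenderLocal

open Subgroup Cfsg
open Cfsg.Agent.Helper54.SemiSimp (le_normalizer_inf le_normalizer_sup le_normalizer_centralizer)

variable {G : Type*} [Group G]

/-- the image in `G` of a normal subgroup of `H` is normalized by `H` -/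
theorem le_normalizer_map_subtype_of_normal (H : Subgroup G) (N : Subgroup H) [hN : N.Normal] :
    H ≤ normalizer ((N.map H.subtype : Subgroup G) : Set G) := by
  apply Cfsg.Agent.Helper54.le_normalizer_of_forall_conj_mem
  intro h hh u hu
  obtain ⟨k, hk, rfl⟩ := mem_map.mp hu
  refine mem_map.mpr ⟨⟨h, hh⟩ * k * ⟨h, hh⟩⁻¹, hN.conj_mem k hk _, ?_⟩
  simp

theorem isNilpotent_fittingOf [Finite G] (H : Subgroup G) : Group.IsNilpotent (Cfsg.fittingOf H) := by
  have h1 : Group.IsNilpotent (Cfsg.fittingSubgroup H) := Cfsg.Agent.Helper22.isNilpotent_fittingSubgroup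
  exact Group.nilpotent_of_mulEquiv
    ((Cfsg.fittingSubgroup H).equivMapOfInjective H.subtype H.subtype_injective)

theorem fittingOf_le (H : Subgroup G) : Cfsg.fittingOf H ≤ H := map_subtype_le _

theorem le_normalizer_fittingOf (H : Subgroup G) : H ≤ normalizer (Cfsg.fittingOf H : Set G) := by
  have : (Cfsg.fittingSubgroup H).Normal := Cfsg.Agent.Helper70.fittingSubgroup_normal H
  exact le_normalizer_map_subtype_of_normal H _

theorem card_fittingOf (H : Subgroup G) :
    Nat.card (Cfsg.fittingOf H) = Nat.card (Cfsg.fittingSubgroup H) :=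
  card_map_of_injective H.subtype_injective

/-- the subgroup `Z(O_t(H))` for a prime `t` dividing `|F(H)|` -/
theorem exists_Z [Finite G] (H M : Subgroup G)
    (hmax : ∀ L : Subgroup G, Cfsg.IsLocalSubgroup L → H ≤ L → L = H)
    (hMF : M ≤ Cfsg.fittingOf H) (hCM : Cfsg.fittingOf H ⊓ centralizer (M : Set G) ≤ M)
    (t : ℕ) [ht : Fact t.Prime] (htF : t ∣ Nat.card (Cfsg.fittingOf H)) :
    ∃ Z : Subgroup G, Z ≠ ⊥ ∧ IsPGroup t Z ∧ Z ≤ M ∧ M ≤ centralizer (Z : Set G) ∧
      centralizer (Z : Set G) ≤ H ∧ Z ≤ (Cfsg.pCore t H).map H.subtype := by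
  classical
  set Ft : Subgroup G := (Cfsg.pCore t H).map H.subtype with hFt
  have hpn : (Cfsg.pCore t H).Normal := Cfsg.Agent.Helper70.pCore_normal t H
  have hFtp : IsPGroup t Ft := (Cfsg.Agent.Helper70.pCore_isPGroup (G := H) (p := t)).map H.subtype
  have hFtne : Ft ≠ ⊥ := by
    rw [card_fittingOf] at htF
    have h1 := Cfsg.Agent.Helper21.pCore_ne_bot_of_dvd (X := H) t htF
    intro h
    exact h1 ((map_eq_bot_iff_of_injective _ H.subtype_injective).mp h)
  have hFtF : Ft ≤ Cfsg.fittingOf H :=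
    map_mono Cfsg.Agent.Helper70.pCore_le_fittingSubgroup
  set Z : Subgroup G := Ft ⊓ centralizer (Ft : Set G) with hZ
  have hZFt : Z ≤ Ft := inf_le_left
  have hZp : IsPGroup t Z := hFtp.to_le hZFt
  -- nontrivial
  have hZne : Z ≠ ⊥ := by
    have hnt : Nontrivial Ft := (nontrivial_iff_ne_bot Ft).mpr hFtne
    have hcn : Nontrivial (center Ft) := IsPGroup.center_nontrivial (hFtp)
    obtain ⟨z, hz⟩ := exists_ne (1 : center Ft)
    intro hbot
    have hzZ : ((z : Ft) : G) ∈ Z := by
      refine mem_inf.mpr ⟨(z : Ft).2, ?_⟩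
      rw [mem_centralizer_iff]
      intro f hf
      have := (mem_center_iff.mp z.2) ⟨f, hf⟩
      have h2 := congrArg (fun x : Ft => (x : G)) this
      simpa using h2
    rw [hbot, mem_bot] at hzZ
    apply hz
    apply Subtype.ext
    apply Subtype.ext
    simpa using hzZ
  -- `F ≤ C(Z)`
  have hFZ : Cfsg.fittingOf H ≤ centralizer (Z : Set G) := by
    unfold Cfsg.fittingOf
    rw [Cfsg.Agent.Helper22.fittingSubgroup_eq_iSup_pCore, Subgroup.map_iSup]
    apply iSup_le
    rintro ⟨p, hp⟩
    have := Fact.mk hp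
    by_cases hpt : p = t
    · subst hpt
      show Ft ≤ _
      exact le_centralizer_iff.mp inf_le_right
    · have h1 := Cfsg.Agent.Helper21.pCore_le_centralizer_pCore_of_ne (X := H) p t hpt
      have h2 : (Cfsg.pCore p H).map H.subtype ≤ centralizer (Ft : Set G) := by
        rintro _ ⟨x, hx, rfl⟩
        rw [mem_centralizer_iff]
        rintro _ ⟨y, hy, rfl⟩
        have := (mem_centralizer_iff.mp (h1 hx)) y hy
        have h3 := congrArg (fun x : H => (x : G)) this
        simpa using h3
      exact h2.trans (centralizer_le hZFt)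
  have hMZ : M ≤ centralizer (Z : Set G) := hMF.trans hFZ
  have hZM : Z ≤ M := by
    refine (le_inf (hZFt.trans hFtF) ?_).trans hCM
    exact le_centralizer_iff.mp hMZ
  -- `N_G(Z) = H`
  have hHFt : H ≤ normalizer (Ft : Set G) := le_normalizer_map_subtype_of_normal H _
  have hHZ : H ≤ normalizer (Z : Set G) :=
    le_normalizer_inf hHFt (le_normalizer_centralizer hHFt)
  have hloc : Cfsg.IsLocalSubgroup (normalizer (Z : Set G)) := ⟨t, Z, ht.out, hZp, hZne, rfl⟩
  have hNZ : normalizer (Z : Set G) = H := hmax _ hloc hHZ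
  refine ⟨Z, hZne, hZp, hZM, hMZ, ?_, hZFt⟩
  calc centralizer (Z : Set G) ≤ normalizer (Z : Set G) := centralizer_le_normalizer _
    _ = H := hNZ

/-- the `s'`-part `A` of `M` centralizes every `s`-subgroup normalized by `A` and by `Z` -/
theorem le_centralizer_of_invariant [Finite G] (H : Subgroup G) (s : ℕ) [Fact s.Prime]
    (Z A P : Subgroup G) (hZs : IsPGroup s Z) (hZH : centralizer (Z : Set G) ≤ H)
    (hAZ : A ≤ centralizer (Z : Set G)) (hAO : A ≤ (Cfsg.pPrimeCore s H).map H.subtype)
    (hP : IsPGroup s P) (hAP : A ≤ normalizer (P : Set G)) (hZP : Z ≤ normalizer (P : Set G)) :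
    A ≤ centralizer (P : Set G) := by
  classical
  set O : Subgroup G := (Cfsg.pPrimeCore s H).map H.subtype with hO
  have hOcop : (Nat.card O).Coprime s := by
    rw [hO, card_map_of_injective H.subtype_injective]
    exact Cfsg.Agent.Helper54.pPrimeCore_coprime s
  have hAcop : (Nat.card A).Coprime s :=
    Nat.Coprime.coprime_dvd_left (Subgroup.card_dvd_of_le hAO) hOcop
  have hHO : H ≤ normalizer (O : Set G) := by
    have : (Cfsg.pPrimeCore s H).Normal := Cfsg.pPrimeCore_normal s H
    exact le_normalizer_map_subtype_of_normal H _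
  apply Cfsg.Agent.Helper54.thompson_PxQ s Z A P hZs hAcop hP (le_centralizer_iff.mp hAZ) hZP hAP
  -- `Y = C_P(Z)` is centralized by `A`
  set Y : Subgroup G := P ⊓ centralizer (Z : Set G) with hY
  have hYH : Y ≤ H := inf_le_right.trans hZH
  have hAY : A ≤ normalizer (Y : Set G) := by
    apply le_normalizer_inf hAP
    exact (hAZ.trans (centralizer_le_normalizer _)).trans
      (Cfsg.Agent.Helper54.normalizer_le_normalizer_centralizer Z)
  have h1 : ⁅Y, A⁆ ≤ Y := commutator_le_of_le_normalizer Y A hAY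
  have h2 : ⁅Y, A⁆ ≤ O := by
    rw [Subgroup.commutator_comm]
    exact (Subgroup.commutator_mono hAO le_rfl).trans
      (commutator_le_of_le_normalizer O Y (hYH.trans hHO))
  have hYs : IsPGroup s Y := hP.to_le inf_le_left
  have hdisj : Y ⊓ O = ⊥ := by
    apply (Subgroup.disjoint_of_coprime_natCard _).eq_bot
    obtain ⟨n, hn⟩ := IsPGroup.iff_card.mp hYs
    rw [hn]
    exact (Nat.Coprime.pow_right n hOcop).symm
  have h3 : ⁅Y, A⁆ = ⊥ := by
    rw [eq_bot_iff, ← hdisj]
    exact le_inf h1 h2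
  exact (Subgroup.commutator_eq_bot_iff_le_centralizer).mp h3

/-- `M`-invariant subgroups of `H ∩ R` of order prime to `|F(H)|` are trivial -/
theorem eq_bot_of_invariant [Finite G] (H M R : Subgroup G)
    (hMF : M ≤ Cfsg.fittingOf H) (hCM : Cfsg.fittingOf H ⊓ centralizer (M : Set G) ≤ M)
    (hR : Group.IsSolvable R)
    (hDR : H ⊓ centralizer (Cfsg.fittingOf H : Set G) ≤ normalizer (R : Set G))
    (Y : Subgroup G) (hYH : Y ≤ H) (hYR : Y ≤ R) (hMY : M ≤ normalizer (Y : Set G))
    (hcop : (Nat.card Y).Coprime (Nat.card (Cfsg.fittingOf H))) : Y = ⊥ := by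
  classical
  set F := Cfsg.fittingOf H with hF
  have hdisj : Y ⊓ F = ⊥ := (Subgroup.disjoint_of_coprime_natCard hcop).eq_bot
  have hYF : Y ≤ normalizer (F : Set G) := hYH.trans (le_normalizer_fittingOf H)
  have h1 : ⁅Y, M⁆ ≤ Y := commutator_le_of_le_normalizer Y M hMY
  have h2 : ⁅Y, M⁆ ≤ F := by
    rw [Subgroup.commutator_comm]
    exact (Subgroup.commutator_mono hMF le_rfl).trans (commutator_le_of_le_normalizer F Y hYF)
  have h3 : ⁅Y, M⁆ = ⊥ := by
    rw [eq_bot_iff, ← hdisj]
    exact le_inf h1 h2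
  have hYM : Y ≤ centralizer (M : Set G) := (Subgroup.commutator_eq_bot_iff_le_centralizer).mp h3
  have hYcF : Y ≤ centralizer (F : Set G) :=
    nil_AxB F Y (isNilpotent_fittingOf H) hYF hcop _ M rfl hMF hCM hYM
  have h4 : Y ≤ F :=
    (le_inf hYR (le_inf hYH hYcF)).trans (inf_centralizer_fittingOf_le H R hR hDR)
  rw [eq_bot_iff, ← hdisj]
  exact le_inf le_rfl h4

end Cfsg.Agent.Helper54.BenderLocal
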