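import Mathlib
import Cfsg.Agent.Lib.Helper54.BenderLocalB
import Cfsg.Agent.Lib.Helper54.PSolv

/-!
# Bender's lemma on invariant `π'`-subgroups for a maximal local subgroup, part C (helper54)

Quotient lemmas: `O_π(X / O_π(X)) = 1`, the preimage of `O_s(X / O_π(X))` is characteristic and its order.
-/

set_option autoImplicit false

namespace Cfsg.Agent.Helper54.BenderLocal

open Subgroup Cfsg
open Cfsg.Agent.Helper62 (IsPi isPi_piCore le_piCore)

section Quot

variable {X : Type*} [Group X]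

/-- the order of a preimage under the quotient map -/
theorem card_comap_mk' [Finite X] (K : Subgroup X) [K.Normal] (M : Subgroup (X ⧸ K)) :
    Nat.card (M.comap (QuotientGroup.mk' K)) = Nat.card K * Nat.card M := by
  set D := M.comap (QuotientGroup.mk' K) with hD
  have hKD : K ≤ D := by
    intro k hk
    rw [hD, Subgroup.mem_comap, QuotientGroup.mk'_apply, (QuotientGroup.eq_one_iff k).mpr hk]
    exact one_mem _
  have hmap : D.map (QuotientGroup.mk' K) = M :=
    Subgroup.map_comap_eq_self_of_surjective (QuotientGroup.mk'_surjective K) M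
  have h1 : K.relIndex D = Nat.card M := by
    have h2 := Subgroup.relIndex_comap (⊥ : Subgroup (X ⧸ K)) (QuotientGroup.mk' K) D
    rw [hmap, Subgroup.relIndex_bot_left] at h2
    rw [← h2]
    congr 1
    rw [MonoidHom.comap_bot, QuotientGroup.ker_mk']
  rw [← Subgroup.relIndex_bot_left, ← Subgroup.relIndex_mul_relIndex ⊥ K D bot_le hKD,
    Subgroup.relIndex_bot_left, h1]

theorem le_comap_mk' (K : Subgroup X) [K.Normal] (M : Subgroup (X ⧸ K)) :
    K ≤ M.comap (QuotientGroup.mk' K) := by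
  intro k hk
  rw [Subgroup.mem_comap, QuotientGroup.mk'_apply, (QuotientGroup.eq_one_iff k).mpr hk]
  exact one_mem _

/-- `O_π(X / O_π(X)) = 1`. -/
theorem piCore_quotient_eq_bot [Finite X] (π : Set ℕ) :
    Cfsg.piCore π (X ⧸ Cfsg.piCore π X) = ⊥ := by
  rw [eq_bot_iff]
  apply sSup_le
  rintro M ⟨hM, hπ⟩
  set K := Cfsg.piCore π X with hK
  set D := M.comap (QuotientGroup.mk' K) with hD
  have hDn : D.Normal := hM.comap _
  have hcard : Nat.card D = Nat.card K * Nat.card M := card_comap_mk' K M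
  have hDpi : IsPi π D := by
    intro p hp hdvd
    rw [hcard] at hdvd
    rcases (Nat.Prime.dvd_mul hp).mp hdvd with h | h
    · exact isPi_piCore π p hp h
    · exact hπ p hp h
  have hDK : D ≤ K := le_piCore π hDn hDpi
  intro m hm
  obtain ⟨d, rfl⟩ := QuotientGroup.mk'_surjective K m
  have : d ∈ K := hDK (by rwa [hD, Subgroup.mem_comap])
  rw [Subgroup.mem_bot, QuotientGroup.mk'_apply]
  exact (QuotientGroup.eq_one_iff _).mpr this

/-- `O_s(X / O_π(X)) = 1` for a prime `s ∈ π`. -/
theorem pCore_quotient_eq_bot [Finite X] (π : Set ℕ) (s : ℕ) [Fact s.Prime] (hs : s ∈ π) :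
    Cfsg.pCore s (X ⧸ Cfsg.piCore π X) = ⊥ := by
  rw [eq_bot_iff, ← piCore_quotient_eq_bot π]
  apply le_piCore π (Cfsg.Agent.Helper70.pCore_normal s _)
  intro p hp hdvd
  have h1 : IsPGroup s (Cfsg.pCore s (X ⧸ Cfsg.piCore π X)) := Cfsg.Agent.Helper70.pCore_isPGroup
  obtain ⟨n, hn⟩ := IsPGroup.iff_card.mp h1
  rw [hn] at hdvd
  have : p = s := (Nat.prime_dvd_prime_iff_eq hp Fact.out).mp (hp.dvd_of_dvd_pow hdvd)
  rw [this]; exact hs

/-- the preimage of `O_s(X / O_π(X))` is characteristic -/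
instance comap_pCore_quotient_characteristic (π : Set ℕ) (s : ℕ) :
    ((Cfsg.pCore s (X ⧸ Cfsg.piCore π X)).comap
      (QuotientGroup.mk' (Cfsg.piCore π X))).Characteristic := by
  rw [Subgroup.characteristic_iff_le_comap]
  intro α x hx
  rw [Subgroup.mem_comap] at hx ⊢
  have hα : (Cfsg.piCore π X).map (α : X →* X) = Cfsg.piCore π X :=
    (Subgroup.characteristic_iff_map_eq.mp inferInstance) α
  set ᾱ := QuotientGroup.congr (Cfsg.piCore π X) (Cfsg.piCore π X) α hα with hᾱ
  have h1 : QuotientGroup.mk' (Cfsg.piCore π X) (α x) = ᾱ (QuotientGroup.mk' (Cfsg.piCore π X) x) := rfl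
  show QuotientGroup.mk' (Cfsg.piCore π X) (α x) ∈ Cfsg.pCore s (X ⧸ Cfsg.piCore π X)
  rw [h1]
  have hc : (Cfsg.pCore s (X ⧸ Cfsg.piCore π X)).Characteristic := inferInstance
  have h2 := (Subgroup.characteristic_iff_le_comap.mp hc) ᾱ
  exact h2 hx

end Quot

end Cfsg.Agent.Helper54.BenderLocal
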