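import Mathlib
import Cfsg.Agent.Lib.Helper54.BenderLocalC

/-!
# Bender's lemma on invariant `π'`-subgroups for a maximal local subgroup, part D (helper54)

`le_piCoreOf_of_invariant` : every `M`-invariant `q`-subgroup of `R` (`q ∤ |F(H)|`) lies in `O_{π(F)'}(R)`.
-/

set_option autoImplicit false

namespace Cfsg.Agent.Helper54.BenderLocal

open Subgroup Cfsg
open scoped commutatorElement
open Cfsg.Agent.Helper52 (sylCard)
open Cfsg.Agent.Helper54.SemiSimp (le_normalizer_inf le_normalizer_sup le_normalizer_centralizer)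

variable {G : Type*} [Group G]

theorem isSolvable_of_le {A B : Subgroup G} (h : A ≤ B) (hB : Group.IsSolvable B) : Group.IsSolvable A :=
  Group.isSolvable_of_isSolvable_injective (Subgroup.inclusion_injective h)

/-- if `N / K` is an `s`-group, `K` an `s'`-group and the coprime group `A` centralizes all `s`-subgroups it
normalizes together with `Z`, then `A` acts trivially on `N / K`. -/
theorem commutator_le_of_sylow_centralized [Finite G] (s : ℕ) [hs : Fact s.Prime]
    (K N Z A : Subgroup G) (hKN : K ≤ N) (hNK : N ≤ normalizer (K : Set G))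
    (a : ℕ) (hcardN : Nat.card N = Nat.card K * s ^ a) (hKs : (Nat.card K).Coprime s)
    (hZ : IsPGroup s Z) (hZN : Z ≤ normalizer (N : Set G)) (hZK : Z ≤ normalizer (K : Set G))
    (hAN : A ≤ normalizer (N : Set G)) (hAK : A ≤ normalizer (K : Set G))
    (hAZ : A ≤ centralizer (Z : Set G)) (hAsolv : Group.IsSolvable A)
    (hAcopK : (Nat.card A).Coprime (Nat.card K)) (hAcops : (Nat.card A).Coprime s)
    (hcent : ∀ P : Subgroup G, IsPGroup s P → A ≤ normalizer (P : Set G) → Z ≤ normalizer (P : Set G) →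
      A ≤ centralizer (P : Set G)) :
    ⁅N, A⁆ ≤ K := by
  classical
  set X1 : Subgroup G := N ⊔ Z with hX1
  obtain ⟨b, hb⟩ := IsPGroup.iff_card.mp hZ
  have hX1dvd : Nat.card X1 ∣ Nat.card K * s ^ (a + b) := by
    have := card_sup_dvd_of_le_normalizer N Z hZN
    rw [hcardN, hb, mul_assoc, ← pow_add] at this
    exact this
  have hAZn : A ≤ normalizer (Z : Set G) := hAZ.trans (centralizer_le_normalizer _)
  have hAX1 : A ≤ normalizer (X1 : Set G) := le_normalizer_sup hAN hAZn
  have hAcopX1 : (Nat.card A).Coprime (Nat.card X1) :=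
    Nat.Coprime.coprime_dvd_right hX1dvd
      (Nat.Coprime.mul_right hAcopK (Nat.Coprime.pow_right _ hAcops))
  obtain ⟨S, hSX1, hScard, hZS, hAS⟩ := Cfsg.Agent.Helper52.exists_invariant_sylow_ge A X1 hAX1 hAcopX1
    (Or.inl hAsolv) s Z le_sup_right hZ hAZn
  have hSs : IsPGroup s S :=
    IsPGroup.of_card (show Nat.card S = s ^ (Nat.card X1).factorization s from hScard)
  have hAcS : A ≤ centralizer (S : Set G) := hcent S hSs hAS (hZS.trans le_normalizer)
  have hX1K : X1 ≤ normalizer (K : Set G) := sup_le hNK hZK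
  have hSK : S ≤ normalizer (K : Set G) := hSX1.trans hX1K
  have hdisj : K ⊓ S = ⊥ := by
    apply (Subgroup.disjoint_of_coprime_natCard _).eq_bot
    obtain ⟨n, hn⟩ := IsPGroup.iff_card.mp hSs
    rw [hn]; exact Nat.Coprime.pow_right n hKs
  have hcardKS : Nat.card (K ⊔ S : Subgroup G) = Nat.card K * Nat.card S := by
    have h1 := Cfsg.Agent.Helper52.relIndex_sup_eq_card K S hSK hdisj
    have h2 := Cfsg.Agent.Helper52.card_mul_relIndex_eq (le_sup_left : K ≤ K ⊔ S)
    rw [h1] at h2; exact h2.symm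
  have hKSX1 : K ⊔ S ≤ X1 := sup_le (hKN.trans le_sup_left) hSX1
  have hle : Nat.card X1 ≤ Nat.card (K ⊔ S : Subgroup G) := by
    rw [hcardKS, hScard]
    unfold sylCard
    have h1 := Nat.ordProj_mul_ordCompl_eq_self (Nat.card X1) s
    have h2 : (Nat.card X1 / s ^ (Nat.card X1).factorization s) ∣ Nat.card K := by
      have h3 : (Nat.card X1 / s ^ (Nat.card X1).factorization s) ∣ Nat.card K * s ^ (a + b) :=
        (Nat.ordCompl_dvd _ _).trans hX1dvd
      have h4 : (Nat.card X1 / s ^ (Nat.card X1).factorization s).Coprime (s ^ (a + b)) :=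
        Nat.Coprime.pow_right _ (Nat.coprime_ordCompl hs.out Nat.card_pos.ne').symm
      exact h4.dvd_of_dvd_mul_right h3
    have h5 : Nat.card X1 / s ^ (Nat.card X1).factorization s ≤ Nat.card K :=
      Nat.le_of_dvd Nat.card_pos h2
    calc Nat.card X1 = s ^ (Nat.card X1).factorization s *
          (Nat.card X1 / s ^ (Nat.card X1).factorization s) := h1.symm
      _ ≤ s ^ (Nat.card X1).factorization s * Nat.card K := Nat.mul_le_mul_left _ h5
      _ = Nat.card K * s ^ (Nat.card X1).factorization s := mul_comm _ _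
  have hX1eq : K ⊔ S = X1 := Subgroup.eq_of_le_of_card_ge hKSX1 hle
  rw [Subgroup.commutator_le]
  intro n hn x hx
  have hnX : n ∈ ((S ⊔ K : Subgroup G) : Set G) := by
    rw [sup_comm, hX1eq]; exact (le_sup_left : N ≤ X1) hn
  rw [coe_mul_of_left_le_normalizer_right S K hSK] at hnX
  obtain ⟨y, hy, k, hk, rfl⟩ := Set.mem_mul.mp hnX
  have hyx : y * x = x * y := (mem_centralizer_iff.mp (hAcS hx)) y hy
  have hxk : x * k⁻¹ * x⁻¹ ∈ K := (mem_normalizer_iff.mp (hAK hx) k⁻¹).mp (K.inv_mem hk)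
  have hyK : ∀ z ∈ K, y * z * y⁻¹ ∈ K := fun z hz => (mem_normalizer_iff.mp (hSK hy) z).mp hz
  have h' : y⁻¹ * x⁻¹ = x⁻¹ * y⁻¹ := by rw [← mul_inv_rev, ← mul_inv_rev, hyx]
  have hcomm : ⁅y * k, x⁆ = y * (k * (x * k⁻¹ * x⁻¹)) * y⁻¹ := by
    rw [commutatorElement_def]
    calc (y * k) * x * (y * k)⁻¹ * x⁻¹ = y * k * x * k⁻¹ * (y⁻¹ * x⁻¹) := by group
      _ = y * k * x * k⁻¹ * (x⁻¹ * y⁻¹) := by rw [h']
      _ = y * (k * (x * k⁻¹ * x⁻¹)) * y⁻¹ := by group
  rw [hcomm]
  exact hyK _ (K.mul_mem hk hxk)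

/-- **Bender**: every `M`-invariant `q`-subgroup of `R` (`q ∤ |F(H)|`) lies in `O_{π(F)'}(R)`. -/
theorem le_piCoreOf_of_invariant [Finite G] (H M R : Subgroup G)
    (hmax : ∀ L : Subgroup G, Cfsg.IsLocalSubgroup L → H ≤ L → L = H)
    (hF2 : 2 ≤ (Nat.card (Cfsg.fittingOf H)).primeFactors.card)
    (hMF : M ≤ Cfsg.fittingOf H) (hCM : Cfsg.fittingOf H ⊓ centralizer (M : Set G) ≤ M)
    (hR : Group.IsSolvable R) (hMR : M ≤ normalizer (R : Set G))
    (hDR : H ⊓ centralizer (Cfsg.fittingOf H : Set G) ≤ normalizer (R : Set G))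
    (q : ℕ) [hq : Fact q.Prime] (hqF : ¬ q ∣ Nat.card (Cfsg.fittingOf H))
    (Q : Subgroup G) (hQR : Q ≤ R) (hQq : IsPGroup q Q) (hMQ : M ≤ normalizer (Q : Set G)) :
    Q ≤ Cfsg.piCoreOf (Cfsg.primesNotDvd (Nat.card (Cfsg.fittingOf H))) R := by
  classical
  set F := Cfsg.fittingOf H with hF
  set π' := Cfsg.primesNotDvd (Nat.card F) with hπ'
  set K' : Subgroup R := Cfsg.piCore π' R with hK'
  set K : Subgroup G := Cfsg.piCoreOf π' R with hK
  have hKdef : K = K'.map R.subtype := rfl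
  have hKR : K ≤ R := piCoreOf_le π' R
  have hRK : R ≤ normalizer (K : Set G) := le_normalizer_piCoreOf π' R
  have hNRK : normalizer (R : Set G) ≤ normalizer (K : Set G) :=
    normalizer_le_normalizer_map_of_characteristic R K'
  have hKpi := isPi_piCoreOf π' R
  have hKcopF : (Nat.card K).Coprime (Nat.card F) := coprime_of_isPi_primesNotDvd F K hKpi
  have hFsolv : Group.IsSolvable F := by
    have := isNilpotent_fittingOf H
    infer_instance
  have hQcopF : (Nat.card Q).Coprime (Nat.card F) := coprime_card_of_isPGroup hqF Q hQq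
  -- the quotient
  let φ : R →* R ⧸ K' := QuotientGroup.mk' K'
  set Q' : Subgroup R := Q.subgroupOf R with hQ'
  set Qb : Subgroup (R ⧸ K') := Q'.map φ with hQb
  have hQ'q : IsPGroup q Q' := hQq.of_equiv (subgroupOfEquivOfLe hQR).symm
  have hQbq : IsPGroup q Qb := hQ'q.map φ
  -- key: `Qb` centralizes each `O_s`
  have key : ∀ (s : ℕ) [Fact s.Prime], Cfsg.pCore s (R ⧸ K') ≤ centralizer (Qb : Set (R ⧸ K')) := by
    intro s hs
    by_cases hsF : s ∣ Nat.card F
    swap
    · have : Cfsg.pCore s (R ⧸ K') = ⊥ := pCore_quotient_eq_bot π' s ⟨hs.out, hsF⟩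
      rw [this]; exact bot_le
    obtain ⟨Zs, hZsne, hZsp, hZsM, hMZs, hZsH, hZsFs⟩ := exists_Z H M hmax hMF hCM s hsF
    obtain ⟨r, hrpf, hrs⟩ := Finset.exists_mem_ne hF2 s
    have hrp : r.Prime := (Nat.mem_primeFactors.mp hrpf).1
    have hrF : r ∣ Nat.card F := (Nat.mem_primeFactors.mp hrpf).2.1
    have : Fact r.Prime := ⟨hrp⟩
    obtain ⟨Zr, hZrne, hZrp, hZrM, hMZr, hZrH, hZrFr⟩ := exists_Z H M hmax hMF hCM r hrF
    set O : Subgroup G := (Cfsg.pPrimeCore s H).map H.subtype with hO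
    set A : Subgroup G := M ⊓ O with hA
    have hAM : A ≤ M := inf_le_left
    have hZrA : Zr ≤ A :=
      le_inf hZrM (hZrFr.trans (map_mono (Cfsg.Agent.Helper22.pCore_le_pPrimeCore_of_ne hrs)))
    have hOcop : (Nat.card O).Coprime s := by
      rw [hO, card_map_of_injective H.subtype_injective]
      exact Cfsg.Agent.Helper54.pPrimeCore_coprime s
    have hAcops : (Nat.card A).Coprime s :=
      Nat.Coprime.coprime_dvd_left (Subgroup.card_dvd_of_le inf_le_right) hOcop
    have hAdvdF : Nat.card A ∣ Nat.card F := Subgroup.card_dvd_of_le (hAM.trans hMF)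
    have hAcopK : (Nat.card A).Coprime (Nat.card K) :=
      Nat.Coprime.coprime_dvd_left hAdvdF hKcopF.symm
    have hAsolv : Group.IsSolvable A := isSolvable_of_le (hAM.trans hMF) hFsolv
    have hMO : M ≤ normalizer (O : Set G) := by
      have : (Cfsg.pPrimeCore s H).Normal := Cfsg.pPrimeCore_normal s H
      exact (hMF.trans (fittingOf_le H)).trans (le_normalizer_map_subtype_of_normal H _)
    have hMA : M ≤ normalizer (A : Set G) := le_normalizer_inf le_normalizer hMO
    -- `C_Q(A) = 1`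
    have hCQA : Q ⊓ centralizer (A : Set G) = ⊥ := by
      apply eq_bot_of_invariant H M R hMF hCM hR hDR
      · exact inf_le_right.trans ((centralizer_le hZrA).trans hZrH)
      · exact inf_le_left.trans hQR
      · exact le_normalizer_inf hMQ (le_normalizer_centralizer hMA)
      · exact Nat.Coprime.coprime_dvd_left (Subgroup.card_dvd_of_le inf_le_left) hQcopF
    have hAQ : A ≤ normalizer (Q : Set G) := hAM.trans hMQ
    have hAcopQ : (Nat.card A).Coprime (Nat.card Q) :=
      Nat.Coprime.coprime_dvd_left hAdvdF hQcopF.symm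
    have hQA : Q = ⁅Q, A⁆ := by
      have := Cfsg.Agent.Helper52.eq_commutator_sup_centralizer Q A hAQ hAcopQ (Or.inl hAsolv)
      rw [hCQA, sup_bot_eq] at this
      exact this
    -- the preimage `N` of `O_s(R / K)`
    set N' : Subgroup R := (Cfsg.pCore s (R ⧸ K')).comap φ with hN'
    set N : Subgroup G := N'.map R.subtype with hN
    have hNR : N ≤ R := map_subtype_le _
    have hKN : K ≤ N := map_mono (le_comap_mk' K' _)
    have hNRN : normalizer (R : Set G) ≤ normalizer (N : Set G) :=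
      normalizer_le_normalizer_map_of_characteristic R N'
    have hRN : R ≤ normalizer (N : Set G) := le_normalizer.trans hNRN
    obtain ⟨a, ha⟩ := IsPGroup.iff_card.mp
      (Cfsg.Agent.Helper70.pCore_isPGroup (G := R ⧸ K') (p := s))
    have hcardN : Nat.card N = Nat.card K * s ^ a := by
      rw [hN, hKdef, card_map_of_injective R.subtype_injective,
        card_map_of_injective R.subtype_injective, hN', card_comap_mk', ha]
    have hKs : (Nat.card K).Coprime s := Nat.Coprime.coprime_dvd_right hsF hKcopF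
    have hNA : ⁅N, A⁆ ≤ K := by
      apply commutator_le_of_sylow_centralized s K N Zs A hKN (hNR.trans hRK) a hcardN hKs hZsp
        ((hZsM.trans hMR).trans hNRN) ((hZsM.trans hMR).trans hNRK)
        ((hAM.trans hMR).trans hNRN) ((hAM.trans hMR).trans hNRK)
        (hAM.trans hMZs) hAsolv hAcopK hAcops
      intro P hP hAP hZP
      exact le_centralizer_of_invariant H s Zs A P hZsp hZsH (hAM.trans hMZs) inf_le_right hP hAP hZP
    -- three subgroups
    have hQK : Q ≤ normalizer (K : Set G) := hQR.trans hRK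
    have hAK : A ≤ normalizer (K : Set G) := (hAM.trans hMR).trans hNRK
    have hNK : N ≤ normalizer (K : Set G) := hNR.trans hRK
    have h1 : ⁅⁅A, N⁆, Q⁆ ≤ K := by
      have : ⁅A, N⁆ ≤ K := by rw [Subgroup.commutator_comm]; exact hNA
      exact (Subgroup.commutator_mono this le_rfl).trans (commutator_le_of_le_normalizer K Q hQK)
    have h2 : ⁅⁅N, Q⁆, A⁆ ≤ K := by
      have : ⁅N, Q⁆ ≤ N := commutator_le_of_le_normalizer N Q (hQR.trans hRN)
      exact (Subgroup.commutator_mono this le_rfl).trans hNA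
    have h3 : ⁅⁅Q, A⁆, N⁆ ≤ K := Crit.three_subgroups_le' hQK hAK hNK h1 h2
    rw [← hQA] at h3
    -- transfer to the quotient
    intro y hy
    rw [mem_centralizer_iff]
    intro x hx
    obtain ⟨x', hx', rfl⟩ := mem_map.mp hx
    obtain ⟨y', rfl⟩ := QuotientGroup.mk'_surjective K' y
    have hy'N : y' ∈ N' := hy
    have hc : ⁅(x' : G), (y' : G)⁆ ∈ K :=
      h3 (Subgroup.commutator_mem_commutator (mem_subgroupOf.mp hx') (mem_map_of_mem R.subtype hy'N))
    have hc' : ⁅x', y'⁆ ∈ K' := by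
      obtain ⟨k, hk, hkeq⟩ := mem_map.mp hc
      have : k = ⁅x', y'⁆ := by
        apply Subtype.ext
        have h0 : (k : G) = ⁅(x' : G), (y' : G)⁆ := hkeq
        rw [h0]
        simp [commutatorElement_def]
      rw [← this]; exact hk
    have h4 : φ ⁅x', y'⁆ = 1 := (QuotientGroup.eq_one_iff _).mpr hc'
    rw [map_commutatorElement] at h4
    exact commutatorElement_eq_one_iff_mul_comm.mp h4
  -- `Qb ≤ C(F(R/K))`
  have hQbF : Qb ≤ centralizer (Cfsg.fittingSubgroup (R ⧸ K') : Set (R ⧸ K')) := by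
    rw [le_centralizer_iff, Cfsg.Agent.Helper22.fittingSubgroup_eq_iSup_pCore]
    apply iSup_le
    rintro ⟨p, hp⟩
    have := Fact.mk hp
    exact key p
  have hQbF' : Qb ≤ Cfsg.fittingSubgroup (R ⧸ K') :=
    hQbF.trans Cfsg.Agent.Helper94.centralizer_fitting_le
  set Zc : Subgroup (R ⧸ K') := Cfsg.fittingSubgroup (R ⧸ K') ⊓
    centralizer (Cfsg.fittingSubgroup (R ⧸ K') : Set (R ⧸ K')) with hZc
  have hZcn : Zc.Normal := by rw [hZc]; infer_instance
  have hQbZc : Qb ≤ Zc := le_inf hQbF' hQbF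
  have hZcQb : Zc ≤ normalizer (Qb : Set (R ⧸ K')) := by
    apply le_normalizer_of_forall_conj_mem
    intro z hz u hu
    have hzc := (mem_inf.mp hz).2
    have h5 := (mem_centralizer_iff.mp hzc) u (hQbF' hu)
    have h6 : z * u * z⁻¹ = u := by rw [← h5, mul_inv_cancel_right]
    rw [h6]; exact hu
  have hQbq' : Qb ≤ Cfsg.pCore q (R ⧸ K') :=
    Cfsg.Agent.Helper22.le_pCore_of_subnormal hZcn.isSubnormal hQbZc hZcQb hQbq
  rw [pCore_quotient_eq_bot π' q ⟨hq.out, hqF⟩] at hQbq'
  intro x hx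
  have hxR : x ∈ R := hQR hx
  have h1 : φ ⟨x, hxR⟩ ∈ Qb := mem_map_of_mem φ (mem_subgroupOf.mpr hx)
  have h2 : φ ⟨x, hxR⟩ = 1 := mem_bot.mp (hQbq' h1)
  have h3 : (⟨x, hxR⟩ : R) ∈ K' := (QuotientGroup.eq_one_iff _).mp h2
  exact mem_map.mpr ⟨⟨x, hxR⟩, h3, rfl⟩

end Cfsg.Agent.Helper54.BenderLocal
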