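import Mathlib

/-!
# Definitions for the lemma server O5760B (helper54): S0980, case `n_5 = 96`

`ln x M a b` is the "line" through the points `aM`, `bM` of `G ⧸ M`: the point `aM` together with
the orbit of `bM` under the conjugate `a ⟨x⟩ a⁻¹`.
-/

set_option autoImplicit false

namespace Cfsg.Agent.Helper54.O5760B

universe u

variable {G : Type u} [Group G]

/-- The line through `aM` and `bM`: `aM` together with the `a ⟨x⟩ a⁻¹`-orbit of `bM`. -/
def ln (x : G) (M : Subgroup G) (a b : G) : Set (G ⧸ M) :=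
  {p | p = ((a : G) : G ⧸ M) ∨ ∃ i : ℕ, p = ((a * x ^ i * a⁻¹ * b : G) : G ⧸ M)}

/-- The set of all lines. -/
def lines (x : G) (M : Subgroup G) : Set (Set (G ⧸ M)) :=
  {ℓ | ∃ a b : G, ((a : G) : G ⧸ M) ≠ ((b : G) : G ⧸ M) ∧ ℓ = ln x M a b}

/-- Two sets of points are parallel: equal or disjoint. -/
def Par {P : Type u} (ℓ ℓ' : Set P) : Prop := ℓ = ℓ' ∨ Disjoint ℓ ℓ'

/-- The configuration reached in the case `n_5 = 96`, `|C(R)| = 15`, `|C(x)| = 180`:
`M = N(⟨x⟩)` has index 16, `x` (order 3) and `r` (order 5) fix only the point `M` of `G ⧸ M`. -/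
structure Cfg (x r : G) (M : Subgroup G) : Prop where
  hx : orderOf x = 3
  hxM : x ∈ M
  hnorm : ∀ m ∈ M, m * x * m⁻¹ ∈ Subgroup.zpowers x
  hcent : ∀ g : G, Commute g x → g ∈ M
  hidx : Nat.card (G ⧸ M) = 16
  hfx : ∀ g : G, g⁻¹ * x * g ∈ M → g ∈ M
  hr : orderOf r = 5
  hrM : r ∈ M
  hfr : ∀ g : G, g⁻¹ * r * g ∈ M → g ∈ M
  hinv : ∀ g : G, g ∉ M → ∃ v : G, orderOf v = 2 ∧ Commute v x ∧ Commute v (g * x * g⁻¹)
  hfour : ∀ v : G, orderOf v = 2 → Commute v x → Nat.card (MulAction.fixedBy (G ⧸ M) v) = 4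

end Cfsg.Agent.Helper54.O5760B
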