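import Mathlib
import Cfsg.Prelude.Def_OddOrder
import Cfsg.Prelude.Def_OddOrderLocal

/-!
# Small tools for the assembly of B-G Theorem 14.2 (helper54)
-/

set_option autoImplicit false

namespace Cfsg.Agent.Helper54.BG142

open Cfsg Subgroup

variable {G : Type*} [Group G]

theorem centralizer_zpowers_eq' (x : G) :
    centralizer ((zpowers x : Subgroup G) : Set G) = centralizer ({x} : Set G) := by
  rw [zpowers_eq_closure, centralizer_closure]

theorem eq_zpowers_of_prime_card' [Finite G] {X : Subgroup G} (hX : (Nat.card X).Prime) {x : G}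
    (hx : x ∈ X) (hx1 : x ≠ 1) : X = zpowers x := by
  have hle : zpowers x ≤ X := (zpowers_le).mpr hx
  have hdvd : Nat.card (zpowers x) ∣ Nat.card X := Subgroup.card_dvd_of_le hle
  have hne : Nat.card (zpowers x) ≠ 1 := by
    intro h
    apply hx1
    have := (Subgroup.card_eq_one).mp h
    have hx' : x ∈ zpowers x := mem_zpowers x
    rw [this, mem_bot] at hx'
    exact hx'
  have hc : Nat.card (zpowers x) = Nat.card X := by
    rcases (Nat.dvd_prime hX).mp hdvd with h | h
    · exact absurd h hne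
    · exact h
  exact (Subgroup.eq_of_le_of_card_ge hle hc.ge).symm

/-- `C(X) = C(x)` for a subgroup `X` of prime order and `1 ≠ x ∈ X`. -/
theorem centralizer_eq_of_prime_card [Finite G] {X : Subgroup G} (hX : (Nat.card X).Prime) {x : G}
    (hx : x ∈ X) (hx1 : x ≠ 1) :
    centralizer ((X : Subgroup G) : Set G) = centralizer ({x} : Set G) := by
  rw [eq_zpowers_of_prime_card' hX hx hx1, centralizer_zpowers_eq']

theorem exists_mem_ne_one_of_prime_card [Finite G] {X : Subgroup G} (hX : (Nat.card X).Prime) :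
    ∃ x ∈ X, x ≠ 1 := by
  have : X ≠ ⊥ := by
    intro h
    rw [h, Subgroup.card_bot] at hX
    exact Nat.not_prime_one hX
  exact (Subgroup.ne_bot_iff_exists_ne_one).mp this |>.elim fun x hx => ⟨x.1, x.2, fun h => hx (Subtype.ext h)⟩

theorem card_mul_relIndex' [Finite G] {U K : Subgroup G} (hUK : U ≤ K) :
    Nat.card U * U.relIndex K = Nat.card K := by
  rw [relIndex, ← card_mul_index (U.subgroupOf K),
    Nat.card_congr (subgroupOfEquivOfLe hUK).toEquiv]

/-- Cauchy inside a subgroup. -/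
theorem exists_orderOf_eq_of_dvd_card [Finite G] {K : Subgroup G} {p : ℕ} (hp : p.Prime)
    (h : p ∣ Nat.card K) : ∃ x ∈ K, orderOf x = p := by
  haveI : Fact p.Prime := ⟨hp⟩
  obtain ⟨x, hx⟩ := exists_prime_orderOf_dvd_card' (G := K) p h
  exact ⟨x.1, x.2, by rw [← hx]; exact (Subgroup.orderOf_coe x)⟩

theorem card_zpowers_eq_orderOf (x : G) : Nat.card (zpowers x) = orderOf x :=
  Nat.card_zpowers x

/-- a nontrivial element has a power of prime order. -/
theorem exists_pow_prime_order [Finite G] {k : G} (hk : k ≠ 1) :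
    ∃ n : ℕ, (orderOf (k ^ n)).Prime := by
  have h0 : orderOf k ≠ 0 := (orderOf_pos k).ne'
  have h1 : orderOf k ≠ 1 := fun h => hk (orderOf_eq_one_iff.mp h)
  obtain ⟨p, hp, hpd⟩ := Nat.exists_prime_and_dvd h1
  exact ⟨orderOf k / p, by rw [orderOf_pow_orderOf_div h0 hpd]; exact hp⟩

theorem ne_bot_of_prime_card' [Finite G] {X : Subgroup G} (hX : (Nat.card X).Prime) : X ≠ ⊥ := by
  intro h
  rw [h, Subgroup.card_bot] at hX
  exact Nat.not_prime_one hX

/-- a prime of `κ(M)` lies in `τ₁(M)` or `τ₃(M)` (given `p`-rank one). -/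
theorem mem_tau1_or_tau3 {M : Subgroup G} {p : ℕ} (hp : p.Prime) (hpσ : p ∉ sigma M)
    (hpM : p ∣ Nat.card M) (hr : PRankLE p 1 M) : p ∈ tau1 M ∨ p ∈ tau3 M := by
  by_cases h : p ∣ Nat.card ↥⁅M, M⁆
  · exact Or.inr ⟨hp, hpσ, h, hr⟩
  · exact Or.inl ⟨hp, hpσ, hpM, h, hr⟩

theorem not_tau1_of_tau3 {M : Subgroup G} {p : ℕ} (h3 : p ∈ tau3 M) : p ∉ tau1 M :=
  fun h1 => h1.2.2.2.1 h3.2.2.1

/-- a `κ`-prime divides the order of a Hall `κ`-subgroup. -/
theorem dvd_card_of_mem_kappa [Finite G] {M K : Subgroup G} (hK : IsPiHallOf (kappa M) K M) {p : ℕ}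
    (hp : p ∈ kappa M) : p ∣ Nat.card K := by
  have h1 : p ∣ Nat.card M := hp.2.1
  rw [← card_mul_relIndex' hK.1] at h1
  rcases (Nat.Prime.dvd_mul hp.1).mp h1 with h | h
  · exact h
  · exact absurd h (hK.2.2 p hp.1 hp)

end Cfsg.Agent.Helper54.BG142
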