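import Mathlib
import Cfsg.Agent.Lib.Helper30.BG144cDefs
import Cfsg.Agent.Lib.Helper15.BGV.Tools
import Cfsg.Agent.Lib.Helper55.BGHall
import Cfsg.Agent.Lib.Helper23.FittingHall
import Cfsg.Agent.Lib.Helper54.BG142Tools

/-!
# B-G 14.4(c) (row S1376), piece (C) of helper30's server: `E = M ⊓ Nst` is abelian (helper54)
-/

set_option autoImplicit false
set_option linter.unusedVariables false
set_option linter.unusedSectionVars false

namespace Cfsg.Agent.Helper54.BG144c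

open Cfsg Subgroup Cfsg.Agent.Helper30.BG144c Cfsg.Agent.Helper52 Cfsg.Agent.Helper15.BGU
  Cfsg.Agent.Helper15.BGV Cfsg.Agent.Helper55.BGB Cfsg.Agent.Helper54.BG142

open scoped commutatorElement

universe u

variable {G : Type u} [Group G] [Finite G]

/-- a prime of `σ(M)` does not divide the order of a complement of `M_σ`. -/
theorem not_dvd_card_compl {M E : Subgroup G} (hHall : IsPiHallOf (sigma M) (sigmaCore M) M)
    (hE : IsComplIn E (sigmaCore M) M) {q : ℕ} (hq : q.Prime) (hqσ : q ∈ sigma M) :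
    ¬ q ∣ Nat.card E := by
  intro hqE
  have h1 : ¬ q ∣ (sigmaCore M).relIndex M := hHall.2.2 q hq hqσ
  have h2 : Nat.card (sigmaCore M) * (sigmaCore M).relIndex M = Nat.card M :=
    card_mul_relIndex' hHall.1
  have h3 : Nat.card M = Nat.card E * Nat.card (sigmaCore M) :=
    Cfsg.Agent.Helper23.card_of_isComplIn hE
  rw [h3, mul_comm (Nat.card E)] at h2
  have h4 : (sigmaCore M).relIndex M = Nat.card E :=
    Nat.eq_of_mul_eq_mul_left Nat.card_pos h2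
  rw [h4] at h1
  exact h1 hqE

theorem E_comm (hG : IsMinSimpleOddOrder G) (r1350 : R1350 G) (r1414 : R1414 G) (r1423 : R1423 G)
    (r1429 : R1429 G)
    {M N Nst : Subgroup G} (hM : IsCoatom M) {x0 : G} {q p : ℕ} {K U : Subgroup G}
    (A : SetupA M N x0 q K U) (B : SetupB M N Nst x0 K U p) :
    ∀ a ∈ M ⊓ Nst, ∀ b ∈ M ⊓ Nst, a * b = b * a := by
  haveI : Fact q.Prime := ⟨A.hq⟩
  haveI : Fact p.Prime := ⟨B.hp⟩
  have hHall := (r1350 M hM).1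
  have hE := B.hE
  have hEM : M ⊓ Nst ≤ M := inf_le_left
  have hσM : sigmaCore M ≤ M := hHall.1
  have hNσ : M ≤ normalizer ((sigmaCore M : Subgroup G) : Set G) := le_normalizer_sigmaCore M
  -- `p ∉ σ(M)`
  have hpσ : p ∉ sigma M := by
    intro h
    have hKp : IsPGroup p K := IsPGroup.of_card (n := 1) (by rw [B.hKp, pow_one])
    have hKσ : K ≤ sigmaCore M :=
      le_sigmaCore_of_isPGroup B.hp hHall h (B.hKE.trans hEM) hKp
    have h1 : K ≤ (M ⊓ Nst) ⊓ sigmaCore M := le_inf B.hKE hKσ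
    rw [hE.2.2.1] at h1
    have hK1 : K = ⊥ := le_bot_iff.mp h1
    have h2 := B.hKp
    rw [hK1, Subgroup.card_bot] at h2
    exact B.hp.one_lt.ne h2
  have hpM : p ∣ Nat.card M := by
    rw [← B.hKp]; exact Subgroup.card_dvd_of_le (B.hKE.trans hEM)
  have hP1 : ¬ (∀ q' : ℕ, q'.Prime → q' ∣ Nat.card M → q' ∉ sigma M → q' ∈ kappa M) := by
    intro h
    have := h p B.hp hpM hpσ
    rw [B.hκ] at this
    exact this
  obtain ⟨S⟩ : Nonempty (Sylow p M) := inferInstance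
  have hnil : Group.IsNilpotent (sigmaCore M) :=
    (r1429 M hM hP1 p hpM (by
      rintro (h | h)
      · exact hpσ h
      · rw [B.hκ] at h; exact h) S).2.2
  -- `q ∈ σ(M) \ β(M)`
  have hqσ : q ∈ sigma M := by
    apply hHall.2.1 q A.hq
    rw [← A.hx0o]
    exact Subgroup.orderOf_dvd_natCard _ A.hx0
  have hqM : q ∣ Nat.card M := by
    rw [← A.hx0o]
    exact Subgroup.orderOf_dvd_natCard _ (hσM A.hx0)
  have hqβ : q ∉ beta M := by
    intro hβ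
    obtain ⟨P⟩ : Nonempty (Sylow q ↥(sigmaCore M)) := inferInstance
    have := (r1423 M hM q hqσ (zpowers x0) (zpowers_le.mpr (hσM A.hx0))
      (by rw [Nat.card_zpowers, A.hx0o]) P (Or.inl hβ)).1.1
    apply A.hx0M
    rwa [centralizer_zpowers_eq'] at this
  -- the normal `q`-complement `W` of `M'`
  obtain ⟨W, hWK, hWn, hWq, hWu⟩ :=
    exists_normal_compl ((r1414 M hM).2.2.2.2 q A.hq hqM hqβ).1
  have hder : ⁅M, M⁆ ≤ M := Subgroup.commutator_le_self M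
  have hconjD : ∀ m ∈ M, ∀ x ∈ ⁅M, M⁆, m * x * m⁻¹ ∈ ⁅M, M⁆ := by
    intro m hm x hx
    have h1 : ⁅m, x⁆ ∈ ⁅M, M⁆ := Subgroup.commutator_mem_commutator hm (hder hx)
    have h2 : m * x * m⁻¹ = ⁅m, x⁆ * x := by
      simp [commutatorElement_def, mul_assoc]
    rw [h2]
    exact mul_mem h1 hx
  -- `W` is normal in `M`
  have hconjW : ∀ m ∈ M, ∀ w ∈ W, m * w * m⁻¹ ∈ W := by
    intro m hm w hw
    have h1 : W.map (MulAut.conj m).toMonoidHom ≤ ⁅M, M⁆ := by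
      rintro _ ⟨y, hy, rfl⟩
      exact hconjD m hm y (hWK hy)
    have h2 : (Nat.card (W.map (MulAut.conj m).toMonoidHom)).Coprime q := by
      rw [Subgroup.card_map_of_injective (MulAut.conj m).injective]; exact hWq
    exact hWu _ h1 h2 ⟨w, hw, rfl⟩
  -- the normal Sylow `q`-subgroup `Q` of `M_σ`
  obtain ⟨Q, hQK, hQc, hQn⟩ := exists_normal_sylow_of_nilpotent hnil hNσ q
  have hQq : IsPGroup q Q := isPGroup_of_card_sylCard q hQc
  have hx0Q : x0 ∈ Q := by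
    have hZq : IsPGroup q (zpowers x0) :=
      IsPGroup.of_card (n := 1) (by rw [Nat.card_zpowers, A.hx0o, pow_one])
    obtain ⟨l, hl, hlQ⟩ := exists_conj_le_sylow hZq (zpowers_le.mpr A.hx0) hQK hQc
    have h1 : l * x0 * l⁻¹ ∈ Q := hlQ ⟨x0, mem_zpowers x0, rfl⟩
    have h2 : l⁻¹ ∈ normalizer (Q : Set G) := hQn (hσM ((sigmaCore M).inv_mem hl))
    have h3 := conj_mem_of_mem_normalizer h2 h1
    have e : l⁻¹ * (l * x0 * l⁻¹) * l⁻¹⁻¹ = x0 := by group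
    rwa [e] at h3
  have hQW : Q ⊓ W = ⊥ := by
    apply inf_eq_bot_of_coprime_card
    obtain ⟨k, hk⟩ := IsPGroup.iff_card.mp hQq
    rw [hk]
    exact (Nat.Coprime.pow_right k hWq).symm
  -- `E` is a `q'`-group
  have hqE : ¬ q ∣ Nat.card ↥(M ⊓ Nst) := not_dvd_card_compl hHall hE A.hq hqσ
  have hEE : ⁅M ⊓ Nst, M ⊓ Nst⁆ ≤ W := by
    apply hWu _ (Subgroup.commutator_mono hEM hEM)
    have h1 : Nat.card ↥⁅M ⊓ Nst, M ⊓ Nst⁆ ∣ Nat.card ↥(M ⊓ Nst) :=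
      Subgroup.card_dvd_of_le (Subgroup.commutator_le_self _)
    rw [Nat.coprime_comm, Nat.Prime.coprime_iff_not_dvd A.hq]
    exact fun h => hqE (dvd_trans h h1)
  intro a ha b hb
  have he : ⁅a, b⁆ ∈ ⁅M ⊓ Nst, M ⊓ Nst⁆ := Subgroup.commutator_mem_commutator ha hb
  have heW : ⁅a, b⁆ ∈ W := hEE he
  have heE : ⁅a, b⁆ ∈ M ⊓ Nst := Subgroup.commutator_le_self _ he
  have heM : ⁅a, b⁆ ∈ M := hEM heE
  have hx0M : x0 ∈ M := hσM A.hx0
  -- the commutator of `x0` and `e` lies in `Q ⊓ W`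
  have hc1 : x0 * ⁅a, b⁆ * x0⁻¹ * ⁅a, b⁆⁻¹ ∈ W :=
    W.mul_mem (hconjW x0 hx0M _ heW) (W.inv_mem heW)
  have hc2 : x0 * ⁅a, b⁆ * x0⁻¹ * ⁅a, b⁆⁻¹ ∈ Q := by
    have h1 : ⁅a, b⁆ * x0⁻¹ * ⁅a, b⁆⁻¹ ∈ Q :=
      conj_mem_of_mem_normalizer (hQn heM) (Q.inv_mem hx0Q)
    have := Q.mul_mem hx0Q h1
    have e : x0 * (⁅a, b⁆ * x0⁻¹ * ⁅a, b⁆⁻¹) = x0 * ⁅a, b⁆ * x0⁻¹ * ⁅a, b⁆⁻¹ := by group
    rwa [e] at this
  have hc : x0 * ⁅a, b⁆ * x0⁻¹ * ⁅a, b⁆⁻¹ ∈ Q ⊓ W := ⟨hc2, hc1⟩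
  rw [hQW, mem_bot] at hc
  have hcomm : ⁅a, b⁆ * x0 = x0 * ⁅a, b⁆ := by
    have : x0 * ⁅a, b⁆ = (x0 * ⁅a, b⁆ * x0⁻¹ * ⁅a, b⁆⁻¹) * (⁅a, b⁆ * x0) := by group
    rw [this, hc, one_mul]
  have h1 : ⁅a, b⁆ = 1 := B.hF1 _ heE hcomm
  rw [commutatorElement_def] at h1
  have : a * b = (a * b * a⁻¹ * b⁻¹) * (b * a) := by group
  rw [this, h1, one_mul]

end Cfsg.Agent.Helper54.BG144c
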