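import Mathlib
import Cfsg.Agent.Lib.Helper87.Critical

/-!
# Thompson's critical subgroup, with `[G, C] ≤ Z(C)`

Copy of helper87's `exists_critical` (same subgroup `C`), recording in addition that
`[C, G] ≤ Z(C)`.
-/

set_option autoImplicit false

namespace Cfsg.Agent.Helper54.KInf

open Cfsg.Agent.Helper87
open scoped commutatorElement

variable {G : Type*} [Group G]

section PGroup

variable [Finite G] {p : ℕ} [hp : Fact p.Prime]

/-- **Thompson's critical subgroup**: a finite `p`-group has a characteristic subgroup `C` containing its own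
centralizer, whose commutators and `p`-th powers are central in `C` -/
theorem exists_critical_full (hG : IsPGroup p G) :
    ∃ C : Subgroup G, C.Characteristic ∧ Subgroup.centralizer (C : Set G) ≤ C ∧
      (∀ x ∈ C, ∀ y ∈ C, ∀ z ∈ C, ⁅x, y⁆ * z = z * ⁅x, y⁆) ∧
      (∀ x ∈ C, ∀ z ∈ C, x ^ p * z = z * x ^ p) ∧
      (∀ x ∈ C, ∀ g : G, ⁅x, g⁆ ∈ C ⊓ Subgroup.centralizer (C : Set G)) := by
  classical
  -- a maximal characteristic abelian subgroup
  let 𝒮 : Set (Subgroup G) := {M | M.Characteristic ∧ ∀ a ∈ M, ∀ b ∈ M, a * b = b * a}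
  have h𝒮fin : 𝒮.Finite := Set.toFinite 𝒮
  have h𝒮ne : 𝒮.Nonempty := ⟨⊥, Subgroup.botCharacteristic, fun a ha b hb => by
    rw [Subgroup.mem_bot.1 ha, Subgroup.mem_bot.1 hb]⟩
  obtain ⟨M, ⟨hMchar, hMab⟩, hMmax⟩ := Set.exists_max_image 𝒮 (fun M => Nat.card M) h𝒮fin h𝒮ne
  have hMmax' : ∀ M' : Subgroup G, M'.Characteristic → (∀ a ∈ M', ∀ b ∈ M', a * b = b * a) → M ≤ M' →
      M' = M := by
    intro M' h1 h2 h3
    exact (Subgroup.eq_of_le_of_card_ge h3 (hMmax M' ⟨h1, h2⟩)).symm
  have hMn : M.Normal := Subgroup.normal_of_characteristic M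
  have hHchar : (Subgroup.centralizer (M : Set G)).Characteristic := Subgroup.characteristic_centralizer
  have hHn : (Subgroup.centralizer (M : Set G)).Normal :=
    Subgroup.normal_of_characteristic _
  have hMH : M ≤ Subgroup.centralizer (M : Set G) := by
    intro a ha
    rw [Subgroup.mem_centralizer_iff]
    intro b hb
    exact hMab b hb a ha
  have hcharmem : ∀ {K : Subgroup G}, K.Characteristic → ∀ (φ : G ≃* G) {x : G}, x ∈ K → φ x ∈ K := by
    intro K hK φ x hx
    exact (Subgroup.characteristic_iff_map_le.1 hK φ) ⟨x, hx, rfl⟩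
  by_cases hcase : Subgroup.centralizer (M : Set G) ≤ M
  · refine ⟨M, hMchar, hcase, fun x hx y hy z hz => ?_, fun x hx z hz => ?_, fun x hx g => ?_⟩
    · have : ⁅x, y⁆ = 1 := by rw [commutatorElement_def, hMab x hx y hy]; group
      rw [this, one_mul, mul_one]
    · exact hMab _ (M.pow_mem hx p) z hz
    · have hxg : ⁅x, g⁆ ∈ M := by
        rw [commutatorElement_def]
        have : x * g * x⁻¹ * g⁻¹ = x * (g * x⁻¹ * g⁻¹) := by group
        rw [this]
        exact M.mul_mem hx (hMn.conj_mem _ (M.inv_mem hx) g)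
      exact Subgroup.mem_inf.mpr ⟨hxg, hMH hxg⟩
  · have hlt : M < Subgroup.centralizer (M : Set G) := lt_of_le_of_ne hMH (fun h => hcase h.ge)
    -- the subgroup C
    let C : Subgroup G :=
      { carrier := {x | x ∈ Subgroup.centralizer (M : Set G) ∧ x ^ p ∈ M ∧ ∀ g : G, ⁅x, g⁆ ∈ M}
        mul_mem' := by
          rintro x y ⟨hx1, hx2, hx3⟩ ⟨hy1, hy2, hy3⟩
          refine ⟨Subgroup.mul_mem _ hx1 hy1, ?_, fun g => ?_⟩
          · have hcomm : Commute ((x : G ⧸ M)) ((y : G ⧸ M)) := by
              have h1 : ⁅x, y⁆ ∈ M := hx3 y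
              have h2 : ((⁅x, y⁆ : G) : G ⧸ M) = 1 := (QuotientGroup.eq_one_iff _).2 h1
              rw [commutatorElement_def] at h2
              have h3 : ((x : G ⧸ M)) * (y : G ⧸ M) * (x : G ⧸ M)⁻¹ * (y : G ⧸ M)⁻¹ = 1 := by
                simpa using h2
              have h4 : ((x : G ⧸ M)) * (y : G ⧸ M) = (y : G ⧸ M) * (x : G ⧸ M) := by
                calc ((x : G ⧸ M)) * (y : G ⧸ M)
                    = ((x : G ⧸ M) * (y : G ⧸ M) * (x : G ⧸ M)⁻¹ * (y : G ⧸ M)⁻¹) *
                        ((y : G ⧸ M) * (x : G ⧸ M)) := by group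
                  _ = (y : G ⧸ M) * (x : G ⧸ M) := by rw [h3, one_mul]
              exact h4
            have h5 : (((x * y) ^ p : G) : G ⧸ M) = 1 := by
              have : (((x * y) ^ p : G) : G ⧸ M) = ((x : G ⧸ M) * (y : G ⧸ M)) ^ p := by simp
              rw [this, hcomm.mul_pow]
              have hx2' : ((x : G ⧸ M)) ^ p = 1 := by
                have := (QuotientGroup.eq_one_iff (N := M) (x ^ p)).2 hx2
                simpa using this
              have hy2' : ((y : G ⧸ M)) ^ p = 1 := by
                have := (QuotientGroup.eq_one_iff (N := M) (y ^ p)).2 hy2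
                simpa using this
              rw [hx2', hy2', one_mul]
            exact (QuotientGroup.eq_one_iff _).1 h5
          · rw [commutatorElement_mul_left']
            exact M.mul_mem (hMn.conj_mem _ (hy3 g) _) (hx3 g)
        one_mem' := ⟨Subgroup.one_mem _, by rw [one_pow]; exact M.one_mem, fun g => by
          simp [commutatorElement_def, M.one_mem]⟩
        inv_mem' := by
          rintro x ⟨hx1, hx2, hx3⟩
          refine ⟨Subgroup.inv_mem _ hx1, by rw [inv_pow]; exact M.inv_mem hx2, fun g => ?_⟩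
          rw [commutatorElement_inv_left']
          have := hMn.conj_mem _ (M.inv_mem (hx3 g)) x⁻¹
          rwa [inv_inv] at this }
    have hCmem : ∀ {x : G}, x ∈ C ↔ x ∈ Subgroup.centralizer (M : Set G) ∧ x ^ p ∈ M ∧
        ∀ g : G, ⁅x, g⁆ ∈ M := fun {x} => Iff.rfl
    have hMC : M ≤ C := by
      intro m hm
      refine hCmem.2 ⟨hMH hm, M.pow_mem hm p, fun g => ?_⟩
      rw [commutatorElement_def]
      have : m * g * m⁻¹ * g⁻¹ = m * (g * m⁻¹ * g⁻¹) := by group
      rw [this]
      exact M.mul_mem hm (hMn.conj_mem _ (M.inv_mem hm) g)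
    have hCchar : C.Characteristic := by
      rw [Subgroup.characteristic_iff_map_le]
      rintro φ _ ⟨x, hx, rfl⟩
      obtain ⟨hx1, hx2, hx3⟩ := hCmem.1 hx
      refine hCmem.2 ⟨hcharmem hHchar φ hx1, ?_, fun g => ?_⟩
      · have := hcharmem hMchar φ hx2
        rwa [map_pow] at this
      · have h1 := hcharmem hMchar φ (hx3 (φ.symm g))
        have h2 : φ ⁅x, φ.symm g⁆ = ⁅φ x, g⁆ := by
          rw [commutatorElement_def, commutatorElement_def]
          simp
        rw [h2] at h1
        exact h1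
    -- M commutes with C
    have hMcomm : ∀ m ∈ M, ∀ z ∈ C, m * z = z * m := by
      intro m hm z hz
      have hz1 : z ∈ Subgroup.centralizer (M : Set G) := (hCmem.1 hz).1
      rw [Subgroup.mem_centralizer_iff] at hz1
      exact hz1 m hm
    refine ⟨C, hCchar, ?_, fun x hx y hy z hz => hMcomm _ ((hCmem.1 hx).2.2 y) z hz,
      fun x hx z hz => hMcomm _ (hCmem.1 hx).2.1 z hz, fun x hx g => ?_⟩
    swap
    · have hxg : ⁅x, g⁆ ∈ M := (hCmem.1 hx).2.2 g
      refine Subgroup.mem_inf.mpr ⟨hMC hxg, ?_⟩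
      rw [Subgroup.mem_centralizer_iff]
      intro z hz
      exact (hMcomm _ hxg z hz).symm
    -- the centralizer of C lies in C
    by_contra hQC
    have hQchar : (Subgroup.centralizer (C : Set G)).Characteristic :=
      @Subgroup.characteristic_centralizer _ _ C hCchar
    have hQn : (Subgroup.centralizer (C : Set G)).Normal := Subgroup.normal_of_characteristic _
    have hMQ : M ≤ Subgroup.centralizer (C : Set G) := by
      intro m hm
      rw [Subgroup.mem_centralizer_iff]
      intro z hz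
      exact (hMcomm m hm z hz).symm
    have hQH : Subgroup.centralizer (C : Set G) ≤ Subgroup.centralizer (M : Set G) :=
      Subgroup.centralizer_le hMC
    have hMQlt : M < Subgroup.centralizer (C : Set G) :=
      lt_of_le_of_ne hMQ (fun h => hQC (h ▸ hMC))
    obtain ⟨x, hxQ, hxM, hxp, hxc⟩ := exists_central_mod_pow hG hMn hQn hMQlt
    have hxC : x ∈ C := hCmem.2 ⟨hQH hxQ, hxp, hxc⟩
    -- Z(C) is characteristic abelian containing M
    have hZchar : (C ⊓ Subgroup.centralizer (C : Set G)).Characteristic :=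
      @Subgroup.characteristic_inf _ _ _ _ hCchar hQchar
    have hZab : ∀ a ∈ C ⊓ Subgroup.centralizer (C : Set G), ∀ b ∈ C ⊓ Subgroup.centralizer (C : Set G),
        a * b = b * a := by
      intro a ha b hb
      have hb2 : b ∈ Subgroup.centralizer (C : Set G) := hb.2
      rw [Subgroup.mem_centralizer_iff] at hb2
      exact hb2 a ha.1
    have hZ := hMmax' _ hZchar hZab (le_inf hMC hMQ)
    exact hxM (hZ ▸ ⟨hxC, hxQ⟩)



end PGroup

end Cfsg.Agent.Helper54.KInf
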