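import Mathlib
import Cfsg.Prelude.Def_ConjugacyFunctors
import Cfsg.Agent.Lib.Helper33.KInfSub

/-!
# Glauberman's K-infinity subgroups and a critical subgroup of `O_p(G)`

Abstract part (inside a group `P`, in use a Sylow `p`-subgroup): `A ⊴ P` of class at most two,
`A ≤ T`, `[T, A] ≤ Z(A)`.  If every element acting "quadratically on `A / Z(A)` and on `Z(A)`"
lies in `T`, and every member of a lower-star family relative to a subgroup containing `A` lies
in `T`, then all terms of the K-sequence of `P` (of nonnegative index) lie between `A` and `T`.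
-/

set_option autoImplicit false

namespace Cfsg.Agent.Helper54.KInf

open Subgroup Cfsg
open scoped commutatorElement

section abstract

variable {P : Type*} [Group P]

/-- the centre of a subgroup, inside the ambient group -/
abbrev zc (A : Subgroup P) : Subgroup P := A ⊓ centralizer (A : Set P)

theorem zc_normal (A : Subgroup P) [A.Normal] : (zc A).Normal := inferInstance

theorem commutator_zc_self (A : Subgroup P) : ⁅zc A, zc A⁆ = ⊥ := by
  rw [commutator_eq_bot_iff_le_centralizer]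
  exact inf_le_right.trans (centralizer_le inf_le_left)

theorem zc_mem_classTwo (A : Subgroup P) : zc A ∈ classTwoSubgroups P := by
  show ⁅zc A, zc A⁆ ≤ _
  rw [commutator_zc_self]
  exact bot_le

theorem commutator_commutator_self_eq_bot {B : Subgroup P} (hB : B ∈ classTwoSubgroups P) :
    ⁅⁅B, B⁆, B⁆ = ⊥ := (Cfsg.Agent.Helper33.mem_classTwo_iff).mp hB

/-- source 1: members of an upper-star family relative to `Q ≥ A` act quadratically on `A`. -/
theorem quadratic_of_mem_upper {A Q B : Subgroup P} (hAQ : A ≤ Q) (hB : B ∈ kUpperStarFamily Q) :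
    ⁅⁅A, B⁆, B⁆ = ⊥ := by
  obtain ⟨_, hBQ⟩ := hB
  rw [commutator_eq_bot_iff_le_centralizer, commutator_comm]
  exact ((commutator_mono le_rfl hAQ).trans hBQ).trans inf_le_right

theorem le_of_mem_upper {A T Q B : Subgroup P}
    (hbq : ∀ g : P, ⁅⁅A, zpowers g⁆, zpowers g⁆ ≤ zc A → ⁅⁅zc A, zpowers g⁆, zpowers g⁆ = ⊥ →
      g ∈ T)
    (hAQ : A ≤ Q) (hB : B ∈ kUpperStarFamily Q) : B ≤ T := by
  have h1 := quadratic_of_mem_upper hAQ hB
  intro g hg
  have hgB : zpowers g ≤ B := zpowers_le.mpr hg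
  have h2 : ⁅⁅A, zpowers g⁆, zpowers g⁆ = ⊥ :=
    eq_bot_iff.mpr ((commutator_mono (commutator_mono le_rfl hgB) hgB).trans h1.le)
  apply hbq g
  · rw [h2]; exact bot_le
  · rw [eq_bot_iff, ← h2]
    exact commutator_mono (commutator_mono inf_le_left le_rfl) le_rfl

/-- source 3: a "critical" `A` belongs to every lower-star family. -/
theorem mem_lower_of_crit {A T : Subgroup P} [hAn : A.Normal] (hA2 : A ∈ classTwoSubgroups P)
    (hTA : ⁅T, A⁆ ≤ zc A)
    (hbq : ∀ g : P, ⁅⁅A, zpowers g⁆, zpowers g⁆ ≤ zc A → ⁅⁅zc A, zpowers g⁆, zpowers g⁆ = ⊥ →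
      g ∈ T)
    (Q : Subgroup P) : A ∈ kLowerStarFamily Q := by
  refine ⟨hA2, ?_, ?_⟩
  · rw [normalizer_eq_top]; exact le_top
  · intro A₁ _ _ hAN h1 h2
    have hA₁T : A₁ ≤ T := by
      intro g hg
      have hgA : zpowers g ≤ A₁ := zpowers_le.mpr hg
      apply hbq g
      · have hx : ⁅A, zpowers g⁆ ≤ A₁ :=
          (commutator_mono le_rfl hgA).trans (le_normalizer_iff_commutator_le_right.mp hAN)
        have hy : ⁅⁅A, zpowers g⁆, zpowers g⁆ ≤ ⁅A₁, A₁⁆ := commutator_mono hx hgA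
        refine le_inf ?_ ?_
        · exact (commutator_mono (commutator_le_left A _) le_rfl).trans (commutator_le_left A _)
        · rw [commutator_comm, commutator_eq_bot_iff_le_centralizer] at h1
          exact hy.trans h1
      · rw [eq_bot_iff, ← h2]
        exact commutator_mono (commutator_mono le_rfl hgA) hgA
    refine (commutator_mono le_rfl hA₁T).trans ?_
    rw [commutator_comm]
    exact hTA

theorem mem_upper_of_crit {A T Q : Subgroup P} (hA2 : A ∈ classTwoSubgroups P)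
    (hTA : ⁅T, A⁆ ≤ zc A) (hQT : Q ≤ T) : A ∈ kUpperStarFamily Q := by
  refine ⟨hA2, (commutator_mono le_rfl hQT).trans ?_⟩
  rw [commutator_comm]
  exact hTA

/-- source 2: members of a lower-star family relative to `Q ≥ A` act "cubically" on `A` and
quadratically on `Z(A)`. -/
theorem cubic_of_mem_lower {A Q B : Subgroup P} [hAn : A.Normal] (hAQ : A ≤ Q)
    (hB : B ∈ kLowerStarFamily Q) :
    ⁅⁅⁅A, B⁆, B⁆, B⁆ = ⊥ ∧ ⁅⁅zc A, B⁆, B⁆ = ⊥ ∧ ⁅A, B⁆ ≤ B ∧ ⁅B, zc A⁆ ≤ zc B := by
  obtain ⟨hB2, hQB, hcond⟩ := hB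
  have hAB : ⁅A, B⁆ ≤ B := le_normalizer_iff_commutator_le_right.mp (hAQ.trans hQB)
  have h3 : ⁅⁅⁅A, B⁆, B⁆, B⁆ = ⊥ := by
    rw [eq_bot_iff, ← commutator_commutator_self_eq_bot hB2]
    exact commutator_mono (commutator_mono hAB le_rfl) le_rfl
  have hZn : (zc A).Normal := zc_normal A
  have hBZ : ⁅B, zc A⁆ ≤ zc B := by
    apply hcond (zc A) (zc_mem_classTwo A) (inf_le_left.trans hAQ)
    · rw [normalizer_eq_top]; exact le_top
    · rw [commutator_zc_self, commutator_bot_right]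
    · rw [eq_bot_iff, ← commutator_zc_self A]
      exact commutator_mono (commutator_le_right _ _) le_rfl
  refine ⟨h3, ?_, hAB, hBZ⟩
  rw [commutator_eq_bot_iff_le_centralizer, commutator_comm]
  exact hBZ.trans inf_le_right

theorem le_of_mem_lower {A T Q B : Subgroup P} [hAn : A.Normal]
    (hcu : ∀ g : P, ⁅⁅⁅A, zpowers g⁆, zpowers g⁆, zpowers g⁆ ≤ zc A →
      ⁅⁅zc A, zpowers g⁆, zpowers g⁆ = ⊥ → g ∈ T)
    (hAQ : A ≤ Q) (hB : B ∈ kLowerStarFamily Q) : B ≤ T := by
  obtain ⟨h3, h2, _, _⟩ := cubic_of_mem_lower hAQ hB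
  intro g hg
  have hgB : zpowers g ≤ B := zpowers_le.mpr hg
  apply hcu g
  · refine le_trans ?_ (bot_le : (⊥ : Subgroup P) ≤ _)
    rw [← h3]
    exact commutator_mono (commutator_mono (commutator_mono le_rfl hgB) hgB) hgB
  · rw [eq_bot_iff, ← h2]
    exact commutator_mono (commutator_mono le_rfl hgB) hgB

/-- the induction along the K-sequence -/
theorem kSeq_between {A T : Subgroup P}
    (hU : ∀ Q B : Subgroup P, A ≤ Q → B ∈ kUpperStarFamily Q → B ≤ T)
    (hL : ∀ Q B : Subgroup P, A ≤ Q → B ∈ kLowerStarFamily Q → B ≤ T)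
    (hA1 : ∀ Q : Subgroup P, A ∈ kLowerStarFamily Q)
    (hA2 : ∀ Q : Subgroup P, Q ≤ T → A ∈ kUpperStarFamily Q) (n : ℕ) :
    A ≤ kSeqOdd P n ∧ A ≤ kSeqEven P n ∧ kSeqEven P n ≤ T ∧ A ≤ kSeqOdd P (n + 1) ∧
      kSeqOdd P (n + 1) ≤ T := by
  induction n with
  | zero =>
    have h0 : A ≤ kSeqOdd P 0 := le_top
    have h1 : A ≤ kSeqEven P 0 := le_sSup (hA1 _)
    have h2 : kSeqEven P 0 ≤ T := sSup_le fun B hB => hL _ B h0 hB
    refine ⟨h0, h1, h2, ?_, ?_⟩
    · rw [Cfsg.Agent.Helper33.kSeqOdd_succ']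
      exact le_sSup (hA2 _ h2)
    · rw [Cfsg.Agent.Helper33.kSeqOdd_succ']
      exact sSup_le fun B hB => hU _ B h1 hB
  | succ n ih =>
    obtain ⟨_, _, _, h0, _⟩ := ih
    have h1 : A ≤ kSeqEven P (n + 1) := le_sSup (hA1 _)
    have h2 : kSeqEven P (n + 1) ≤ T := sSup_le fun B hB => hL _ B h0 hB
    refine ⟨h0, h1, h2, ?_, ?_⟩
    · rw [Cfsg.Agent.Helper33.kSeqOdd_succ']
      exact le_sSup (hA2 _ h2)
    · rw [Cfsg.Agent.Helper33.kSeqOdd_succ']
      exact sSup_le fun B hB => hU _ B h1 hB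

end abstract


/-! ### Inside a group `G`, for a subgroup `S` (in use a Sylow `p`-subgroup) -/

section group

variable {G : Type*} [Group G]

theorem map_zc {S : Subgroup G} (B : Subgroup S) :
    (zc B).map S.subtype = zc (B.map S.subtype) :=
  Cfsg.Agent.Helper33.map_inf_centralizer S.subtype S.subtype_injective B

theorem map_subgroupOf_eq {S A : Subgroup G} (h : A ≤ S) :
    (A.subgroupOf S).map S.subtype = A := by
  rw [subgroupOf_map_subtype, inf_eq_left.mpr h]

theorem map_zpowers_subtype {S : Subgroup G} (g : S) :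
    (zpowers g).map S.subtype = zpowers (g : G) := by
  rw [MonoidHom.map_zpowers]; rfl

/-- transport of the three hypotheses to the group `↥S` -/
theorem crit_data_subgroupOf {S T A : Subgroup G} [A.Normal] (hTS : T ≤ S) (hAT : A ≤ T)
    (hA2 : ⁅A, A⁆ ≤ centralizer (A : Set G)) (hTA : ⁅T, A⁆ ≤ zc A) :
    (A.subgroupOf S) ∈ classTwoSubgroups S ∧
      ⁅T.subgroupOf S, A.subgroupOf S⁆ ≤ zc (A.subgroupOf S) := by
  have hAS : A ≤ S := hAT.trans hTS
  constructor
  · rw [← Cfsg.Agent.Helper33.map_mem_classTwo_iff S.subtype S.subtype_injective,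
      map_subgroupOf_eq hAS]
    exact hA2
  · rw [← map_le_map_iff_of_injective S.subtype_injective, map_commutator, map_zc,
      map_subgroupOf_eq hAS, map_subgroupOf_eq hTS]
    exact hTA

/-- transport of a "bad element" hypothesis: biquadratic form -/
theorem hbq_subgroupOf {S T A : Subgroup G} (hAS : A ≤ S)
    (hbq : ∀ g ∈ S, ⁅⁅A, zpowers g⁆, zpowers g⁆ ≤ zc A → ⁅⁅zc A, zpowers g⁆, zpowers g⁆ = ⊥ →
      g ∈ T) :
    ∀ g : S, ⁅⁅A.subgroupOf S, zpowers g⁆, zpowers g⁆ ≤ zc (A.subgroupOf S) →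
      ⁅⁅zc (A.subgroupOf S), zpowers g⁆, zpowers g⁆ = ⊥ → g ∈ T.subgroupOf S := by
  intro g h1 h2
  rw [mem_subgroupOf]
  apply hbq g g.2
  · have := map_mono (f := S.subtype) h1
    rwa [map_commutator, map_commutator, map_zc, map_subgroupOf_eq hAS,
      map_zpowers_subtype] at this
  · have := congrArg (map S.subtype) h2
    rwa [map_commutator, map_commutator, map_zc, map_subgroupOf_eq hAS,
      map_zpowers_subtype, Subgroup.map_bot] at this

/-- transport of a "bad element" hypothesis: cubic form -/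
theorem hcu_subgroupOf {S T A : Subgroup G} (hAS : A ≤ S)
    (hcu : ∀ g ∈ S, ⁅⁅⁅A, zpowers g⁆, zpowers g⁆, zpowers g⁆ ≤ zc A →
      ⁅⁅zc A, zpowers g⁆, zpowers g⁆ = ⊥ → g ∈ T) :
    ∀ g : S, ⁅⁅⁅A.subgroupOf S, zpowers g⁆, zpowers g⁆, zpowers g⁆ ≤ zc (A.subgroupOf S) →
      ⁅⁅zc (A.subgroupOf S), zpowers g⁆, zpowers g⁆ = ⊥ → g ∈ T.subgroupOf S := by
  intro g h1 h2
  rw [mem_subgroupOf]
  apply hcu g g.2
  · have := map_mono (f := S.subtype) h1
    rwa [map_commutator, map_commutator, map_commutator, map_zc, map_subgroupOf_eq hAS,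
      map_zpowers_subtype] at this
  · have := congrArg (map S.subtype) h2
    rwa [map_commutator, map_commutator, map_zc, map_subgroupOf_eq hAS,
      map_zpowers_subtype, Subgroup.map_bot] at this

/-- **K-sequence of `S` inside `T`**: modular form (the members of lower-star families are
handled by the hypothesis `hL`). -/
theorem kSeq_le_of {S T A : Subgroup G} [A.Normal] (hTS : T ≤ S) (hAT : A ≤ T)
    (hA2 : ⁅A, A⁆ ≤ centralizer (A : Set G)) (hTA : ⁅T, A⁆ ≤ zc A)
    (hbq : ∀ g ∈ S, ⁅⁅A, zpowers g⁆, zpowers g⁆ ≤ zc A → ⁅⁅zc A, zpowers g⁆, zpowers g⁆ = ⊥ →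
      g ∈ T)
    (hL : ∀ Q B : Subgroup S, A.subgroupOf S ≤ Q → B ∈ kLowerStarFamily Q → B ≤ T.subgroupOf S)
    (n : ℕ) : kSeqEven S n ≤ T.subgroupOf S ∧ kSeqOdd S (n + 1) ≤ T.subgroupOf S := by
  have hAS : A ≤ S := hAT.trans hTS
  obtain ⟨h2, h3⟩ := crit_data_subgroupOf hTS hAT hA2 hTA
  have hbq' := hbq_subgroupOf (T := T) hAS hbq
  have := kSeq_between (A := A.subgroupOf S) (T := T.subgroupOf S)
    (fun Q B hAQ hB => le_of_mem_upper hbq' hAQ hB) hL
    (fun Q => mem_lower_of_crit h2 h3 hbq' Q)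
    (fun Q hQT => mem_upper_of_crit h2 h3 hQT) n
  exact ⟨this.2.2.1, this.2.2.2.2⟩

/-- **K-sequence of `S` inside `T`** when no element of `S` outside `T` acts cubically on `A`
(mod `Z(A)`) and quadratically on `Z(A)`. -/
theorem kSeq_le_of_cubic {S T A : Subgroup G} [hAn : A.Normal] (hTS : T ≤ S) (hAT : A ≤ T)
    (hA2 : ⁅A, A⁆ ≤ centralizer (A : Set G)) (hTA : ⁅T, A⁆ ≤ zc A)
    (hcu : ∀ g ∈ S, ⁅⁅⁅A, zpowers g⁆, zpowers g⁆, zpowers g⁆ ≤ zc A →
      ⁅⁅zc A, zpowers g⁆, zpowers g⁆ = ⊥ → g ∈ T)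
    (n : ℕ) : kSeqEven S n ≤ T.subgroupOf S ∧ kSeqOdd S (n + 1) ≤ T.subgroupOf S := by
  have hAS : A ≤ S := hAT.trans hTS
  have hZn : (zc A).Normal := zc_normal A
  apply kSeq_le_of hTS hAT hA2 hTA
  · intro g hg h1 h2
    apply hcu g hg _ h2
    exact (commutator_mono h1 le_rfl).trans (commutator_le_left _ _)
  · intro Q B hAQ hB
    exact le_of_mem_lower (hcu_subgroupOf (T := T) hAS hcu) hAQ hB

end group


/-! ### Normality of the K-infinity subgroups -/

section normal

universe u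

theorem kInf_characteristic (Q : Type u) [Group Q] :
    (kInfLower Q).Characteristic ∧ (kInfUpper Q).Characteristic := by
  have hr : ∀ φ : Q ≃* Q, ∀ n : ℕ, kSeqEven Q n ≤ φ.toMonoidHom.range ∧
      kSeqOdd Q (n + 1) ≤ φ.toMonoidHom.range := by
    intro φ n
    rw [MonoidHom.range_eq_top.mpr φ.surjective]
    exact ⟨le_top, le_top⟩
  constructor
  · rw [characteristic_iff_map_eq]
    intro φ
    exact (Cfsg.Agent.Helper33.kInf_map_eq φ.toMonoidHom φ.injective (hr φ)).1
  · rw [characteristic_iff_map_eq]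
    intro φ
    exact (Cfsg.Agent.Helper33.kInf_map_eq φ.toMonoidHom φ.injective (hr φ)).2

variable {G : Type u} [Group G]

theorem inducedFunctor_kInf_eq_of {S T : Subgroup G} (hTS : T ≤ S)
    (h : ∀ n : ℕ, kSeqEven S n ≤ T.subgroupOf S ∧ kSeqOdd S (n + 1) ≤ T.subgroupOf S) :
    inducedFunctor kInfLower S = inducedFunctor kInfLower T ∧
      inducedFunctor kInfUpper S = inducedFunctor kInfUpper T := by
  have hr : (inclusion hTS).range = T.subgroupOf S := inclusion_range hTS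
  have key := Cfsg.Agent.Helper33.kInf_map_eq (inclusion hTS) (inclusion_injective hTS)
    (by rwa [hr])
  have hc : S.subtype.comp (inclusion hTS) = T.subtype := rfl
  constructor
  · unfold inducedFunctor
    rw [← key.1, map_map, hc]
  · unfold inducedFunctor
    rw [← key.2, map_map, hc]

theorem inducedFunctor_kInf_normal (T : Subgroup G) [T.Normal] :
    (inducedFunctor kInfLower T).Normal ∧ (inducedFunctor kInfUpper T).Normal := by
  have h1 := (kInf_characteristic T).1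
  have h2 := (kInf_characteristic T).2
  exact ⟨ConjAct.normal_of_characteristic_of_normal, ConjAct.normal_of_characteristic_of_normal⟩

end normal

end Cfsg.Agent.Helper54.KInf
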