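import Mathlib
import Cfsg.Agent.Lib.Helper54.KInfCrit
import Cfsg.Agent.Lib.Helper54.CritSub
import Cfsg.Agent.Lib.Helper54.CritChief
import Cfsg.Agent.Lib.Helper54.Solv

/-!
# Glauberman's theorem on the K-infinity subgroups (parts (a), (b))

If `K_∞(S)` or `K^∞(S)` is not normal in `G` then some `g ∈ S ∖ O_p(G)` satisfies
`[X, g; 4] ≤ Y` for all chief factors `X / Y` of `G` below `O_p(G)` and `[Z(O_p(G)), g, g] = 1`.
-/

set_option autoImplicit false

namespace Cfsg.Agent.Helper54.KInf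

open Subgroup Cfsg
open scoped commutatorElement

universe u

section

variable {G : Type u} [Group G] [Finite G] {p : ℕ} [Fact p.Prime]

theorem pCore_normal_inst : (pCore p G).Normal := Subgroup.sSup_normal _ (fun _ h => h.1)

/-- parts (a), (b) for a given "critical" subgroup `A` -/
theorem exists_cubic (S : Sylow p G) (A : Subgroup G) [A.Normal] (hAT : A ≤ pCore p G)
    (hA2 : ⁅A, A⁆ ≤ centralizer (A : Set G)) (hTA : ⁅pCore p G, A⁆ ≤ zc A)
    (hK : ¬ (inducedFunctor kInfLower (S : Subgroup G)).Normal ∨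
      ¬ (inducedFunctor kInfUpper (S : Subgroup G)).Normal) :
    ∃ g : G, g ∈ (S : Subgroup G) ∧ g ∉ pCore p G ∧
      ⁅⁅⁅A, zpowers g⁆, zpowers g⁆, zpowers g⁆ ≤ zc A ∧
      ⁅⁅zc A, zpowers g⁆, zpowers g⁆ = ⊥ := by
  by_contra hno
  have hcu : ∀ g ∈ (S : Subgroup G), ⁅⁅⁅A, zpowers g⁆, zpowers g⁆, zpowers g⁆ ≤ zc A →
      ⁅⁅zc A, zpowers g⁆, zpowers g⁆ = ⊥ → g ∈ pCore p G := by
    intro g hg h1 h2
    by_contra hgT
    exact hno ⟨g, hg, hgT, h1, h2⟩
  have hTS : pCore p G ≤ (S : Subgroup G) := Cfsg.Agent.Helper54.pCore_le_sylow S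
  have hTn : (pCore p G).Normal := pCore_normal_inst
  have h1 := inducedFunctor_kInf_eq_of hTS (kSeq_le_of_cubic hTS hAT hA2 hTA hcu)
  have h2 := inducedFunctor_kInf_normal (pCore p G)
  rw [h1.1, h1.2] at hK
  rcases hK with h | h
  · exact h h2.1
  · exact h h2.2

/-- a critical subgroup of `O_p(G)`, as a subgroup of `G` -/
theorem exists_critical_in_pCore (G : Type u) [Group G] [Finite G] (p : ℕ) [Fact p.Prime] :
    ∃ A : Subgroup G, A.Normal ∧ A ≤ pCore p G ∧ ⁅A, A⁆ ≤ centralizer (A : Set G) ∧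
      ⁅pCore p G, A⁆ ≤ zc A ∧ pCore p G ⊓ centralizer (A : Set G) ≤ zc A := by
  have hTn : (pCore p G).Normal := pCore_normal_inst
  have hTp : IsPGroup p (pCore p G) := Cfsg.Agent.Helper54.isPGroup_pCore
  obtain ⟨C, hCchar, hCC, hcomm, _, hGC⟩ := exists_critical_full hTp
  refine ⟨C.map (pCore p G).subtype, ConjAct.normal_of_characteristic_of_normal,
    map_subtype_le C, ?_, ?_, ?_⟩
  · rw [Subgroup.commutator_le]
    rintro _ ⟨x, hx, rfl⟩ _ ⟨y, hy, rfl⟩
    rw [mem_centralizer_iff]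
    rintro _ ⟨z, hz, rfl⟩
    have := hcomm x hx y hy z hz
    have h2 := congrArg (pCore p G).subtype this
    simp only [map_mul, map_commutatorElement] at h2
    exact h2.symm
  · rw [commutator_comm, ← map_zc, Subgroup.commutator_le]
    rintro _ ⟨x, hx, rfl⟩ t ht
    refine ⟨⁅x, ⟨t, ht⟩⁆, hGC x hx ⟨t, ht⟩, ?_⟩
    simp only [map_commutatorElement]
    rfl
  · intro x hx
    obtain ⟨hxT, hxC⟩ := mem_inf.mp hx
    have h1 : (⟨x, hxT⟩ : pCore p G) ∈ centralizer (C : Set (pCore p G)) := by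
      rw [mem_centralizer_iff]
      intro c hc
      apply Subtype.ext
      rw [mem_centralizer_iff] at hxC
      exact hxC c ⟨c, hc, rfl⟩
    exact mem_inf.mpr ⟨⟨⟨x, hxT⟩, hCC h1, rfl⟩, hxC⟩

/-- from cubic on `A` (mod `Z(A)`) and quadratic on `Z(A)` to quartic on chief factors of `T` -/
theorem quartic_of_cubic {T A : Subgroup G} [T.Normal] [A.Normal] (hT : Group.IsNilpotent T)
    (hAT : A ≤ T) (hTA : ⁅T, A⁆ ≤ zc A) (hTC : T ⊓ centralizer (A : Set G) ≤ zc A) {g : G}
    (h3 : ⁅⁅⁅A, zpowers g⁆, zpowers g⁆, zpowers g⁆ ≤ zc A)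
    (h2 : ⁅⁅zc A, zpowers g⁆, zpowers g⁆ = ⊥) :
    (∀ U V : Subgroup G, IsChiefFactor U V → U ≤ T →
      iterCommutator U (zpowers g) 4 ≤ V) ∧
    ⁅⁅zc T, zpowers g⁆, zpowers g⁆ = ⊥ := by
  have hZn : (zc A).Normal := zc_normal A
  constructor
  · have hZj : ∀ U V : Subgroup G, IsChiefFactor U V → U ≤ zc A →
        iterCommutator U (zpowers g) 2 ≤ V := by
      intro U V _ hUZ
      have : iterCommutator U (zpowers g) 2 ≤ iterCommutator (zc A) (zpowers g) 2 :=
        Crit.iterC_mono hUZ _ 2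
      refine this.trans ?_
      show ⁅⁅zc A, zpowers g⁆, zpowers g⁆ ≤ V
      rw [h2]; exact bot_le
    have hQi : ∀ U V : Subgroup G, IsChiefFactor U V → U ≤ A →
        iterCommutator U (zpowers g) 3 ≤ V := by
      intro U V hUV hUA
      have hUn : U.Normal := hUV.2.1
      have hVn : V.Normal := hUV.2.2.1
      rcases Crit.chief_dichotomy hUV (zc A) with h | h
      · have h4 : iterCommutator (U ⊓ zc A) (zpowers g) 2 ≤ V := by
          refine (Crit.iterC_mono inf_le_right (zpowers g) 2).trans ?_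
          show ⁅⁅zc A, zpowers g⁆, zpowers g⁆ ≤ V
          rw [h2]; exact bot_le
        have h5 : iterCommutator U (zpowers g) 2 ≤ V := Crit.iterC_le_of_le_sup h 2 h4
        exact (Crit.iterC_antitone U (zpowers g) (by norm_num : 2 ≤ 3)).trans h5
      · refine le_trans (le_inf (Crit.iterC_le U (zpowers g) 3) ?_) h
        exact (Crit.iterC_mono hUA (zpowers g) 3).trans h3
    have := Crit.chief_below T hT A (zc A) hAT hTA hTC (zpowers g) 3 2 (by norm_num) hQi hZj
    exact this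
  · rw [eq_bot_iff, ← h2]
    have : zc T ≤ zc A := (inf_le_inf_left T (centralizer_le hAT)).trans hTC
    exact commutator_mono (commutator_mono this le_rfl) le_rfl

/-- **Glauberman**: parts (a) and (b) of the theorem on `K_∞`, `K^∞`. -/
theorem exists_quartic (S : Sylow p G)
    (hK : ¬ (inducedFunctor kInfLower (S : Subgroup G)).Normal ∨
      ¬ (inducedFunctor kInfUpper (S : Subgroup G)).Normal) :
    ∃ g : G, g ∈ (S : Subgroup G) ∧ g ∉ pCore p G ∧
      (∀ U V : Subgroup G, IsChiefFactor U V → U ≤ pCore p G →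
        iterCommutator U (zpowers g) 4 ≤ V) ∧
      ⁅⁅zc (pCore p G), zpowers g⁆, zpowers g⁆ = ⊥ := by
  obtain ⟨A, hAn, hAT, hA2, hTA, hTC⟩ := exists_critical_in_pCore G p
  obtain ⟨g, hgS, hgT, h3, h2⟩ := exists_cubic S A hAT hA2 hTA hK
  have hTn : (pCore p G).Normal := pCore_normal_inst
  have hTp : IsPGroup p (pCore p G) := Cfsg.Agent.Helper54.isPGroup_pCore
  have hnil : Group.IsNilpotent (pCore p G) := hTp.isNilpotent
  obtain ⟨h4, h5⟩ := quartic_of_cubic hnil hAT hTA hTC h3 h2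
  exact ⟨g, hgS, hgT, h4, h5⟩

end

end Cfsg.Agent.Helper54.KInf
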