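import Mathlib
import Cfsg.Prelude.Def_Local
import Cfsg.Agent.Lib.Helper54.PConstrained
import Cfsg.Agent.Lib.Helper54.PSolv
import Cfsg.Agent.Lib.Helper54.PConstrainedLocal

/-!
# Groups of characteristic `p` : normal subgroups and `p`-locals

* `IsCharP.of_normal` (copy of helper48's `CharPGroup.of_normal`);
* `isCharP_of_le` : if `Y ≤ N` contains `C_N(O_p(N))` and `Y` has characteristic `p`, so does `N`;
* `isCharP_normalizer_of_le` : `N_G(T)` has characteristic `p` as soon as `C_N(O_p(N))` lies in a subgroup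
  `Γ ≥ T` of characteristic `p`.
-/

set_option autoImplicit false

namespace Cfsg.Agent.Helper54

open Cfsg

section
open Subgroup

/-- A normal subgroup of a finite group of characteristic `p` has characteristic `p`. -/
theorem IsCharP.of_normal {p : ℕ} [Fact p.Prime] {K : Type*} [Group K] [Finite K]
    (h : IsCharP p K) (N : Subgroup K) [hN : N.Normal] : IsCharP p N := by
  set Q := Cfsg.pCore p K with hQ
  set R := Cfsg.pCore p N with hR
  have hQn : Q.Normal := pCore_normal' p
  have hRp : IsPGroup p R := isPGroup_pCore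
  have hRc : R.Characteristic := by rw [hR]; infer_instance
  have hR'n : (R.map N.subtype).Normal := inferInstance
  have hR'Q : R.map N.subtype ≤ Q := le_pCore hR'n (hRp.map _)
  have hQNR : (Q ⊓ N).subgroupOf N ≤ R := by
    apply le_pCore
    · infer_instance
    · exact ((isPGroup_pCore).to_inf_left).comap_subtype
  -- the centralizer is a p-group
  have hCp : IsPGroup p (centralizer (R : Set N)) := by
    rintro ⟨c, hc⟩
    -- key: for u ∈ Q, c u c⁻¹ = r u with r ∈ R' commuting with c
    have key : ∀ u ∈ Q, ∀ k : ℕ, (c : K) ^ k * u * ((c : K) ^ k)⁻¹ =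
        ((c : K) * u * (c : K)⁻¹ * u⁻¹) ^ k * u := by
      intro u hu
      have hr : (c : K) * u * (c : K)⁻¹ * u⁻¹ ∈ Q ⊓ N := by
        refine ⟨Q.mul_mem (hQn.conj_mem u hu c) (Q.inv_mem hu), ?_⟩
        have : (c : K) * u * (c : K)⁻¹ * u⁻¹ = (c : K) * (u * (c : K)⁻¹ * u⁻¹) := by group
        rw [this]
        exact N.mul_mem c.2 (hN.conj_mem _ (N.inv_mem c.2) u)
      have hrR : (⟨_, hr.2⟩ : N) ∈ R := hQNR (mem_subgroupOf.mpr hr)
      have hcomm : (c : K) * ((c : K) * u * (c : K)⁻¹ * u⁻¹) =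
          ((c : K) * u * (c : K)⁻¹ * u⁻¹) * (c : K) := by
        have := (mem_centralizer_iff.mp hc) _ hrR
        have := congrArg Subtype.val this
        simpa using this.symm
      intro k
      induction k with
      | zero => simp
      | succ k ih =>
        set r := (c : K) * u * (c : K)⁻¹ * u⁻¹ with hrdef
        have hcr : Commute (c : K) r := hcomm
        calc (c : K) ^ (k + 1) * u * ((c : K) ^ (k + 1))⁻¹
            = (c : K) * ((c : K) ^ k * u * ((c : K) ^ k)⁻¹) * (c : K)⁻¹ := by
              rw [pow_succ']; group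
          _ = (c : K) * (r ^ k * u) * (c : K)⁻¹ := by rw [ih]
          _ = ((c : K) * r ^ k * (c : K)⁻¹) * ((c : K) * u * (c : K)⁻¹) := by group
          _ = r ^ k * ((c : K) * u * (c : K)⁻¹) := by
              rw [(hcr.pow_right k).eq, mul_inv_cancel_right]
          _ = r ^ k * (r * u) := by rw [hrdef]; group
          _ = r ^ (k + 1) * u := by rw [pow_succ]; group
    -- c ^ card R' centralizes Q
    obtain ⟨a, ha⟩ := (IsPGroup.iff_card).mp hRp
    have hcent : (c : K) ^ (p ^ a) ∈ centralizer (Q : Set K) := by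
      rw [mem_centralizer_iff]
      intro u hu
      have hk := key u hu (p ^ a)
      have hr : (c : K) * u * (c : K)⁻¹ * u⁻¹ ∈ Q ⊓ N := by
        refine ⟨Q.mul_mem (hQn.conj_mem u hu c) (Q.inv_mem hu), ?_⟩
        have : (c : K) * u * (c : K)⁻¹ * u⁻¹ = (c : K) * (u * (c : K)⁻¹ * u⁻¹) := by group
        rw [this]
        exact N.mul_mem c.2 (hN.conj_mem _ (N.inv_mem c.2) u)
      have hrR : (⟨_, hr.2⟩ : N) ∈ R := hQNR (mem_subgroupOf.mpr hr)
      have h1 : (⟨_, hrR⟩ : R) ^ (p ^ a) = 1 := by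
        rw [← ha]; exact pow_card_eq_one'
      have h2 : ((c : K) * u * (c : K)⁻¹ * u⁻¹) ^ (p ^ a) = 1 := by
        have := congrArg (fun z : R => ((z : N) : K)) h1
        simpa using this
      rw [h2, one_mul] at hk
      calc u * (c : K) ^ (p ^ a) = ((c : K) ^ (p ^ a) * u * ((c : K) ^ (p ^ a))⁻¹) * (c : K) ^ (p ^ a) := by
            rw [hk]
        _ = (c : K) ^ (p ^ a) * u := by group
    have hQmem := h hcent
    obtain ⟨b, hb⟩ := (isPGroup_pCore) ⟨_, hQmem⟩
    refine ⟨a + b, ?_⟩
    apply Subtype.ext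
    apply Subtype.ext
    have := congrArg Subtype.val hb
    simp only [SubmonoidClass.coe_pow, OneMemClass.coe_one] at this ⊢
    rw [pow_add, pow_mul]
    exact this
  have hRn : R.Normal := pCore_normal' p
  have hCn : (centralizer (R : Set N)).Normal := inferInstance
  exact le_pCore hCn hCp

end

variable {G : Type*} [Group G]

/-- If `Y ≤ N` contains `C_N(O_p(N))` and `Y` has characteristic `p`, then `N` has characteristic `p`. -/
theorem isCharP_of_le {N : Type*} [Group N] [Finite N] {p : ℕ} [hp : Fact p.Prime] (Y : Subgroup N)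
    (hDY : Subgroup.centralizer (pCore p N : Set N) ≤ Y) (hY : IsCharP p Y) : IsCharP p N := by
  set R := pCore p N with hR
  have hRn : R.Normal := pCore_normal' p
  set D := Subgroup.centralizer (R : Set N) with hD
  have hDn : D.Normal := inferInstance
  have hDYn : (D.subgroupOf Y).Normal := inferInstance
  have h1 : IsCharP p ↥(D.subgroupOf Y) := hY.of_normal (D.subgroupOf Y)
  have h2 : IsCharP p ↥D := h1.of_mulEquiv (Subgroup.subgroupOfEquivOfLe hDY)
  have hle : (pCore p D).map D.subtype ≤ R := pCore_map_le p D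
  intro d hd
  have h3 : (⟨d, hd⟩ : D) ∈ Subgroup.centralizer (pCore p D : Set D) := by
    rw [Subgroup.mem_centralizer_iff]
    intro q hq
    have hq' : (q : N) ∈ R := hle (Subgroup.mem_map_of_mem D.subtype hq)
    have h4 := (Subgroup.mem_centralizer_iff.mp hd) _ hq'
    exact Subtype.ext h4
  exact hle (Subgroup.mem_map_of_mem D.subtype (h2 h3))

/-- `N_G(T)` has characteristic `p` as soon as `C_N(O_p(N))` lies in a subgroup `Γ ≥ T` of characteristic `p`. -/
theorem isCharP_normalizer_of_le [Finite G] {p : ℕ} [hp : Fact p.Prime] (T : Subgroup G) (hT : IsPGroup p T)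
    (Γ : Subgroup G) (hΓ : IsCharP p Γ) (hTΓ : T ≤ Γ)
    (h2 : ∀ n : ↥(Subgroup.normalizer (T : Set G)),
      n ∈ Subgroup.centralizer (pCore p ↥(Subgroup.normalizer (T : Set G)) :
        Set ↥(Subgroup.normalizer (T : Set G))) → (n : G) ∈ Γ) :
    IsCharP p ↥(Subgroup.normalizer (T : Set G)) := by
  set N := Subgroup.normalizer (T : Set G) with hN
  have h1 : IsCharP p ↥(Subgroup.normalizer ((T.subgroupOf Γ : Subgroup ↥Γ) : Set ↥Γ)) :=
    isCharP_normalizer hΓ (T.subgroupOf Γ) hT.comap_subtype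
  have e1 : ↥(Subgroup.normalizer ((T.subgroupOf Γ : Subgroup ↥Γ) : Set ↥Γ)) ≃* ↥(N.subgroupOf Γ) :=
    MulEquiv.subgroupCongr (Subgroup.subgroupOf_normalizer_eq hTΓ).symm
  have e2 : ↥(N.subgroupOf Γ) ≃* ↥(Γ.subgroupOf N) := subgroupOfSwap N Γ
  have h3 : IsCharP p ↥(Γ.subgroupOf N) := (h1.of_mulEquiv e1).of_mulEquiv e2
  apply isCharP_of_le (Γ.subgroupOf N) _ h3
  intro n hn
  exact Subgroup.mem_subgroupOf.mpr (h2 n hn)

end Cfsg.Agent.Helper54
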