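import Mathlib
import Cfsg.Prelude.Def_OddOrder
import Cfsg.Prelude.Def_OddOrderLocal
import Cfsg.Agent.S1350
import Cfsg.Agent.S1405
import Cfsg.Agent.Lib.Helper55.BGHall
import Cfsg.Agent.Lib.Helper55.BGFit
import Cfsg.Agent.Lib.Helper45.BG143
import Cfsg.Agent.Lib.Helper23.FittingHall
import Cfsg.Agent.Lib.Helper54.BG142Tools

/-!
# Assembly of B-G Theorem 14.2, first half (S1430), from the pieces Q1-Q18 (helper54)

The pieces (see `tools/bg142_sigs_helper54.lean.txt` and `BG142_PROOF.md`) enter as the fields of the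
structure `Inputs30`; the statement file `S1430.lean` fills them with the real lemmas.
-/

set_option autoImplicit false
set_option linter.unusedSectionVars false
set_option linter.unusedVariables false

namespace Cfsg.Agent.Helper54.BG142

open Cfsg Subgroup

variable {G : Type*} [Group G] [Finite G]

/-- the inputs of the assembly of S1430 -/
structure Inputs30 (G : Type*) [Group G] [Finite G] : Prop where
  q1 : ∀ (M : Subgroup G), IsCoatom M → ∀ K : Subgroup G, IsPiHallOf (kappa M) K M →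
    ∃ E : Subgroup G, IsComplIn E (sigmaCore M) M ∧ K ≤ E
  q2 : ∀ (M K : Subgroup G), IsPiHallOf (kappa M) K M → ∀ X : Subgroup G, X ≤ K →
    (Nat.card X).Prime → sigmaCore M ⊓ centralizer (X : Set G) ≠ ⊥
  q3 : ∀ (M : Subgroup G) (p : ℕ), p.Prime → p ∉ sigma M → PRankLE p 1 M → ∀ X : Subgroup G,
    X ≤ M → Nat.card X = p → sigmaCore M ⊓ centralizer (X : Set G) ≠ ⊥ → p ∈ kappa M
  q4 : ∀ (M K F : Subgroup G), IsPiHallOf (kappa M) K M → K ≤ F → F ≤ M →
    (∀ p : ℕ, p.Prime → p ∣ Nat.card F → p ∈ kappa M) → K = F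
  q5 : ∀ (M : Subgroup G), IsCoatom M → ∀ E : Subgroup G, IsComplIn E (sigmaCore M) M →
    ∀ s : ℕ, s ∈ tau3 M → ∀ Y : Subgroup G, Y ≤ E → Nat.card Y = s →
    sigmaCore M ⊓ centralizer (Y : Set G) ≠ ⊥ → tau2 M = ∅
  q6 : ∀ (M : Subgroup G), IsCoatom M → ∀ E : Subgroup G, IsComplIn E (sigmaCore M) M →
    ∀ p : ℕ, p ∈ tau1 M → ∀ X : Subgroup G, X ≤ E → Nat.card X = p →
    sigmaCore M ⊓ centralizer (X : Set G) ≠ ⊥ → ∀ r : ℕ, r ∈ tau2 M → ∀ R : Subgroup G,
    R ≤ E ⊓ centralizer (X : Set G) → Nat.card R = r → False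
  q7 : ∀ (M : Subgroup G), IsCoatom M → ∀ p : ℕ, p.Prime → p ∉ sigma M → PRankLE p 1 M →
    ∀ X : Subgroup G, X ≤ M → Nat.card X = p → sigmaCore M ⊓ centralizer (X : Set G) ≠ ⊥ →
    ∀ H : Subgroup G, IsCoatom H → normalizer (X : Set G) ≤ H → X ≤ sigmaCore H
  q8 : ∀ (M E N X : Subgroup G), IsComplIn E N M → M ≤ normalizer (N : Set G) → X ≤ E →
    M ⊓ normalizer (X : Set G) = (E ⊓ normalizer (X : Set G)) ⊔ (N ⊓ centralizer (X : Set G))
  q9 : ∀ (M : Subgroup G), IsCoatom M → ∀ E : Subgroup G, IsComplIn E (sigmaCore M) M →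
    tau2 M = ∅ → ∀ s : ℕ, s ∈ tau3 M → ∀ Y : Subgroup G, Y ≤ E → Nat.card Y = s →
    sigmaCore M ⊓ centralizer (Y : Set G) ≠ ⊥ →
    ∀ e ∈ E, e ≠ 1 → sigmaCore M ⊓ centralizer ({e} : Set G) =
      sigmaCore M ⊓ centralizer (E : Set G)
  q11 : ∀ (M : Subgroup G), IsCoatom M → ∀ E : Subgroup G, IsComplIn E (sigmaCore M) M →
    tau2 M = ∅ →
    (∀ e ∈ E, e ≠ 1 → sigmaCore M ⊓ centralizer ({e} : Set G) =
      sigmaCore M ⊓ centralizer (E : Set G)) →
    sigmaCore M ⊓ centralizer (E : Set G) ≠ ⊥ → ∀ X : Subgroup G, X ≤ E → (Nat.card X).Prime →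
    E ≤ normalizer (X : Set G)
  q12 : ∀ (M : Subgroup G), IsCoatom M → ∀ E : Subgroup G, IsComplIn E (sigmaCore M) M →
    ∀ E1 : Subgroup G, IsPiHallOf (tau1 M) E1 E →
    ∃ U : Subgroup G, U ≤ E ∧ E ≤ normalizer (U : Set G) ∧
      (∀ p : ℕ, p.Prime → p ∣ Nat.card U → p ∉ tau1 M) ∧ U ⊓ E1 = ⊥ ∧
      (∀ e ∈ E, ∃ u ∈ U, ∃ k ∈ E1, e = u * k) ∧ Nat.card E = Nat.card U * Nat.card E1
  q13 : ∀ (M : Subgroup G), IsCoatom M → ∀ E : Subgroup G, IsComplIn E (sigmaCore M) M →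
    ∀ U : Subgroup G, U ≤ E → ∀ x : G, x ∈ normalizer (U : Set G) → (orderOf x).Prime →
    U ⊓ centralizer ({x} : Set G) = ⊥ → IsMulCommutative U
  q18 : ∀ (M : Subgroup G), IsCoatom M → ∀ E : Subgroup G, IsComplIn E (sigmaCore M) M →
    ∀ K : Subgroup G, K ≤ E → (∀ p : ℕ, p.Prime → p ∣ Nat.card K → p ∈ tau1 M) →
    ∃ E1 : Subgroup G, IsPiHallOf (tau1 M) E1 E ∧ K ≤ E1
  /-- helper68 R7 (S1415 + S1427 + S1428) -/
  r7 : ∀ (M : Subgroup G), IsCoatom M → ∀ E : Subgroup G, IsComplIn E (sigmaCore M) M →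
    ∀ E1 : Subgroup G, IsPiHallOf (tau1 M) E1 E → ∀ x ∈ E1, x ≠ 1 →
    sigmaCore M ⊓ centralizer ({x} : Set G) ≤ sigmaCore M ⊓ centralizer (E1 : Set G)
  /-- S1415, second clause -/
  s15 : ∀ (M : Subgroup G), IsCoatom M → ∀ E : Subgroup G, IsComplIn E (sigmaCore M) M →
    ∀ E1 : Subgroup G, IsPiHallOf (tau1 M) E1 E → IsCyclic E1
  /-- S1428 -/
  s28 : ∀ (M : Subgroup G), IsCoatom M → ∀ E : Subgroup G, IsComplIn E (sigmaCore M) M →
    ∀ p : ℕ, p ∈ tau1 M → ∀ P : Subgroup G, P ≤ E → Nat.card P = p → ∀ R : Subgroup G,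
    R ≤ E ⊓ centralizer (P : Set G) → (Nat.card R).Prime →
    sigmaCore M ⊓ centralizer (P : Set G) ≤ sigmaCore M ⊓ centralizer (R : Set G)

/-! ### basic facts -/

theorem hallσ (hG : IsMinSimpleOddOrder G) {M : Subgroup G} (hM : IsCoatom M) :
    IsPiHallOf (sigma M) (sigmaCore M) M := (Cfsg.Agent.S1350.result hG M hM).1

theorem not_sigma_of_dvd_compl (hG : IsMinSimpleOddOrder G) {M : Subgroup G} (hM : IsCoatom M)
    {E : Subgroup G} (hE : IsComplIn E (sigmaCore M) M) {p : ℕ} (hp : p.Prime)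
    (hpE : p ∣ Nat.card E) : p ∉ sigma M := by
  intro h
  have hHall := hallσ hG hM
  have h1 : ¬ p ∣ (sigmaCore M).relIndex M := hHall.2.2 p hp h
  have h2 : Nat.card (sigmaCore M) * (sigmaCore M).relIndex M = Nat.card M :=
    card_mul_relIndex' hHall.1
  have h3 : Nat.card M = Nat.card E * Nat.card (sigmaCore M) :=
    Cfsg.Agent.Helper23.card_of_isComplIn hE
  rw [h3, mul_comm (Nat.card E)] at h2
  have h4 : (sigmaCore M).relIndex M = Nat.card E :=
    Nat.eq_of_mul_eq_mul_left Nat.card_pos h2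
  rw [h4] at h1
  exact h1 hpE

theorem prankLE_two_of_dvd_compl (hG : IsMinSimpleOddOrder G) {M : Subgroup G} (hM : IsCoatom M)
    {p : ℕ} (hp : p.Prime) (hpσ : p ∉ sigma M) : PRankLE p 2 M := by
  have h5 := Cfsg.Agent.S1405.result hG M hM
  exact Cfsg.Agent.Helper55.BGB.prankLE_two_of_not_mem_sigma hp h5.1 h5.2.2.1 hpσ


theorem prankLE_one_of_tau2_empty (hG : IsMinSimpleOddOrder G) {M : Subgroup G} (hM : IsCoatom M)
    (h2 : tau2 M = ∅) {p : ℕ} (hp : p.Prime) (hpσ : p ∉ sigma M) : PRankLE p 1 M := by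
  by_contra h
  have : p ∈ tau2 M := ⟨hp, hpσ, prankLE_two_of_dvd_compl hG hM hp hpσ, h⟩
  rw [h2] at this
  exact this

theorem ne_one_of_orderOf_prime {x : G} (h : (orderOf x).Prime) : x ≠ 1 := by
  rintro rfl
  rw [orderOf_one] at h
  exact Nat.not_prime_one h

theorem orderOf_dvd_card_of_mem {K : Subgroup G} {x : G} (hx : x ∈ K) : orderOf x ∣ Nat.card K :=
  Subgroup.orderOf_dvd_natCard K hx

theorem conj_mem_of_mem_normalizer' {K : Subgroup G} {a k : G}
    (ha : a ∈ normalizer (K : Set G)) (hk : k ∈ K) : a * k * a⁻¹ ∈ K :=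
  (Subgroup.mem_normalizer_iff.mp ha k).mp hk

theorem le_normalizer_of_comm {K X : Subgroup G} (hXK : X ≤ K)
    (hc : ∀ a ∈ K, ∀ b ∈ K, a * b = b * a) : K ≤ normalizer (X : Set G) := by
  intro a ha
  rw [Subgroup.mem_normalizer_iff]
  intro k
  constructor
  · intro hk
    have : a * k * a⁻¹ = k := by rw [hc a ha k (hXK hk)]; group
    rw [this]; exact hk
  · intro hk
    have h1 : a * k * a⁻¹ ∈ K := hXK hk
    have h2 : k ∈ K := by
      have := K.mul_mem (K.mul_mem (K.inv_mem ha) h1) ha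
      have e : a⁻¹ * (a * k * a⁻¹) * a = k := by group
      rwa [e] at this
    have : a * k * a⁻¹ = k := by rw [hc a ha k h2]; group
    rw [this] at hk; exact hk

/-- the statement of S1430 for the pair `(M, K)` -/
def Concl30 (M K : Subgroup G) : Prop :=
  (∀ k ∈ K, k ≠ 1 → sigmaCore M ⊓ centralizer ({k} : Set G) =
      (sigmaCore M ⊓ centralizer (K : Set G))) ∧
    (∃ U : Subgroup G, IsMulCommutative U ∧
      IsPiHallOf {q | q.Prime ∧ q ∉ kappa M ∧ q ∉ sigma M} U M ∧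
      K ≤ normalizer (U : Set G) ∧ ∀ k ∈ K, k ≠ 1 → U ⊓ centralizer ({k} : Set G) = ⊥) ∧
    ∀ X : Subgroup G, X ≤ K → (Nat.card X).Prime →
      M ⊓ normalizer (X : Set G) = K ⊔ (sigmaCore M ⊓ centralizer (K : Set G)) ∧
      M ⊓ normalizer (K : Set G) = K ⊔ (sigmaCore M ⊓ centralizer (K : Set G)) ∧
      ∀ Mstar : Subgroup G, IsCoatom Mstar → normalizer (X : Set G) ≤ Mstar →
        X ≤ sigmaCore Mstar

/-- Case T3: some prime of `K` lies in `τ₃(M)`. -/
theorem s1430_T3 (I : Inputs30 G) (hG : IsMinSimpleOddOrder G) (M : Subgroup G) (hM : IsCoatom M)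
    (K : Subgroup G) (hK : IsPiHallOf (kappa M) K M) (E : Subgroup G)
    (hE : IsComplIn E (sigmaCore M) M) (hKE : K ≤ E) (s : ℕ) (hs : s.Prime)
    (hsK : s ∣ Nat.card K) (hs3 : s ∈ tau3 M) : Concl30 M K := by
  have hHall := hallσ hG hM
  have hEM : E ≤ M := hE.1
  have hNσ : M ≤ normalizer ((sigmaCore M : Subgroup G) : Set G) :=
    Cfsg.Agent.Helper55.BGB.le_normalizer_sigmaCore M
  obtain ⟨y, hyK, hy⟩ := exists_orderOf_eq_of_dvd_card hs hsK
  have hy1 : y ≠ 1 := ne_one_of_orderOf_prime (by rw [hy]; exact hs)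
  have hYc : Nat.card (zpowers y) = s := by rw [Nat.card_zpowers, hy]
  have hYK : zpowers y ≤ K := zpowers_le.mpr hyK
  have hYE : zpowers y ≤ E := hYK.trans hKE
  have hCY : sigmaCore M ⊓ centralizer ((zpowers y : Subgroup G) : Set G) ≠ ⊥ :=
    I.q2 M K hK (zpowers y) hYK (by rw [hYc]; exact hs)
  have h2 : tau2 M = ∅ := I.q5 M hM E hE s hs3 (zpowers y) hYE hYc hCY
  have hsemi := I.q9 M hM E hE h2 s hs3 (zpowers y) hYE hYc hCY
  have hyE : y ∈ E := hKE hyK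
  have hK0 : sigmaCore M ⊓ centralizer (E : Set G) ≠ ⊥ := by
    rw [← hsemi y hyE hy1, ← centralizer_zpowers_eq']; exact hCY
  have hEκ : ∀ p : ℕ, p.Prime → p ∣ Nat.card E → p ∈ kappa M := by
    intro p hp hpE
    have hpσ := not_sigma_of_dvd_compl hG hM hE hp hpE
    have hr := prankLE_one_of_tau2_empty hG hM h2 hp hpσ
    obtain ⟨x, hxE, hx⟩ := exists_orderOf_eq_of_dvd_card hp hpE
    have hx1 : x ≠ 1 := ne_one_of_orderOf_prime (by rw [hx]; exact hp)
    refine I.q3 M p hp hpσ hr (zpowers x) (zpowers_le.mpr (hEM hxE))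
      (by rw [Nat.card_zpowers, hx]) ?_
    rw [centralizer_zpowers_eq', hsemi x hxE hx1]; exact hK0
  have hKeq : K = E := I.q4 M K E hK hKE hEM hEκ
  subst hKeq
  refine ⟨hsemi, ⟨⊥, ⟨⟨fun a b => Subsingleton.elim _ _⟩⟩, ⟨bot_le, ?_, ?_⟩, ?_, ?_⟩, ?_⟩
  · intro p hp hd
    rw [Subgroup.card_bot] at hd
    exact absurd (Nat.dvd_one.mp hd) hp.ne_one
  · intro p hp hπ hd
    rw [relIndex_bot_left, Cfsg.Agent.Helper23.card_of_isComplIn hE] at hd
    rcases (Nat.Prime.dvd_mul hp).mp hd with h | h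
    · exact hπ.2.1 (hEκ p hp h)
    · exact hπ.2.2 (hHall.2.1 p hp h)
  · intro k _
    rw [Subgroup.mem_normalizer_iff]
    intro h
    simp only [mem_bot]
    constructor
    · rintro rfl; group
    · intro h1
      have : h = k⁻¹ * (k * h * k⁻¹) * k := by group
      rw [this, h1]; group
  · intro k _ _
    exact bot_inf_eq _
  · intro X hXK hX
    have hnorm : K ≤ normalizer (X : Set G) := I.q11 M hM K hE h2 hsemi hK0 X hXK hX
    obtain ⟨x, hxX, hx1⟩ := exists_mem_ne_one_of_prime_card hX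
    have hCX : sigmaCore M ⊓ centralizer (X : Set G) = sigmaCore M ⊓ centralizer (K : Set G) := by
      rw [centralizer_eq_of_prime_card hX hxX hx1]; exact hsemi x (hXK hxX) hx1
    have hpσ := not_sigma_of_dvd_compl hG hM hE hX (Subgroup.card_dvd_of_le hXK)
    have hr := prankLE_one_of_tau2_empty hG hM h2 hX hpσ
    refine ⟨?_, ?_, ?_⟩
    · rw [I.q8 M K (sigmaCore M) X hE hNσ hXK, inf_eq_left.mpr hnorm, hCX]
    · rw [I.q8 M K (sigmaCore M) K hE hNσ le_rfl, inf_eq_left.mpr le_normalizer]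
    · intro Mstar hMs hN
      exact I.q7 M hM (Nat.card X) hX hpσ hr X (hXK.trans hEM) rfl (by rw [hCX]; exact hK0)
        Mstar hMs hN


/-- Case T1: every prime of `K` lies in `τ₁(M)`. -/
theorem s1430_T1 (I : Inputs30 G) (hG : IsMinSimpleOddOrder G) (M : Subgroup G) (hM : IsCoatom M)
    (K : Subgroup G) (hK : IsPiHallOf (kappa M) K M) (hK1 : K ≠ ⊥) (E : Subgroup G)
    (hE : IsComplIn E (sigmaCore M) M) (hKE : K ≤ E)
    (hT : ∀ p : ℕ, p.Prime → p ∣ Nat.card K → p ∈ tau1 M) : Concl30 M K := by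
  have hHall := hallσ hG hM
  have hEM : E ≤ M := hE.1
  have hNσ : M ≤ normalizer ((sigmaCore M : Subgroup G) : Set G) :=
    Cfsg.Agent.Helper55.BGB.le_normalizer_sigmaCore M
  obtain ⟨E1, hE1, hKE1⟩ := I.q18 M hM E hE K hKE hT
  have hE1E : E1 ≤ E := hE1.1
  have hsemi1 : ∀ x ∈ E1, x ≠ 1 → sigmaCore M ⊓ centralizer ({x} : Set G) =
      sigmaCore M ⊓ centralizer (E1 : Set G) := by
    intro x hx hx1
    apply le_antisymm (I.r7 M hM E hE E1 hE1 x hx hx1)
    exact inf_le_inf_left _ (centralizer_le (by simpa using hx))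
  -- an element of prime order of K
  obtain ⟨k0, hk0⟩ := (Subgroup.ne_bot_iff_exists_ne_one).mp hK1
  have hk01 : (k0 : G) ≠ 1 := fun h => hk0 (Subtype.ext h)
  obtain ⟨n, hn⟩ := exists_pow_prime_order hk01
  have hx0K : (k0 : G) ^ n ∈ K := K.pow_mem k0.2 n
  have hx01 : (k0 : G) ^ n ≠ 1 := ne_one_of_orderOf_prime hn
  have hC1 : sigmaCore M ⊓ centralizer (E1 : Set G) ≠ ⊥ := by
    rw [← hsemi1 _ (hKE1 hx0K) hx01, ← centralizer_zpowers_eq']
    exact I.q2 M K hK (zpowers ((k0 : G) ^ n)) (zpowers_le.mpr hx0K)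
      (by rw [Nat.card_zpowers]; exact hn)
  have hE1κ : ∀ p : ℕ, p.Prime → p ∣ Nat.card E1 → p ∈ kappa M := by
    intro p hp hpE1
    have hpτ : p ∈ tau1 M := hE1.2.1 p hp hpE1
    obtain ⟨x, hxE1, hx⟩ := exists_orderOf_eq_of_dvd_card hp hpE1
    have hx1 : x ≠ 1 := ne_one_of_orderOf_prime (by rw [hx]; exact hp)
    refine I.q3 M p hp hpτ.2.1 hpτ.2.2.2.2 (zpowers x) (zpowers_le.mpr (hEM (hE1E hxE1)))
      (by rw [Nat.card_zpowers, hx]) ?_
    rw [centralizer_zpowers_eq', hsemi1 x hxE1 hx1]; exact hC1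
  have hKeq : K = E1 := I.q4 M K E1 hK hKE1 (hE1E.trans hEM) hE1κ
  subst hKeq
  obtain ⟨U, hUE, hUn, hUτ, hUK, hdec, hcard⟩ := I.q12 M hM E hE K hE1
  have hKcyc : IsCyclic K := I.s15 M hM E hE K hE1
  have hKcomm : ∀ a ∈ K, ∀ b ∈ K, a * b = b * a := by
    intro a ha b hb
    have := (IsCyclic.isMulCommutative (α := K)).is_comm.comm (⟨a, ha⟩ : K) ⟨b, hb⟩
    exact congrArg Subtype.val this
  have hfpf : ∀ k ∈ K, k ≠ 1 → U ⊓ centralizer ({k} : Set G) = ⊥ := by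
    intro k hk hk1
    rw [eq_bot_iff]
    rintro u ⟨huU, huk⟩
    rw [mem_bot]
    by_contra hu1
    have hcomm : Commute k u := mem_centralizer_iff.mp huk k (Set.mem_singleton k)
    obtain ⟨n', hn'⟩ := exists_pow_prime_order hk1
    obtain ⟨m, hm⟩ := exists_pow_prime_order hu1
    have hxK : k ^ n' ∈ K := K.pow_mem hk n'
    have hx1 : k ^ n' ≠ 1 := ne_one_of_orderOf_prime hn'
    have hwU : u ^ m ∈ U := U.pow_mem huU m
    have hcomm' : Commute (k ^ n') (u ^ m) := hcomm.pow_pow n' m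
    have hpτ : orderOf (k ^ n') ∈ tau1 M := hE1.2.1 _ hn' (orderOf_dvd_card_of_mem hxK)
    have hXE : zpowers (k ^ n') ≤ E := zpowers_le.mpr (hKE hxK)
    have hRX : zpowers (u ^ m) ≤ E ⊓ centralizer ((zpowers (k ^ n') : Subgroup G) : Set G) := by
      apply le_inf (zpowers_le.mpr (hUE hwU))
      rw [centralizer_zpowers_eq']
      apply zpowers_le.mpr
      rw [mem_centralizer_iff]
      intro z hz
      rw [Set.mem_singleton_iff.mp hz]
      exact hcomm'
    have hCX : sigmaCore M ⊓ centralizer ((zpowers (k ^ n') : Subgroup G) : Set G) ≠ ⊥ := by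
      rw [centralizer_zpowers_eq', hsemi1 _ hxK hx1]; exact hC1
    have hle := I.s28 M hM E hE _ hpτ (zpowers (k ^ n')) hXE (Nat.card_zpowers _) (zpowers (u ^ m))
      hRX (by rw [Nat.card_zpowers]; exact hm)
    have hCR : sigmaCore M ⊓ centralizer ((zpowers (u ^ m) : Subgroup G) : Set G) ≠ ⊥ := by
      intro h
      rw [h] at hle
      exact hCX (le_bot_iff.mp hle)
    have hrU : orderOf (u ^ m) ∣ Nat.card U := orderOf_dvd_card_of_mem hwU
    have hrτ : orderOf (u ^ m) ∉ tau1 M := hUτ _ hm hrU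
    have hrE : orderOf (u ^ m) ∣ Nat.card E := dvd_trans hrU (Subgroup.card_dvd_of_le hUE)
    have hrσ := not_sigma_of_dvd_compl hG hM hE hm hrE
    have hr2 := prankLE_two_of_dvd_compl hG hM hm hrσ
    have hrM : orderOf (u ^ m) ∣ Nat.card M := dvd_trans hrE (Subgroup.card_dvd_of_le hEM)
    by_cases hr1 : PRankLE (orderOf (u ^ m)) 1 M
    · rcases mem_tau1_or_tau3 hm hrσ hrM hr1 with h | h
      · exact hrτ h
      · have hrκ : orderOf (u ^ m) ∈ kappa M :=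
          I.q3 M _ hm hrσ hr1 (zpowers (u ^ m)) (zpowers_le.mpr (hEM (hUE hwU)))
            (Nat.card_zpowers _) hCR
        exact hrτ (hE1.2.1 _ hm (dvd_card_of_mem_kappa hK hrκ))
    · exact I.q6 M hM E hE _ hpτ (zpowers (k ^ n')) hXE (Nat.card_zpowers _) hCX _
        ⟨hm, hrσ, hr2, hr1⟩ (zpowers (u ^ m)) hRX (Nat.card_zpowers _)
  have hKnU : K ≤ normalizer (U : Set G) := hKE.trans hUn
  have hUab : IsMulCommutative U :=
    I.q13 M hM E hE U hUE _ (hKnU hx0K) hn (hfpf _ hx0K hx01)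
  have hUHall : IsPiHallOf {q | q.Prime ∧ q ∉ kappa M ∧ q ∉ sigma M} U M := by
    refine ⟨hUE.trans hEM, ?_, ?_⟩
    · intro q hq hqU
      refine ⟨hq, ?_, not_sigma_of_dvd_compl hG hM hE hq
        (dvd_trans hqU (Subgroup.card_dvd_of_le hUE))⟩
      intro hqκ
      exact hUτ q hq hqU (hE1.2.1 q hq (dvd_card_of_mem_kappa hK hqκ))
    · intro q hq hqπ hqd
      have h1 : Nat.card U * U.relIndex M = Nat.card M := card_mul_relIndex' (hUE.trans hEM)
      have h3 : Nat.card M = Nat.card E * Nat.card (sigmaCore M) :=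
        Cfsg.Agent.Helper23.card_of_isComplIn hE
      rw [h3, hcard, mul_assoc] at h1
      have h4 : U.relIndex M = Nat.card K * Nat.card (sigmaCore M) :=
        Nat.eq_of_mul_eq_mul_left Nat.card_pos h1
      rw [h4] at hqd
      rcases (Nat.Prime.dvd_mul hq).mp hqd with h | h
      · exact hqπ.2.1 (hK.2.1 q hq h)
      · exact hqπ.2.2 (hHall.2.1 q hq h)
  -- normalizers in E
  have hNE : ∀ X : Subgroup G, X ≤ K → X ≠ ⊥ → E ⊓ normalizer (X : Set G) = K := by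
    intro X hXK hX1
    apply le_antisymm
    · rintro e ⟨heE, heN⟩
      obtain ⟨u, huU, k, hkK, rfl⟩ := hdec e heE
      have hkN : k ∈ normalizer (X : Set G) := le_normalizer_of_comm hXK hKcomm hkK
      have huN : u ∈ normalizer (X : Set G) := by
        have := (normalizer (X : Set G)).mul_mem heN ((normalizer (X : Set G)).inv_mem hkN)
        rwa [mul_assoc, mul_inv_cancel, mul_one] at this
      obtain ⟨x, hx⟩ := (Subgroup.ne_bot_iff_exists_ne_one).mp hX1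
      have hx1 : (x : G) ≠ 1 := fun h => hx (Subtype.ext h)
      have hxK : (x : G) ∈ K := hXK x.2
      have h1 : u * x * u⁻¹ * (x : G)⁻¹ ∈ K :=
        K.mul_mem (hXK (conj_mem_of_mem_normalizer' huN x.2)) (K.inv_mem hxK)
      have h2 : u * x * u⁻¹ * (x : G)⁻¹ ∈ U := by
        have h3 : (x : G) * u⁻¹ * (x : G)⁻¹ ∈ U :=
          conj_mem_of_mem_normalizer' (hKnU hxK) (U.inv_mem huU)
        have := U.mul_mem huU h3
        have e : u * ((x : G) * u⁻¹ * (x : G)⁻¹) = u * x * u⁻¹ * (x : G)⁻¹ := by group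
        rwa [e] at this
      have h3 : u * x * u⁻¹ * (x : G)⁻¹ ∈ U ⊓ K := ⟨h2, h1⟩
      rw [hUK, mem_bot] at h3
      have hux : (x : G) * u = u * x := by
        have : u * x = (u * x * u⁻¹ * (x : G)⁻¹) * (x * u) := by group
        rw [this, h3, one_mul]
      have hu : u ∈ U ⊓ centralizer ({(x : G)} : Set G) := by
        refine Subgroup.mem_inf.mpr ⟨huU, ?_⟩
        rw [mem_centralizer_iff]
        intro z hz
        rw [Set.mem_singleton_iff.mp hz]
        exact hux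
      rw [hfpf x hxK hx1, mem_bot] at hu
      rw [hu, one_mul]; exact hkK
    · exact le_inf hKE (le_normalizer_of_comm hXK hKcomm)
  refine ⟨hsemi1, ⟨U, hUab, hUHall, hKnU, hfpf⟩, ?_⟩
  intro X hXK hX
  obtain ⟨x, hxX, hx1⟩ := exists_mem_ne_one_of_prime_card hX
  have hCX : sigmaCore M ⊓ centralizer (X : Set G) = sigmaCore M ⊓ centralizer (K : Set G) := by
    rw [centralizer_eq_of_prime_card hX hxX hx1]; exact hsemi1 x (hXK hxX) hx1
  have hpτ : Nat.card X ∈ tau1 M := hE1.2.1 _ hX (Subgroup.card_dvd_of_le hXK)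
  refine ⟨?_, ?_, ?_⟩
  · rw [I.q8 M E (sigmaCore M) X hE hNσ (hXK.trans hKE), hNE X hXK (ne_bot_of_prime_card' hX), hCX]
  · rw [I.q8 M E (sigmaCore M) K hE hNσ hKE, hNE K le_rfl hK1]
  · intro Mstar hMs hN
    exact I.q7 M hM (Nat.card X) hX hpτ.2.1 hpτ.2.2.2.2 X ((hXK.trans hKE).trans hEM) rfl
      (by rw [hCX]; exact hC1) Mstar hMs hN

/-- **S1430 from the pieces.** -/
theorem s1430_of (I : Inputs30 G) (hG : IsMinSimpleOddOrder G) (M : Subgroup G) (hM : IsCoatom M)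
    (K : Subgroup G) (hK : IsPiHallOf (kappa M) K M) (hK1 : K ≠ ⊥) : Concl30 M K := by
  obtain ⟨E, hE, hKE⟩ := I.q1 M hM K hK
  by_cases hT3 : ∃ s : ℕ, s.Prime ∧ s ∣ Nat.card K ∧ s ∈ tau3 M
  · obtain ⟨s, hs, hsK, hs3⟩ := hT3
    exact s1430_T3 I hG M hM K hK E hE hKE s hs hsK hs3
  · refine s1430_T1 I hG M hM K hK hK1 E hE hKE ?_
    intro p hp hpK
    have hpκ : p ∈ kappa M := hK.2.1 p hp hpK
    have hr := Cfsg.Agent.Helper45.BG143.pRankLE_one_of_kappa hpκ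
    rcases mem_tau1_or_tau3 hp hpκ.2.2.1 hpκ.2.1 hr with h | h
    · exact h
    · exact absurd ⟨p, hp, hpK, h⟩ hT3

end Cfsg.Agent.Helper54.BG142
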