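import Mathlib
import Cfsg.Agent.Lib.Helper30.BG144cDefs
import Cfsg.Agent.Lib.Helper45.BG143
import Cfsg.Agent.Lib.Helper48.CoprimeGen
import Cfsg.Agent.Lib.Helper54.BG142Tools

/-!
# B-G 14.4(c) (row S1376), piece (D1) of helper30's server: the data attached to `s ∈ τ₂(M)` (helper54)
-/

set_option autoImplicit false
set_option linter.unusedVariables false
set_option linter.unusedSectionVars false

namespace Cfsg.Agent.Helper54.BG144c

open Cfsg Subgroup Cfsg.Agent.Helper30.BG144c Cfsg.Agent.Helper54.BG142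

universe u

variable {G : Type u} [Group G] [Finite G]

/-- all Sylow `r`-subgroups are commutative as soon as one is. -/
theorem sylow_comm_of_sylow_comm {r : ℕ} [Fact r.Prime] (S S' : Sylow r G)
    (hScomm : IsMulCommutative (S : Subgroup G)) :
    ∀ u ∈ (S' : Subgroup G), ∀ v ∈ (S' : Subgroup G), u * v = v * u := by
  obtain ⟨g, hg⟩ := MulAction.exists_smul_eq G S' S
  intro u hu v hv
  have hmem : ∀ w ∈ (S' : Subgroup G), g * w * g⁻¹ ∈ (S : Subgroup G) := by
    intro w hw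
    rw [← hg, Sylow.coe_subgroup_smul, Subgroup.mem_pointwise_smul_iff_inv_smul_mem]
    have : (MulAut.conj g)⁻¹ • (g * w * g⁻¹) = w := by
      rw [← map_inv, MulAut.smul_def, MulAut.conj_apply]
      group
    rw [this]
    exact hw
  have h1 := hmem u hu
  have h2 := hmem v hv
  have h3 : (⟨g * u * g⁻¹, h1⟩ : (S : Subgroup G)) * ⟨g * v * g⁻¹, h2⟩ =
      ⟨g * v * g⁻¹, h2⟩ * ⟨g * u * g⁻¹, h1⟩ := hScomm.is_comm.comm _ _
  have h4 := congrArg Subtype.val h3
  simp only [Subgroup.coe_mul] at h4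
  have h5 : g * (u * v) * g⁻¹ = g * (v * u) * g⁻¹ := by
    calc g * (u * v) * g⁻¹ = (g * u * g⁻¹) * (g * v * g⁻¹) := by group
      _ = (g * v * g⁻¹) * (g * u * g⁻¹) := h4
      _ = g * (v * u) * g⁻¹ := by group
  exact mul_left_cancel (mul_right_cancel h5)

theorem setupD (hG : IsMinSimpleOddOrder G) (r1350 : R1350 G) (r1417 : R1417 G)
    (r1418 : R1418 G) (r1419 : R1419 G)
    {M N Nst : Subgroup G} (hM : IsCoatom M) {x0 : G} {q p : ℕ} {K U : Subgroup G}
    (A : SetupA M N x0 q K U) (B : SetupB M N Nst x0 K U p)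
    (hcomm : ∀ a ∈ M ⊓ Nst, ∀ b ∈ M ⊓ Nst, a * b = b * a)
    {s : ℕ} (hs : s ∈ tau2 M) :
    ∃ (A' S : Subgroup G) (a : G), SetupD M Nst s A' S a := by
  haveI : Fact s.Prime := ⟨hs.1⟩
  have hsp : s.Prime := hs.1
  have hHall := (r1350 M hM).1
  have hE := B.hE
  have hEM : M ⊓ Nst ≤ M := inf_le_left
  have hσM : sigmaCore M ≤ M := hHall.1
  have hNσ : M ≤ normalizer ((sigmaCore M : Subgroup G) : Set G) :=
    Cfsg.Agent.Helper55.BGB.le_normalizer_sigmaCore M
  obtain ⟨A', hA'E, hA'e, hA'c⟩ := Cfsg.Agent.Helper45.BG143.exists_elemAb_in_compl hs hE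
  have hA'comm : ∀ x ∈ A', ∀ y ∈ A', x * y = y * x := by
    intro x hx y hy
    have := hA'e.1.is_comm.comm (⟨x, hx⟩ : A') ⟨y, hy⟩
    exact congrArg Subtype.val this
  have h18 := r1418 M hM (M ⊓ Nst) hE s hs A' ⟨hA'E, hA'e, hA'c⟩
  have hCA : centralizer (A' : Set G) ≤ M ⊓ Nst := by
    have := h18.2.1.1
    rw [h18.2.1.2.1] at this
    exact this
  -- a bad element
  have hsσ : ¬ s ∣ Nat.card (sigmaCore M) := fun h => hs.2.1 (hHall.2.1 s hsp h)
  have hx01 : x0 ≠ 1 := by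
    intro h
    have := A.hx0o
    rw [h, orderOf_one] at this
    exact A.hq.one_lt.ne this
  have hbadex : ∃ a ∈ A', a ≠ 1 ∧ sigmaCore M ⊓ centralizer ({a} : Set G) ≠ ⊥ := by
    by_contra hcon
    push Not at hcon
    have hle : sigmaCore M ≤ ⊥ :=
      Cfsg.Agent.Helper48.le_of_forall_inf_centralizer_le (p := s) A' (sigmaCore M) ⊥ hA'comm
        hA'e.2 (by rw [hA'c]) ((hA'E.trans hEM).trans hNσ)
        ((Nat.Prime.coprime_iff_not_dvd hsp).mpr hsσ).symm
        (fun c hc hc1 => le_of_eq (hcon c hc hc1))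
    have := hle A.hx0
    rw [mem_bot] at this
    exact hx01 this
  obtain ⟨a, haA', ha1, hbad⟩ := hbadex
  have hao : orderOf a = s := orderOf_eq_prime (hA'e.2 a haA') ha1
  have h18c := h18.2.2 (zpowers a) (zpowers_le.mpr haA') (by rw [Nat.card_zpowers, hao])
    (by rw [centralizer_zpowers_eq']; exact hbad)
  rw [centralizer_zpowers_eq'] at h18c
  -- Sylow `s`-subgroups of `G` are abelian
  have hA'p : IsPGroup s A' := IsPGroup.of_card (n := 2) hA'c
  obtain ⟨S, hA'S⟩ := hA'p.exists_le_sylow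
  have hScomm : ∀ u ∈ (S : Subgroup G), ∀ v ∈ (S : Subgroup G), u * v = v * u := by
    by_cases hall : ∀ S' : Sylow s G, ¬ IsMulCommutative (S' : Subgroup G)
    · exfalso
      have h19 := r1419 M hM (M ⊓ Nst) hE s hs hall A' ⟨hA'E, hA'e, hA'c⟩
      have hc : Nat.card ↥(A' ⊓ centralizer ((sigmaCore M : Subgroup G) : Set G)) = s := h19.2.1.1
      have hne : A' ⊓ centralizer ((sigmaCore M : Subgroup G) : Set G) ≠ ⊥ := by
        intro h
        rw [h, Subgroup.card_bot] at hc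
        exact hsp.one_lt.ne hc
      obtain ⟨a0, ha0⟩ := (Subgroup.ne_bot_iff_exists_ne_one).mp hne
      have ha01 : (a0 : G) ≠ 1 := fun h => ha0 (Subtype.ext h)
      have ha0A : (a0 : G) ∈ A' := a0.2.1
      have ha0C : (a0 : G) ∈ centralizer ((sigmaCore M : Subgroup G) : Set G) := a0.2.2
      have h1 : (a0 : G) * x0 = x0 * a0 := (mem_centralizer_iff.mp ha0C x0 A.hx0).symm
      exact ha01 (B.hF1 a0 (hA'E ha0A) h1)
    · push Not at hall
      obtain ⟨S0, hS0⟩ := hall
      exact sylow_comm_of_sylow_comm S0 S hS0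
  have hSC : (S : Subgroup G) ≤ centralizer (A' : Set G) := by
    intro u hu
    rw [mem_centralizer_iff]
    intro y hy
    exact hScomm y (hA'S hy) u hu
  have hSE : (S : Subgroup G) ≤ M ⊓ Nst := hSC.trans hCA
  have hSM : (S : Subgroup G) ≤ M := hSE.trans hEM
  -- `Ω₁(S) = A'` by S1417
  have h17 := r1417 M hM s hs A' ⟨hA'E.trans hEM, hA'e, hA'c⟩
  have hmap : ((S.subtype hSM : Sylow s M) : Subgroup M).map M.subtype = (S : Subgroup G) := by
    rw [Sylow.coe_subtype]
    exact map_subgroupOf_eq_of_le hSM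
  have hΩ := ((h17.2.1 (S.subtype hSM)).2 (by rw [hmap]; exact hA'S)).1
  refine ⟨A', S, a, ?_⟩
  exact
    { hs := hsp
      hsτ := hs
      hAE := hA'E
      hA := hA'e
      hAc := hA'c
      hCA := hCA
      haA := haA'
      ha1 := ha1
      hbad := hbad
      haM := h18c.1
      hauniq := h18c.2
      hAS := hA'S
      hSE := hSE
      hSp := S.isPGroup'
      hSsyl := S.not_dvd_index
      hSΩ := fun x hx hxs => (hΩ x (by rw [hmap]; exact hx)).mp hxs }

end Cfsg.Agent.Helper54.BG144c
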