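import Mathlib
import Cfsg.Agent.Lib.Helper53.CD3ADefs
import Cfsg.Agent.Lib.Helper81.CharClifford
import Cfsg.Agent.Lib.Helper81.DG2CR
import Cfsg.Agent.Lib.Helper79.Coprime.AbsCliff
import Cfsg.Agent.Lib.Helper74.LinChar

/-!
# CD3A (L124a), helper54 for helper53's server (S4460 Theorem A)

Gallagher count: if `F/K` is an abelian group of order `q ^ e` and `θ ∈ Irr(F)` has degree prime to
`q`, then exactly `q ^ e` irreducible characters of `F` agree with `θ` on `K`
(`φ ↦ φ θ` is a bijection from the linear characters of `F/K`).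
-/

set_option autoImplicit false
set_option linter.style.haveILetI false
set_option linter.unusedSectionVars false
set_option linter.unusedVariables false

namespace Cfsg.Agent.Helper54.CD3A

open Cfsg Cfsg.Agent.Helper53.CD3A Cfsg.Agent.Helper81
open scoped ComplexConjugate commutatorElement

universe u

/-- (L124a) Gallagher count. -/
theorem card_overSet {G : Type u} [Group G] [Finite G] (K F : Subgroup G) [K.Normal] [F.Normal]
    (hKF : K ≤ F) (q e : ℕ) (hq : q.Prime)
    (hab : ∀ a ∈ F, ∀ b ∈ F, a * b * a⁻¹ * b⁻¹ ∈ K) (hcard : K.relIndex F = q ^ e)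
    (θ : IrrCharacter F) (hθ : ¬ q ∣ charDegree (θ : F → ℂ)) :
    Nat.card (OverSet K F (θ : F → ℂ)) = q ^ e := by
  classical
  haveI : Fintype F := Fintype.ofFinite F
  let N : Subgroup F := K.subgroupOf F
  haveI hNn : N.Normal := Subgroup.normal_subgroupOf
  haveI : Fintype N := Fintype.ofFinite N
  have hmemN : ∀ x : F, x ∈ N ↔ (x : G) ∈ K := fun x => Subgroup.mem_subgroupOf
  -- `F/N` is abelian, hence solvable
  have hcomm : ∀ a b : F ⧸ N, a * b = b * a := by
    intro a b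
    refine QuotientGroup.induction_on a ?_
    intro x
    refine QuotientGroup.induction_on b ?_
    intro y
    rw [← QuotientGroup.mk_mul, ← QuotientGroup.mk_mul, QuotientGroup.eq, hmemN]
    have h := hab (y : G)⁻¹ (F.inv_mem y.2) (x : G)⁻¹ (F.inv_mem x.2)
    have e1 : (((x * y)⁻¹ * (y * x) : F) : G) =
        (y : G)⁻¹ * (x : G)⁻¹ * ((y : G)⁻¹)⁻¹ * ((x : G)⁻¹)⁻¹ := by
      push_cast
      group
    rw [e1]
    exact h
  haveI : Group.IsSolvable (F ⧸ N) := Group.isSolvable_of_comm hcomm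
  have hcop : Nat.Coprime (charDegree (θ : F → ℂ)) N.index := by
    have hidx : N.index = q ^ e := hcard
    rw [hidx]
    exact Nat.Coprime.pow_right e ((Nat.Prime.coprime_iff_not_dvd hq).mpr hθ).symm
  have hθN : IsIrrCharacter N (fun k : N => (θ : F → ℂ) k) :=
    Cfsg.Agent.Helper81.DG2.restrict_irr_of_coprime N θ hcop
  have hθ1 : (θ : F → ℂ) 1 ≠ 0 := Cfsg.Agent.Helper79.irr_one_ne_zero θ
  have hmk1 : ∀ x : F, (x : G) ∈ K → (QuotientGroup.mk' N) x = 1 := fun x hx =>
    (QuotientGroup.eq_one_iff x).mpr ((hmemN x).mpr hx)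
  -- the map `φ ↦ φ θ`
  let f : (F ⧸ N →* ℂˣ) → OverSet K F (θ : F → ℂ) := fun φ =>
    ⟨Cfsg.Agent.Helper74.Lin.twistIrr (φ.comp (QuotientGroup.mk' N)) θ, by
      intro x hx
      show (((φ.comp (QuotientGroup.mk' N)) x : ℂˣ) : ℂ) * (θ : F → ℂ) x = (θ : F → ℂ) x
      rw [MonoidHom.comp_apply, hmk1 x hx, map_one, Units.val_one, one_mul]⟩
  have hkerOf : ∀ φ : F ⧸ N →* ℂˣ,
      N ≤ Cfsg.Agent.Helper79.irrKer
        (Cfsg.Agent.Helper74.Lin.ofHom (φ.comp (QuotientGroup.mk' N))) := by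
    intro φ x hx
    rw [Cfsg.Agent.Helper79.mem_irrKer]
    have hx1 := hmk1 x ((hmemN x).mp hx)
    show (((φ.comp (QuotientGroup.mk' N)) x : ℂˣ) : ℂ) =
      (((φ.comp (QuotientGroup.mk' N)) 1 : ℂˣ) : ℂ)
    rw [map_one, MonoidHom.comp_apply, hx1, map_one]
  have hfinj : Function.Injective f := by
    intro φ φ' h
    have h' : Cfsg.Agent.Helper74.Lin.twistIrr (φ.comp (QuotientGroup.mk' N)) θ =
        Cfsg.Agent.Helper74.Lin.twistIrr (φ'.comp (QuotientGroup.mk' N)) θ :=
      congrArg Subtype.val h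
    have hmul : ((Cfsg.Agent.Helper74.Lin.ofHom (φ.comp (QuotientGroup.mk' N)) :
          IrrCharacter F) : F → ℂ) * (θ : F → ℂ) =
        ((Cfsg.Agent.Helper74.Lin.ofHom (φ'.comp (QuotientGroup.mk' N)) :
          IrrCharacter F) : F → ℂ) * (θ : F → ℂ) := by
      funext x
      exact congrFun (congrArg Subtype.val h') x
    have h5 := Cfsg.Agent.Helper74.Lin.ofHom_injective
      (Cfsg.Agent.Helper79.Cop.gallagher_inj N hNn θ _ _ hθN (hkerOf φ) (hkerOf φ') hmul)
    apply MonoidHom.ext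
    intro a
    refine QuotientGroup.induction_on a ?_
    intro x
    exact DFunLike.congr_fun h5 x
  have hfsurj : Function.Surjective f := by
    rintro ⟨η, hη⟩
    have hηN : (fun k : N => (η : F → ℂ) k) = fun k : N => (θ : F → ℂ) k := by
      funext k
      exact hη k.1 ((hmemN k.1).mp k.2)
    have hne : classInner (fun k : N => (η : F → ℂ) k) (fun k : N => (θ : F → ℂ) k) ≠ 0 := by
      rw [hηN, Cfsg.Agent.Helper81.irr_orthonormal hθN hθN, if_pos rfl]
      exact one_ne_zero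
    obtain ⟨β, hβN, hβ⟩ := Cfsg.Agent.Helper79.Cop.gallagher_surj N hNn θ η hθN hne
    have hdeg : (η : F → ℂ) 1 = (θ : F → ℂ) 1 := hη 1 (by simp [K.one_mem])
    have hβ1 : (β : F → ℂ) 1 = 1 := by
      have h3 := congrFun hβ 1
      rw [Pi.mul_apply, hdeg] at h3
      have h4 : (1 : ℂ) * (θ : F → ℂ) 1 = (β : F → ℂ) 1 * (θ : F → ℂ) 1 := by
        rw [one_mul]; exact h3
      exact (mul_right_cancel₀ hθ1 h4).symm
    let μ : F →* ℂˣ := Cfsg.Agent.Helper74.Lin.toHom β hβ1
    have hμv : ∀ x : F, ((μ x : ℂˣ) : ℂ) = (β : F → ℂ) x := fun x => rfl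
    have hμN : N ≤ μ.ker := by
      intro x hx
      rw [MonoidHom.mem_ker]
      apply Units.ext
      rw [hμv, Units.val_one, (Cfsg.Agent.Helper79.mem_irrKer β x).mp (hβN hx), hβ1]
    refine ⟨QuotientGroup.lift N μ hμN, ?_⟩
    apply Subtype.ext
    apply Subtype.ext
    funext x
    show ((((QuotientGroup.lift N μ hμN).comp (QuotientGroup.mk' N)) x : ℂˣ) : ℂ) *
      (θ : F → ℂ) x = (η : F → ℂ) x
    rw [hβ, Pi.mul_apply, ← hμv]
    rfl
  rw [← Nat.card_congr (Equiv.ofBijective f ⟨hfinj, hfsurj⟩), Cfsg.Agent.Helper74.Lin.card_hom]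
  have hc : commutator (F ⧸ N) = ⊥ := by
    rw [commutator_def, Subgroup.commutator_eq_bot_iff_le_centralizer]
    intro a _
    rw [Subgroup.mem_centralizer_iff]
    intro b _
    exact hcomm b a
  rw [hc, Subgroup.index_bot, ← Subgroup.index_eq_card]
  exact hcard

end Cfsg.Agent.Helper54.CD3A
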