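import Mathlib
import Cfsg.Agent.Lib.Helper53.CD3ADefs
import Cfsg.Agent.Lib.Helper81.CharClifford
import Cfsg.Agent.Lib.Helper81.DG2CR
import Cfsg.Agent.Lib.Helper79.Coprime.AbsCliff
import Cfsg.Agent.Lib.Helper74.LinChar

/-!
# CD3A (L124b), helper54 for helper53's server (S4460 Theorem A)

An element outside `F` acting fixed-point-freely on the abelian `q`-group `F/K` fixes at most one
member of `OverSet K F θ` (Gallagher + the dual of a fixed-point-free action).
-/

set_option autoImplicit false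
set_option linter.style.haveILetI false
set_option linter.unusedSectionVars false
set_option linter.unusedVariables false

namespace Cfsg.Agent.Helper54.CD3A

open Cfsg Cfsg.Agent.Helper53.CD3A Cfsg.Agent.Helper81
open scoped ComplexConjugate commutatorElement

universe u

/-- a hom to `ℂˣ`, trivial on the normal subgroup `N` and invariant under an automorphism `c`
stabilising `N` and fixed-point-free on `F/N`, is trivial (the map `a ↦ c(a) a⁻¹` on `F/N` is
injective, hence surjective). -/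
theorem h54_fpf_hom_trivial {F : Type u} [Group F] [Finite F] (N : Subgroup F) [N.Normal]
    (c : F ≃* F) (hcN : ∀ x ∈ N, c x ∈ N)
    (hfpf : ∀ x : F, (c x)⁻¹ * x ∈ N → x ∈ N)
    (μ : F →* ℂˣ) (hμN : ∀ x ∈ N, μ x = 1) (hμc : ∀ x, μ (c x) = μ x) (x : F) : μ x = 1 := by
  classical
  let cbar : F ⧸ N →* F ⧸ N := QuotientGroup.map N N c.toMonoidHom (fun x hx => hcN x hx)
  have hcbar : ∀ x : F, cbar (x : F ⧸ N) = ((c x : F) : F ⧸ N) := fun x => rfl
  have hfix : ∀ d : F ⧸ N, cbar d = d → d = 1 := by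
    intro d
    refine QuotientGroup.induction_on d ?_
    intro y h
    rw [hcbar] at h
    have h1 : (c y)⁻¹ * y ∈ N := QuotientGroup.eq.mp h
    exact (QuotientGroup.eq_one_iff y).mpr (hfpf y h1)
  have hinj : Function.Injective (fun a : F ⧸ N => cbar a * a⁻¹) := by
    intro a b hab
    have h2 : cbar a * a⁻¹ = cbar b * b⁻¹ := hab
    have h1 : cbar (b⁻¹ * a) = b⁻¹ * a := by
      rw [map_mul, map_inv]
      calc (cbar b)⁻¹ * cbar a = (cbar b)⁻¹ * (cbar a * a⁻¹) * a := by group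
        _ = (cbar b)⁻¹ * (cbar b * b⁻¹) * a := by rw [h2]
        _ = b⁻¹ * a := by group
    have h3 := hfix _ h1
    calc a = b * (b⁻¹ * a) := by group
      _ = b := by rw [h3, mul_one]
  have hsurj := Finite.surjective_of_injective hinj
  let μ' : F ⧸ N →* ℂˣ :=
    QuotientGroup.lift N μ (fun x hx => MonoidHom.mem_ker.mpr (hμN x hx))
  have hμ' : ∀ x : F, μ' (x : F ⧸ N) = μ x := fun x => rfl
  have hμ'c : ∀ a : F ⧸ N, μ' (cbar a) = μ' a := by
    intro a
    refine QuotientGroup.induction_on a ?_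
    intro y
    rw [hcbar, hμ', hμ', hμc]
  obtain ⟨b, hb⟩ := hsurj (x : F ⧸ N)
  have hb' : cbar b * b⁻¹ = (x : F ⧸ N) := hb
  rw [← hμ', ← hb', map_mul, map_inv, hμ'c, mul_inv_cancel]

/-- (L124b) an element outside `F` fixes at most one member of `OverSet`. -/
theorem fixed_overSet_unique {G : Type u} [Group G] [Finite G] (K F : Subgroup G) [K.Normal]
    (hF : F.Normal) (hKF : K ≤ F) (q e : ℕ) (hq : q.Prime)
    (hab : ∀ a ∈ F, ∀ b ∈ F, a * b * a⁻¹ * b⁻¹ ∈ K) (hcard : K.relIndex F = q ^ e)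
    (hfpf : ∀ g : G, g ∉ F → ∀ x ∈ F, g * x * g⁻¹ * x⁻¹ ∈ K → x ∈ K)
    (θ : IrrCharacter F) (hθ : ¬ q ∣ charDegree (θ : F → ℂ))
    (g : G) (hg : g ∉ F) (η η' : IrrCharacter F) (hη : η ∈ OverSet K F (θ : F → ℂ))
    (hη' : η' ∈ OverSet K F (θ : F → ℂ))
    (h1 : conjFun F hF (η : F → ℂ) g = (η : F → ℂ))
    (h2 : conjFun F hF (η' : F → ℂ) g = (η' : F → ℂ)) : η = η' := by
  classical
  haveI : Fintype F := Fintype.ofFinite F
  haveI := hF
  let N : Subgroup F := K.subgroupOf F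
  haveI hNn : N.Normal := Subgroup.normal_subgroupOf
  haveI : Fintype N := Fintype.ofFinite N
  have hmemN : ∀ x : F, x ∈ N ↔ (x : G) ∈ K := fun x => Subgroup.mem_subgroupOf
  -- `F/N` is abelian, hence solvable
  have hcomm : ∀ a b : F ⧸ N, a * b = b * a := by
    intro a b
    refine QuotientGroup.induction_on a ?_
    intro x
    refine QuotientGroup.induction_on b ?_
    intro y
    rw [← QuotientGroup.mk_mul, ← QuotientGroup.mk_mul, QuotientGroup.eq, hmemN]
    have h := hab (y : G)⁻¹ (F.inv_mem y.2) (x : G)⁻¹ (F.inv_mem x.2)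
    have e1 : (((x * y)⁻¹ * (y * x) : F) : G) = (y : G)⁻¹ * (x : G)⁻¹ * ((y : G)⁻¹)⁻¹ * ((x : G)⁻¹)⁻¹ := by
      push_cast
      group
    rw [e1]
    exact h
  haveI : Group.IsSolvable (F ⧸ N) := Group.isSolvable_of_comm hcomm
  have hcop : Nat.Coprime (charDegree (θ : F → ℂ)) N.index := by
    have hidx : N.index = q ^ e := hcard
    rw [hidx]
    exact Nat.Coprime.pow_right e ((Nat.Prime.coprime_iff_not_dvd hq).mpr hθ).symm
  have hθN : IsIrrCharacter N (fun k : N => (θ : F → ℂ) k) :=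
    Cfsg.Agent.Helper81.DG2.restrict_irr_of_coprime N θ hcop
  have hηN : (fun k : N => (η : F → ℂ) k) = fun k : N => (θ : F → ℂ) k := by
    funext k
    exact hη k.1 ((hmemN k.1).mp k.2)
  have hη'N : (fun k : N => (η' : F → ℂ) k) = fun k : N => (θ : F → ℂ) k := by
    funext k
    exact hη' k.1 ((hmemN k.1).mp k.2)
  have hηirr : IsIrrCharacter N (fun k : N => (η : F → ℂ) k) := by rw [hηN]; exact hθN
  have hne : classInner (fun k : N => (η' : F → ℂ) k) (fun k : N => (η : F → ℂ) k) ≠ 0 := by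
    rw [hη'N, hηN, Cfsg.Agent.Helper81.irr_orthonormal hθN hθN, if_pos rfl]
    exact one_ne_zero
  obtain ⟨β, hβN, hβ⟩ := Cfsg.Agent.Helper79.Cop.gallagher_surj N hNn η η' hηirr hne
  -- `β` is linear
  have hη1 : (η : F → ℂ) 1 ≠ 0 := Cfsg.Agent.Helper79.irr_one_ne_zero η
  have hdeg : (η' : F → ℂ) 1 = (η : F → ℂ) 1 := by
    rw [hη' 1 (by simp [K.one_mem]), hη 1 (by simp [K.one_mem])]
  have hβ1 : (β : F → ℂ) 1 = 1 := by
    have h3 := congrFun hβ 1
    rw [Pi.mul_apply, hdeg] at h3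
    have h4 : (1 : ℂ) * (η : F → ℂ) 1 = (β : F → ℂ) 1 * (η : F → ℂ) 1 := by rw [one_mul]; exact h3
    exact (mul_right_cancel₀ hη1 h4).symm
  -- the `g`-conjugate of `β`
  let βg : IrrCharacter F := ⟨conjFun F hF (β : F → ℂ) g, conjFun_isIrrCharacter F hF β.2 g⟩
  have hβgv : ∀ x : F, (βg : F → ℂ) x = (β : F → ℂ) ⟨g * x * g⁻¹, hF.conj_mem x x.2 g⟩ :=
    fun x => rfl
  have hβgN : N ≤ Cfsg.Agent.Helper79.irrKer βg := by
    intro x hx
    rw [Cfsg.Agent.Helper79.mem_irrKer, hβgv, hβgv]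
    have hx' : (⟨g * x * g⁻¹, hF.conj_mem x x.2 g⟩ : F) ∈ N := by
      rw [hmemN]
      exact Subgroup.Normal.conj_mem inferInstance _ ((hmemN x).mp hx) g
    have h3 := (Cfsg.Agent.Helper79.mem_irrKer β _).mp (hβN hx')
    rw [h3]
    exact congrArg (β : F → ℂ) (Subtype.ext (by simp))
  have hmul : (βg : F → ℂ) * (η : F → ℂ) = (β : F → ℂ) * (η : F → ℂ) := by
    rw [← hβ]
    funext x
    rw [Pi.mul_apply, hβgv]
    have h3 := congrFun h2 x
    rw [conjFun_apply] at h3
    have h4 := congrFun h1 x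
    rw [conjFun_apply] at h4
    rw [← h3, ← h4, hβ, Pi.mul_apply]
  have hβg : βg = β := Cfsg.Agent.Helper79.Cop.gallagher_inj N hNn η βg β hηirr hβgN hβN hmul
  -- the fixed-point-free argument
  let c : F ≃* F := MulAut.conjNormal g
  have hcv : ∀ x : F, ((c x : F) : G) = g * x * g⁻¹ := fun x => MulAut.conjNormal_apply g x
  have hceq : ∀ x : F, c x = ⟨g * x * g⁻¹, hF.conj_mem x x.2 g⟩ := fun x => Subtype.ext (hcv x)
  let μ : F →* ℂˣ := Cfsg.Agent.Helper74.Lin.toHom β hβ1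
  have hμv : ∀ x : F, ((μ x : ℂˣ) : ℂ) = (β : F → ℂ) x := fun x => rfl
  have hμ1 : ∀ x : F, μ x = 1 := by
    apply h54_fpf_hom_trivial N c
    · intro x hx
      rw [hmemN, hcv]
      exact Subgroup.Normal.conj_mem inferInstance _ ((hmemN x).mp hx) g
    · intro x hx
      rw [hmemN] at hx ⊢
      have e1 : (((c x)⁻¹ * x : F) : G) = (g * x * g⁻¹)⁻¹ * (x : G) := by
        push_cast
        rw [hcv]
      rw [e1] at hx
      apply hfpf g hg x x.2
      have h3 := K.inv_mem hx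
      have h4 := Subgroup.Normal.conj_mem inferInstance _ h3 (x : G)
      have e2 : (x : G) * ((g * x * g⁻¹)⁻¹ * (x : G))⁻¹ * (x : G)⁻¹ = g * x * g⁻¹ * (x : G)⁻¹ := by
        group
      rw [e2] at h4
      exact h4
    · intro x hx
      apply Units.ext
      rw [hμv, Units.val_one, (Cfsg.Agent.Helper79.mem_irrKer β x).mp (hβN hx), hβ1]
    · intro x
      apply Units.ext
      rw [hμv, hμv, hceq, ← hβgv, hβg]
  apply Subtype.ext
  funext x
  have h3 := congrFun hβ x
  rw [Pi.mul_apply, ← hμv, hμ1 x, Units.val_one, one_mul] at h3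
  exact h3.symm

end Cfsg.Agent.Helper54.CD3A
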