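import Mathlib
import Cfsg.Prelude.Def_Characters
import Cfsg.Agent.Lib.Helper54.CHMDefs
import Cfsg.Agent.Lib.Helper78.CharSchur
import Cfsg.Agent.Lib.Helper80.CharBasic
import Cfsg.Agent.Lib.Helper74.LinChar

set_option autoImplicit false

namespace Cfsg.Agent.Helper54.CHMFallback

open Cfsg Cfsg.Agent.Helper54.CHM
open scoped ComplexConjugate commutatorElement

variable {G : Type*} [Group G] [Finite G]

theorem nonlinear_mul_eq_zero (hM : Mult G) (χ : IrrCharacter G) (hχ : (χ : G → ℂ) 1 ≠ 1)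
    (x y : G) (hxy : PPair x y) : (χ : G → ℂ) x * (χ : G → ℂ) y = 0 := by
  classical
  have : Fintype G := Fintype.ofFinite G
  have h1 := Cfsg.Agent.Helper78.sum_irr_conj_mul χ.2 x y
  have h2 : ∀ a : G, (χ : G → ℂ) (a * x * a⁻¹ * y) = (χ : G → ℂ) x * (χ : G → ℂ) y := by
    intro a
    rw [hM _ _ χ (hxy.conj_left a), Cfsg.Agent.Helper80.irr_conj_class]
  simp only [h2] at h1
  rw [Finset.sum_const, Finset.card_univ, nsmul_eq_mul, ← Nat.card_eq_fintype_card] at h1
  have hG : (Nat.card G : ℂ) ≠ 0 := by exact_mod_cast Nat.card_pos.ne'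
  have h10 : (χ : G → ℂ) 1 ≠ 0 := Cfsg.Agent.Helper78.irr_apply_one_ne_zero χ.2
  have h3 : ∀ z : ℂ, (Nat.card G : ℂ) * z = (Nat.card G : ℂ) * z / (χ : G → ℂ) 1 → z = 0 := by
    intro z hz
    field_simp at hz
    have h4 : z * ((χ : G → ℂ) 1 - 1) = 0 := by linear_combination hz
    rcases mul_eq_zero.1 h4 with h5 | h5
    · exact h5
    · exact absurd (sub_eq_zero.1 h5) hχ
  apply h3
  exact h1.trans (by rw [mul_assoc])

theorem conjK_of_mult (hM : Mult G)
    (h0 : ∀ χ : IrrCharacter G, (χ : G → ℂ) 1 ≠ 1 → ∀ x y : G, PPair x y →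
      (χ : G → ℂ) x * (χ : G → ℂ) y = 0) : ConjK G := by
  classical
  have : Fintype G := Fintype.ofFinite G
  intro x y hxy c hc
  by_contra hnc
  have h1 := Cfsg.Agent.Helper78.sum_irr_mul_conj (x * y) (x * y * c)
  rw [if_neg hnc] at h1
  have hterm : ∀ χ : IrrCharacter G, (χ : G → ℂ) (x * y) * conj ((χ : G → ℂ) (x * y * c)) =
      if (χ : G → ℂ) 1 = 1 then 1 else 0 := by
    intro χ
    by_cases hl : (χ : G → ℂ) 1 = 1
    · rw [if_pos hl]
      have hc' : Cfsg.Agent.Helper74.Lin.toHom χ hl c = 1 := by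
        have := Abelianization.commutator_subset_ker (Cfsg.Agent.Helper74.Lin.toHom χ hl) hc
        exact this
      have e1 : ∀ g : G, (χ : G → ℂ) g = ((Cfsg.Agent.Helper74.Lin.toHom χ hl g : ℂˣ) : ℂ) := by
        intro g; simp
      have e2 : (χ : G → ℂ) (x * y * c) = (χ : G → ℂ) (x * y) := by
        rw [e1, e1, map_mul, hc', mul_one]
      rw [e2, ← Cfsg.Agent.Helper78.IsIrrCharacter.inv χ.2, e1 (x * y), e1 ((x * y)⁻¹), map_inv,
        ← Units.val_mul, mul_inv_cancel, Units.val_one]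
    · rw [if_neg hl, hM x y χ hxy, h0 χ hl x y hxy, zero_mul]
  simp only [hterm] at h1
  have h2 : (∑ χ : IrrCharacter G, if (χ : G → ℂ) 1 = 1 then (1 : ℂ) else 0) =
      ((Finset.univ.filter (fun χ : IrrCharacter G => (χ : G → ℂ) 1 = 1)).card : ℂ) := by
    rw [Finset.sum_ite, Finset.sum_const_zero, add_zero, Finset.sum_const, nsmul_eq_mul, mul_one]
  rw [h2] at h1
  have h3 : (Finset.univ.filter (fun χ : IrrCharacter G => (χ : G → ℂ) 1 = 1)).card ≠ 0 := by
    rw [Finset.card_ne_zero]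
    exact ⟨Cfsg.Agent.Helper74.Lin.ofHom 1, by simp⟩
  exact h3 (by exact_mod_cast h1)

end Cfsg.Agent.Helper54.CHMFallback
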