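import Mathlib
import Cfsg.Prelude.Def_Characters
import Cfsg.Agent.Lib.Helper54.CHMDefs
import Cfsg.Agent.Lib.Helper78.CharSchur
import Cfsg.Agent.Lib.Helper74.LinChar
import Cfsg.Agent.Lib.Helper52.Coprime
import Cfsg.Agent.Lib.Helper79.LinearDeg
import Cfsg.Agent.Lib.Helper54.CHMCH01
import Cfsg.Agent.Lib.Helper12.CHMCH2
import Cfsg.Agent.Lib.Helper12.CHMRV2
import Cfsg.Agent.Lib.Helper52.CHMGT2
import Cfsg.Agent.Lib.Helper52.CHMGT3
import Cfsg.Agent.Lib.Helper30.CHMGT4a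
import Cfsg.Agent.Lib.Helper30.CHMGT4b
import Cfsg.Agent.Lib.Helper11.CHMGT1
import Cfsg.Agent.Lib.Helper11.CHMRV1
import Cfsg.Agent.Lib.Helper11.CHMRV3

/-!
# S4756: assembly of the CHM pieces (helper54)

Pieces: (CH0),(CH1) helper54 (CHMCH01; helper78 had claimed them but was busy elsewhere); (CH2),(RV2) helper12; (GT2),(GT3) helper52; (GT4a),(GT4b) helper30;
(GT1),(RV1),(RV3) helper11.
-/

set_option autoImplicit false

namespace Cfsg.Agent.Helper54.CHM

open Cfsg
open scoped ComplexConjugate commutatorElement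

variable {G : Type*} [Group G] [Finite G]

omit [Finite G] in
theorem prime_eq_of_orderOf {x : G} (hx : x ≠ 1) {p p1 a k : ℕ} (hp : p.Prime) (hp1 : p1.Prime)
    (h1 : orderOf x = p1 ^ a) (h2 : orderOf x ∣ p ^ k) : p1 = p := by
  have ha : a ≠ 0 := by
    rintro rfl
    rw [pow_zero, orderOf_eq_one_iff] at h1
    exact hx h1
  have h3 : p1 ∣ orderOf x := by rw [h1]; exact dvd_pow_self p1 ha
  have h4 : p1 ∣ p := hp1.dvd_of_dvd_pow (h3.trans h2)
  exact (Nat.prime_dvd_prime_iff_eq hp1 hp).1 h4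

theorem struct_of_mult (hM : Mult G) (h1 : ¬ ∃ p : ℕ, p.Prime ∧ IsPGroup p G)
    (h2 : ¬ IsMulCommutative G) : Struct G := by
  have hK : ConjK G := Cfsg.Agent.Helper54.CHMFallback.conjK_of_mult hM
    (Cfsg.Agent.Helper54.CHMFallback.nonlinear_mul_eq_zero hM)
  have hne : commutator G ≠ ⊥ := by
    intro h
    apply h2
    refine ⟨⟨fun a b => ?_⟩⟩
    have : ⁅a, b⁆ ∈ commutator G :=
      Subgroup.commutator_mem_commutator (Subgroup.mem_top a) (Subgroup.mem_top b)
    rw [h, Subgroup.mem_bot, commutatorElement_eq_one_iff_mul_comm] at this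
    exact this
  obtain ⟨p, hp, hN⟩ := Cfsg.Agent.Helper11.CHM.commutator_isPGroup hK hne
  have hpF : Fact p.Prime := ⟨hp⟩
  have hnp : ¬ IsPGroup p G := fun h => h1 ⟨p, hp, h⟩
  obtain ⟨P, A, hPn, hNP, hA1, hcop, htop, hinf, hAc⟩ :=
    Cfsg.Agent.Helper30.CHM.exists_complement hN hnp
  have hfpf : ∀ a ∈ A, a ≠ 1 → ∀ d ∈ commutator G, a * d = d * a → d = 1 := by
    intro a ha ha1 d hd hc
    refine Cfsg.Agent.Helper52.CHM.fpf_of_conjK hK hp hN a ha1 ?_ d hd hc
    have : orderOf a ∣ Nat.card A := by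
      have := orderOf_dvd_natCard (⟨a, ha⟩ : A)
      rwa [Subgroup.orderOf_mk] at this
    exact Nat.Coprime.coprime_dvd_left this hcop
  have hcyc : IsCyclic A :=
    Cfsg.Agent.Helper52.CHM.cyclic_of_fpf hp (commutator G) A hN hne hAc hcop hfpf
  have hD : ⁅A, (P : Subgroup G)⁆ = commutator G :=
    Cfsg.Agent.Helper30.CHM.commutator_eq P A hNP hA1 hfpf
  obtain ⟨a0, ha0⟩ := (Subgroup.ne_bot_iff_exists_ne_one).1 hA1
  have ha0A : (a0 : G) ∈ A := a0.2
  have ha0ne : (a0 : G) ≠ 1 := fun h => ha0 (Subtype.ext h)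
  have hCN : ∀ x : G, x ∈ Subgroup.centralizer (A : Set G) → x ∈ commutator G → x = 1 := by
    intro x hxC hxN
    have := (Subgroup.mem_centralizer_iff.1 hxC) a0 ha0A
    exact hfpf a0 ha0A ha0ne x hxN this
  refine ⟨p, hpF, P, A, hPn, hcyc, hA1, hcop, htop, ?_, ?_, ?_, ?_, ?_⟩
  · refine ⟨⟨fun x y => ?_⟩⟩
    have hc : ⁅(x : G), (y : G)⁆ = 1 := by
      apply hCN
      · rw [commutatorElement_def]
        exact Subgroup.mul_mem _ (Subgroup.mul_mem _ (Subgroup.mul_mem _ x.2.2 y.2.2)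
          (Subgroup.inv_mem _ x.2.2)) (Subgroup.inv_mem _ y.2.2)
      · exact Subgroup.commutator_mem_commutator (Subgroup.mem_top _) (Subgroup.mem_top _)
    rw [commutatorElement_eq_one_iff_mul_comm] at hc
    exact Subtype.ext hc
  · rw [hD]; infer_instance
  · have hAP : A ≤ Subgroup.normalizer ((P : Subgroup G) : Set G) := by
      rw [Subgroup.normalizer_eq_top]; exact le_top
    have hcop' : (Nat.card A).Coprime (Nat.card (P : Subgroup G)) := by
      obtain ⟨n, hn⟩ := IsPGroup.iff_card.1 P.2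
      rw [hn]
      exact Nat.Coprime.pow_right n hcop
    have hsolv : Group.IsSolvable A :=
      Group.isSolvable_of_comm (fun a b => Subtype.ext (hAc a a.2 b b.2))
    have := Cfsg.Agent.Helper52.eq_commutator_sup_centralizer (P : Subgroup G) A hAP hcop'
      (Or.inl hsolv)
    rw [Subgroup.commutator_comm A (P : Subgroup G), sup_comm]
    exact this.symm
  · rw [eq_bot_iff]
    intro x hx
    rw [Subgroup.mem_bot]
    apply hCN x hx.1.2
    rw [← hD]; exact hx.2
  · rw [hD]; exact hfpf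

theorem mult_of_struct (hS : Struct G) : Mult G := by
  obtain ⟨p, hpF, P, A, hPn, hcyc, hA1, hcop, htop, hCc, hDn, hsup, hinf, hfpf⟩ := hS
  have hD : commutator G ≤ ⁅A, (P : Subgroup G)⁆ :=
    Cfsg.Agent.Helper11.CHM.commutator_le_of_struct P A hcyc htop hCc hDn hsup
  have hvan : ∀ h : G, h ∉ (P : Subgroup G) → ∀ χ : IrrCharacter G, (χ : G → ℂ) 1 ≠ 1 →
      (χ : G → ℂ) h = 0 := by
    intro h hh χ hχ
    exact Cfsg.Agent.Helper12.CHM.vanish_of_conj_coset ⁅A, (P : Subgroup G)⁆ hD h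
      (fun d hd => Cfsg.Agent.Helper12.CHM.conj_coset_of_struct P A hPn hcop htop hDn hsup hfpf
        h hh d hd) χ hχ
  intro x y χ hxy
  by_cases hχ : (χ : G → ℂ) 1 = 1
  · exact Cfsg.Agent.Helper15.linear_char_mul _
      ⟨Cfsg.Agent.Helper80.isCharacter_of_irr χ.2, hχ⟩ x y
  · obtain ⟨hor, hprod⟩ := Cfsg.Agent.Helper11.CHM.ppair_not_mem P hPn hxy
    rw [hvan (x * y) hprod χ hχ]
    rcases hor with hx | hy
    · rw [hvan x hx χ hχ, zero_mul]
    · rw [hvan y hy χ hχ, mul_zero]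

theorem linear_of_comm (hc : ∀ a b : G, a * b = b * a) (χ : IrrCharacter G) :
    (χ : G → ℂ) 1 = 1 := by
  have h1 : commutator G = ⊥ := by
    rw [eq_bot_iff, commutator_def, Subgroup.commutator_le]
    intro a _ b _
    rw [Subgroup.mem_bot, commutatorElement_eq_one_iff_mul_comm]
    exact hc a b
  have h2 := (Cfsg.Agent.Helper79.degree_one_iff χ).2 (by rw [h1]; exact bot_le)
  rw [(Cfsg.Agent.Helper79.irr_one_eq χ).1, h2]
  simp

theorem mult_iff_struct : Mult G ↔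
    ((∃ p : ℕ, p.Prime ∧ IsPGroup p G) ∨ IsMulCommutative G ∨ Struct G) := by
  constructor
  · intro hM
    by_cases h1 : ∃ p : ℕ, p.Prime ∧ IsPGroup p G
    · exact Or.inl h1
    by_cases h2 : IsMulCommutative G
    · exact Or.inr (Or.inl h2)
    exact Or.inr (Or.inr (struct_of_mult hM h1 h2))
  · rintro (⟨p, hp, hG⟩ | hc | hS)
    · intro x y χ hxy
      exfalso
      obtain ⟨hx, hy, p1, q1, a, b, hp1, hq1, hne, hxa, hyb⟩ := hxy
      obtain ⟨k, hk⟩ := hG x
      obtain ⟨l, hl⟩ := hG y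
      have e1 := prime_eq_of_orderOf hx hp hp1 hxa (orderOf_dvd_of_pow_eq_one hk)
      have e2 := prime_eq_of_orderOf hy hp hq1 hyb (orderOf_dvd_of_pow_eq_one hl)
      exact hne (e1.trans e2.symm)
    · intro x y χ _
      have hχ := linear_of_comm (fun a b => hc.is_comm.comm a b) χ
      exact Cfsg.Agent.Helper15.linear_char_mul _
        ⟨Cfsg.Agent.Helper80.isCharacter_of_irr χ.2, hχ⟩ x y
    · exact mult_of_struct hS

end Cfsg.Agent.Helper54.CHM
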