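import Mathlib
import Cfsg.Prelude.Def_Local
import Cfsg.Agent.Lib.Helper54.CharPLocal
import Cfsg.Agent.Lib.Helper30.CharP
import Cfsg.Agent.Lib.Helper24.FStar

/-!
# `C_Y(O_p(Y)) ≤ O_p(Y)` versus `F*(Y) = O_p(Y)`

`isCharP_iff_generalizedFittingSubgroup_eq` : for a finite group `Y`, `C_Y(O_p(Y)) ≤ O_p(Y)` iff
`F*(Y) = O_p(Y)`.  (Uses helper30's and helper24's `F*` libraries.)
-/

set_option autoImplicit false

namespace Cfsg.Agent.Helper54

open Cfsg

theorem isCharP_iff_generalizedFittingSubgroup_eq {Y : Type*} [Group Y] [Finite Y] {p : ℕ} [hp : Fact p.Prime] :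
    IsCharP p Y ↔ generalizedFittingSubgroup Y = pCore p Y := by
  constructor
  · intro h
    apply Cfsg.Agent.Helper30.generalizedFittingSubgroup_eq_pCore_of p h.pPrimeCore_eq_bot
    apply Cfsg.Agent.Helper24.layer_eq_bot_of_centralizer_fitting_le
    have h1 : pCore p Y ≤ fittingSubgroup Y := Cfsg.Agent.Helper70.pCore_le_fittingSubgroup
    exact (Subgroup.centralizer_le (by exact_mod_cast h1)).trans (h.trans h1)
  · intro h
    exact Cfsg.Agent.Helper30.IsCharP.centralizer_le h

end Cfsg.Agent.Helper54
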