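import Mathlib
import Cfsg.Agent.Lib.Helper54.PConstrainedLocal
import Cfsg.Agent.Lib.Helper31.Cores

/-!
# Odd-order subgroups normalized by a Sylow 2-subgroup, in groups whose involution centralizers have characteristic 2

* `isCharP_of_isPConstrained_of_core` : `p`-constrained with trivial `p'`-core gives characteristic `p`.
* `inf_centralizer_eq_bot_of_relIndex_le_two` : `S` a Sylow 2-subgroup normalizing the odd-order subgroup `X`,
  `t ∈ S` with `|S : C_S(t)| ≤ 2` and `C_G(t)` of characteristic 2.  Then `C_X(t) = 1`.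
-/

set_option autoImplicit false

namespace Cfsg.Agent.Helper54

open Subgroup Cfsg

theorem isCharP_of_isPConstrained_of_core {X : Type*} [Group X] [Finite X] {p : ℕ} [Fact p.Prime]
    (h : Cfsg.IsPConstrained p X) (hc : Cfsg.pPrimeCore p X = ⊥) : IsCharP p X := by
  have h1 := isPConstrained_iff_isCharP_quotient.mp h
  exact h1.of_mulEquiv ((QuotientGroup.quotientMulEquivOfEq hc).trans QuotientGroup.quotientBot)

section

variable {G : Type*} [Group G]

/-- elementwise criterion for relative index at most two -/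
theorem relIndex_le_two_of_forall [Finite G] (H K : Subgroup G)
    (h : ∀ a ∈ K, ∀ b ∈ K, a ∉ H → b ∉ H → a⁻¹ * b ∈ H) : H.relIndex K ≤ 2 := by
  classical
  by_cases hKH : K ≤ H
  · rw [relIndex_eq_one.mpr hKH]; norm_num
  · obtain ⟨a, haK, haH⟩ := Set.not_subset.mp hKH
    rw [relIndex, index_eq_card]
    let f : Bool → ↥K ⧸ H.subgroupOf K := fun c =>
      if c then ((⟨a, haK⟩ : K) : ↥K ⧸ H.subgroupOf K) else ((1 : K) : ↥K ⧸ H.subgroupOf K)
    have hf : Function.Surjective f := by
      intro q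
      induction q using QuotientGroup.induction_on with
      | H b =>
        by_cases hb : (b : G) ∈ H
        · refine ⟨false, ?_⟩
          show ((1 : K) : ↥K ⧸ H.subgroupOf K) = _
          rw [QuotientGroup.eq, mem_subgroupOf]
          simp only [inv_one, one_mul]
          exact hb
        · refine ⟨true, ?_⟩
          show ((⟨a, haK⟩ : K) : ↥K ⧸ H.subgroupOf K) = _
          rw [QuotientGroup.eq, mem_subgroupOf]
          simp only [Subgroup.coe_mul, Subgroup.coe_inv]
          exact h a haK b b.2 haH hb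
    have := Nat.card_le_card_of_surjective f hf
    simpa using this

/-- `C_G(t)` has characteristic `p` when it lies in a subgroup `M` of characteristic `p` (`t` a `p`-element). -/
theorem isCharP_centralizer_singleton_of_le [Finite G] {p : ℕ} [Fact p.Prime] (M : Subgroup G)
    (hM : IsCharP p ↥M) (t : G) (ht : IsPGroup p (zpowers t))
    (hCM : centralizer ({t} : Set G) ≤ M) : IsCharP p ↥(centralizer ({t} : Set G)) := by
  set C := centralizer ({t} : Set G) with hCdef
  have htC : t ∈ C := by rw [hCdef, mem_centralizer_singleton_iff]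
  have htM : t ∈ M := hCM htC
  set T' : Subgroup M := (zpowers t).subgroupOf M with hT'
  have hT'p : IsPGroup p T' := ht.comap_subtype
  have h := isCharP_centralizer hM T' hT'p
  have hpow : ∀ x ∈ C, ∀ y ∈ zpowers t, x * y = y * x := by
    intro x hx y hy
    obtain ⟨k, rfl⟩ := mem_zpowers_iff.mp hy
    have h1 : Commute t x := by
      have := mem_centralizer_singleton_iff.mp hx
      exact this.symm
    exact ((h1.zpow_left k).eq).symm
  have heq : centralizer (T' : Set M) = C.subgroupOf M := by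
    ext x
    rw [mem_subgroupOf, mem_centralizer_iff]
    constructor
    · intro hx
      have h1 := hx ⟨t, htM⟩ (by
        show (⟨t, htM⟩ : M) ∈ T'
        rw [hT', mem_subgroupOf]; exact mem_zpowers t)
      have h2 := congrArg Subtype.val h1
      simp only [Subgroup.coe_mul] at h2
      rw [hCdef, mem_centralizer_singleton_iff]
      exact h2.symm
    · intro hx y hy
      have hy' : (y : G) ∈ zpowers t := by
        have : y ∈ T' := hy
        rwa [hT', mem_subgroupOf] at this
      apply Subtype.ext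
      simp only [Subgroup.coe_mul]
      exact (hpow _ hx _ hy').symm
  have e1 : ↥(centralizer (T' : Set M)) ≃* ↥(C.subgroupOf M) := MulEquiv.subgroupCongr heq
  have e2 : ↥(C.subgroupOf M) ≃* ↥C := subgroupOfEquivOfLe hCM
  exact h.of_mulEquiv (e1.trans e2)

/-- `S` a Sylow 2-subgroup normalizing the odd-order subgroup `X`, `t ∈ S` with `|S : C_S(t)| ≤ 2` and `C_G(t)` of
characteristic 2: then `C_X(t) = 1`. -/
theorem inf_centralizer_eq_bot_of_relIndex_le_two [Finite G] (S : Sylow 2 G) (X : Subgroup G)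
    (hX : (Nat.card X).Coprime 2) (hSX : (S : Subgroup G) ≤ normalizer (X : Set G)) (t : G)
    (hchar : IsCharP 2 ↥(centralizer ({t} : Set G)))
    (hidx : ((S : Subgroup G) ⊓ centralizer ({t} : Set G)).relIndex (S : Subgroup G) ≤ 2) :
    X ⊓ centralizer ({t} : Set G) = ⊥ := by
  classical
  set H := centralizer ({t} : Set G) with hH
  set R : Subgroup G := (pCore 2 ↥H).map H.subtype with hR
  have hRH : R ≤ H := map_subtype_le _
  have hRp : IsPGroup 2 R := (isPGroup_pCore (p := 2) (G := ↥H)).map _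
  have hHR : H ≤ normalizer (R : Set G) := by
    intro h hh
    rw [mem_normalizer_iff]
    have hn : (pCore 2 ↥H).Normal := pCore_normal' 2
    have key : ∀ g : G, g ∈ H → ∀ u ∈ R, g * u * g⁻¹ ∈ R := by
      intro g hg u hu
      obtain ⟨k, hk, rfl⟩ := mem_map.mp hu
      refine mem_map.mpr ⟨⟨g, hg⟩ * k * ⟨g, hg⟩⁻¹, hn.conj_mem k hk _, ?_⟩
      simp
    intro u
    refine ⟨key h hh u, fun hu => ?_⟩
    have := key h⁻¹ (H.inv_mem hh) _ hu
    simpa [mul_assoc] using this
  set S₀ := (S : Subgroup G) ⊓ H with hS₀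
  set Xt := X ⊓ H with hXt
  have hXtc : (Nat.card Xt).Coprime 2 :=
    Nat.Coprime.coprime_dvd_left (card_dvd_of_le inf_le_left) hX
  -- `S₀` normalizes `Xt`
  have hS₀Xt : S₀ ≤ normalizer (Xt : Set G) := by
    intro s hs
    have h1 := hSX hs.1
    have h2 : s ∈ normalizer (H : Set G) := le_normalizer hs.2
    rw [mem_normalizer_iff] at h1 h2 ⊢
    intro y
    rw [hXt, mem_inf, mem_inf, ← h1 y, ← h2 y]
  set R₀ := R ⊓ S₀ with hR₀
  -- `Xt` centralizes `R₀`
  have hXtR₀ : ∀ x ∈ Xt, ∀ r ∈ R₀, x * r = r * x := by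
    intro x hx r hr
    have hdisj : Xt ⊓ R = ⊥ := inf_eq_bot_of_isPGroup_of_coprime Xt R hXtc hRp
    have h1 : r * x * r⁻¹ * x⁻¹ ∈ Xt ⊓ R := by
      rw [mem_inf]
      refine ⟨?_, ?_⟩
      · have : r * x * r⁻¹ ∈ Xt := (mem_normalizer_iff.mp (hS₀Xt hr.2) x).mp hx
        exact Xt.mul_mem this (Xt.inv_mem hx)
      · have h2 : x * r⁻¹ * x⁻¹ ∈ R :=
          (mem_normalizer_iff.mp (hHR hx.2) r⁻¹).mp (R.inv_mem hr.1)
        have : r * x * r⁻¹ * x⁻¹ = r * (x * r⁻¹ * x⁻¹) := by group
        rw [this]; exact R.mul_mem hr.1 h2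
    rw [hdisj, mem_bot] at h1
    calc x * r = (r * x * r⁻¹ * x⁻¹)⁻¹ * (r * x) := by group
      _ = r * x := by rw [h1]; simp
  -- the index of `R₀` in `R` is at most two
  have hS₀R : S₀ ≤ normalizer (R : Set G) := inf_le_right.trans hHR
  have hk2 : R₀.relIndex R ≤ 2 := by
    have hP : IsPGroup 2 (S₀ ⊔ R : Subgroup G) :=
      IsPGroup.to_sup_of_normal_right' (S.2.to_le inf_le_left) hRp hS₀R
    obtain ⟨S', hS'⟩ := hP.exists_le_sylow
    have hle : Nat.card (S₀ ⊔ R : Subgroup G) ≤ Nat.card (S : Subgroup G) := by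
      rw [S.card_eq_multiplicity, ← S'.card_eq_multiplicity]
      exact Subgroup.card_le_of_le hS'
    have e1 : Nat.card (S₀ ⊔ R : Subgroup G) = Nat.card R * R.relIndex S₀ := by
      rw [← Cfsg.Agent.Helper31.relIndex_sup_of_le_normalizer S₀ R hS₀R,
        ← relIndex_bot_left, ← relIndex_bot_left]
      exact (relIndex_mul_relIndex ⊥ R (S₀ ⊔ R) bot_le le_sup_right).symm
    have e2 : Nat.card S₀ = Nat.card R₀ * R.relIndex S₀ := by
      rw [← inf_relIndex_right R S₀, ← relIndex_bot_left, ← relIndex_bot_left]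
      exact (relIndex_mul_relIndex ⊥ (R ⊓ S₀) S₀ bot_le inf_le_right).symm
    have e3 : Nat.card R = Nat.card R₀ * R₀.relIndex R := by
      rw [← relIndex_bot_left, ← relIndex_bot_left]
      exact (relIndex_mul_relIndex ⊥ R₀ R bot_le inf_le_left).symm
    have e4 : Nat.card (S : Subgroup G) = Nat.card S₀ * S₀.relIndex (S : Subgroup G) := by
      rw [← relIndex_bot_left, ← relIndex_bot_left]
      exact (relIndex_mul_relIndex ⊥ S₀ (S : Subgroup G) bot_le inf_le_left).symm
    have hc : 0 < Nat.card R₀ := Nat.card_pos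
    have hm : 0 < R.relIndex S₀ := by
      rcases Nat.eq_zero_or_pos (R.relIndex S₀) with h | h
      · rw [h, mul_zero] at e2
        have : 0 < Nat.card S₀ := Nat.card_pos
        omega
      · exact h
    rw [e1, e3, e4, e2] at hle
    -- c * k * m ≤ c * m * j
    have h5 : Nat.card R₀ * R.relIndex S₀ * R₀.relIndex R ≤
        Nat.card R₀ * R.relIndex S₀ * S₀.relIndex (S : Subgroup G) := by
      calc Nat.card R₀ * R.relIndex S₀ * R₀.relIndex R
          = Nat.card R₀ * R₀.relIndex R * R.relIndex S₀ := by ring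
        _ ≤ _ := hle
    have h6 := Nat.le_of_mul_le_mul_left h5 (Nat.mul_pos hc hm)
    exact h6.trans hidx
  -- `[R, Xt] ≤ R₀`
  have hcomm : ∀ r ∈ R, ∀ x ∈ Xt, r * x * r⁻¹ * x⁻¹ ∈ R₀ := by
    intro r hr x hx
    have hxr : x * r⁻¹ * x⁻¹ ∈ R :=
      (mem_normalizer_iff.mp (hHR hx.2) r⁻¹).mp (R.inv_mem hr)
    by_cases hr0 : r ∈ R₀
    · have := hXtR₀ x hx r hr0
      have e : r * x * r⁻¹ * x⁻¹ = 1 := by
        calc r * x * r⁻¹ * x⁻¹ = (r * x) * r⁻¹ * x⁻¹ := by group
          _ = (x * r) * r⁻¹ * x⁻¹ := by rw [this]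
          _ = 1 := by group
      rw [e]; exact one_mem _
    · -- index exactly two
      have hne1 : R₀.relIndex R ≠ 1 := by
        intro h
        exact hr0 ((relIndex_eq_one.mp h) hr)
      have hpos : R₀.relIndex R ≠ 0 := by
        intro h
        have e3 : Nat.card R = Nat.card R₀ * R₀.relIndex R := by
          rw [← relIndex_bot_left, ← relIndex_bot_left]
          exact (relIndex_mul_relIndex ⊥ R₀ R bot_le inf_le_left).symm
        rw [h, mul_zero] at e3
        have : 0 < Nat.card R := Nat.card_pos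
        omega
      have h2 : (R₀.subgroupOf R).index = 2 := by
        have : R₀.relIndex R = 2 := by omega
        exact this
      have hx' : x * r⁻¹ * x⁻¹ ∉ R₀ := by
        intro h
        apply hr0
        have h3 := hXtR₀ x hx _ h
        -- x * (x r⁻¹ x⁻¹) = (x r⁻¹ x⁻¹) * x  ⟹  x r⁻¹ x⁻¹ = r⁻¹
        have h4 : x * r⁻¹ * x⁻¹ = r⁻¹ := by
          have : x * (x * r⁻¹ * x⁻¹) = x * r⁻¹ := by rw [h3]; group
          exact mul_left_cancel this
        rw [h4] at h
        have := R₀.inv_mem h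
        simpa using this
      have key := Subgroup.mul_mem_iff_of_index_two h2 (a := (⟨r, hr⟩ : R))
        (b := (⟨x * r⁻¹ * x⁻¹, hxr⟩ : R))
      have h5 : (⟨r, hr⟩ : R) * ⟨x * r⁻¹ * x⁻¹, hxr⟩ ∈ R₀.subgroupOf R := by
        rw [key]
        constructor
        · intro h; exact absurd (mem_subgroupOf.mp h) hr0
        · intro h; exact absurd (mem_subgroupOf.mp h) hx'
      have h6 := mem_subgroupOf.mp h5
      simp only [Subgroup.coe_mul] at h6
      have : r * x * r⁻¹ * x⁻¹ = r * (x * r⁻¹ * x⁻¹) := by group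
      rw [this]; exact h6
  -- `Xt` centralizes `R`
  have hXtN : Xt ≤ normalizer (R : Set G) := inf_le_right.trans hHR
  have h1 : ⁅R, Xt⁆ ≤ R₀ := by
    rw [commutator_le]
    intro r hr x hx
    rw [commutatorElement_def]
    exact hcomm r hr x hx
  have h2 : ⁅⁅R, Xt⁆, Xt⁆ = ⊥ := by
    rw [commutator_eq_bot_iff_le_centralizer]
    refine h1.trans ?_
    intro r hr
    rw [mem_centralizer_iff]
    intro x hx
    exact hXtR₀ x hx r hr
  have hcop : (Nat.card Xt).Coprime (Nat.card R) := by
    obtain ⟨m, hm⟩ := IsPGroup.iff_card.mp hRp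
    rw [hm]
    exact Nat.Coprime.pow_right m hXtc
  have hXtCR : Xt ≤ centralizer (R : Set G) := le_centralizer_of_coprime R Xt hXtN hcop h2
  -- hence `Xt ≤ R`, so `Xt = 1`
  have hXtR : Xt ≤ R := by
    intro x hx
    have hxH : x ∈ H := hx.2
    have h3 : (⟨x, hxH⟩ : H) ∈ centralizer ((pCore 2 ↥H : Subgroup H) : Set H) := by
      rw [mem_centralizer_iff]
      intro y hy
      apply Subtype.ext
      simp only [Subgroup.coe_mul]
      exact mem_centralizer_iff.mp (hXtCR hx) y.1 (mem_map_of_mem _ hy)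
    exact mem_map.mpr ⟨⟨x, hxH⟩, hchar h3, rfl⟩
  have hdisj : Xt ⊓ R = ⊥ := inf_eq_bot_of_isPGroup_of_coprime Xt R hXtc hRp
  rw [eq_bot_iff, ← hdisj]
  exact le_inf le_rfl hXtR

end

end Cfsg.Agent.Helper54
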