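import Mathlib
import Cfsg.Agent.S1978
import Cfsg.Agent.Lib.Helper54.KInfQuartic
import Cfsg.Agent.Lib.Helper33.SecTransferE

/-!
# The K-infinity subgroups as isomorphism-invariant `p`-group functors
-/

set_option autoImplicit false

namespace Cfsg.Agent.Helper54.KInf

open Subgroup Cfsg Cfsg.Agent.Helper33

universe u

theorem center_le_kInf {P : Type u} [Group P] [Finite P] {p : ℕ} [Fact p.Prime]
    (hP : IsPGroup p P) : center P ≤ kInfLower P ∧ center P ≤ kInfUpper P := by
  obtain ⟨h1, h2, h3, h4⟩ := Cfsg.Agent.S1978.result hP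
  exact ⟨h2.trans h1, h4.trans h3⟩

theorem isCharPFunctor_kInfLower (p : ℕ) [Fact p.Prime] : IsCharPFunctor.{u} p kInfLower := by
  constructor
  · intro Q _ _ hQ hnt h
    have h1 := (center_le_kInf hQ).1
    rw [h, le_bot_iff] at h1
    have := hQ.center_nontrivial
    exact (Subgroup.nontrivial_iff_ne_bot _).mp this h1
  · intro Q R _ _ _ _ φ
    refine (kInf_map_eq φ.toMonoidHom φ.injective ?_).1
    intro n
    rw [MonoidHom.range_eq_top.mpr φ.surjective]
    exact ⟨le_top, le_top⟩

theorem isCharPFunctor_kInfUpper (p : ℕ) [Fact p.Prime] : IsCharPFunctor.{u} p kInfUpper := by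
  constructor
  · intro Q _ _ hQ hnt h
    have h1 := (center_le_kInf hQ).2
    rw [h, le_bot_iff] at h1
    have := hQ.center_nontrivial
    exact (Subgroup.nontrivial_iff_ne_bot _).mp this h1
  · intro Q R _ _ _ _ φ
    refine (kInf_map_eq φ.toMonoidHom φ.injective ?_).2
    intro n
    rw [MonoidHom.range_eq_top.mpr φ.surjective]
    exact ⟨le_top, le_top⟩

theorem fct_of_controlsTransferIn {G : Type u} [Group G] {p : ℕ}
    {W : ∀ (Q : Type u) [Group Q], Subgroup Q}
    (h : ControlsTransferIn p (inducedFunctor (G := G) W) ⊤) :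
    FamilyControlsTransferIn p (indFam {W} G) ⊤ := by
  obtain ⟨T, hT1, hT2, hT3, heq⟩ := h
  refine ⟨T, hT1, hT2, hT3, ?_⟩
  rw [heq]
  unfold indFam
  rw [Set.image_singleton, iSup_singleton]

/-- the local hypothesis of S1972 for `W = K_∞` or `K^∞` -/
theorem local_engel {H : Type u} [Group H] [Finite H] {p : ℕ} [Fact p.Prime] (hp : 5 ≤ p)
    (T : Sylow p H)
    (hK : ¬ (inducedFunctor kInfLower (T : Subgroup H)).Normal ∨
      ¬ (inducedFunctor kInfUpper (T : Subgroup H)).Normal) :
    ∃ g : H, g ∈ (T : Subgroup H) ∧ g ∉ pCore p H ∧ ∀ U V : Subgroup H, IsChiefFactor U V →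
      U ≤ pCore p H → iterCommutator U (zpowers g) (p - 1) ≤ V := by
  obtain ⟨g, hgT, hgP, h4, _⟩ := exists_quartic T hK
  refine ⟨g, hgT, hgP, fun U V hUV hU => ?_⟩
  have hUn : U.Normal := hUV.2.1
  exact (Crit.iterC_antitone U (zpowers g) (by omega : 4 ≤ p - 1)).trans (h4 U V hUV hU)

end Cfsg.Agent.Helper54.KInf
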