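import Mathlib
import Cfsg.Prelude.Def_LocalEven
import Cfsg.Agent.S3836
import Cfsg.Agent.Lib.Helper33.SecFusionE

/-!
# Transport of `p`-stability (normalizer form) along injective homomorphisms and isomorphisms
-/

set_option autoImplicit false

namespace Cfsg.Agent.Helper54.PStabTransport

open Cfsg

universe u

/-- `p`-stability in the normalizer form passes to the source of an injective homomorphism. -/
theorem isNormalizerPStable_of_injective {H G : Type*} [Group H] [Group G] {p : ℕ} [Fact p.Prime]
    (f : H →* G) (hf : Function.Injective f) (hst : Cfsg.IsNormalizerPStable p G) :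
    Cfsg.IsNormalizerPStable p H := by
  intro P' hP' h hh hcomm
  set P : Subgroup G := P'.map f with hP
  have hPp : IsPGroup p P := hP'.map _
  have hmemP : ∀ x : H, f x ∈ P ↔ x ∈ P' := by
    intro x
    constructor
    · rintro ⟨y, hy, hyx⟩
      have : y = x := hf hyx
      rw [← this]; exact hy
    · intro hx; exact ⟨x, hx, rfl⟩
  have hnorm : ∀ x : H, x ∈ Subgroup.normalizer (P' : Set H) →
      f x ∈ Subgroup.normalizer (P : Set G) := by
    intro x hx
    rw [Subgroup.mem_normalizer_iff] at hx ⊢
    intro g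
    constructor
    · rintro ⟨y, hy, rfl⟩
      have := (hx y).mp hy
      exact ⟨x * y * x⁻¹, this, by simp⟩
    · rintro ⟨y, hy, hyg⟩
      have hg : g = f (x⁻¹ * y * x) := by
        have h' : f y = f x * g * (f x)⁻¹ := hyg
        simp only [map_mul, map_inv, h']
        group
      have h2 : x⁻¹ * y * x ∈ P' := by
        rw [hx (x⁻¹ * y * x)]
        have : x * (x⁻¹ * y * x) * x⁻¹ = y := by group
        rw [this]; exact hy
      rw [hg]
      exact ⟨_, h2, rfl⟩
  have hcent : ∀ x : H, x ∈ Subgroup.centralizer (P' : Set H) ↔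
      f x ∈ Subgroup.centralizer (P : Set G) := by
    intro x
    rw [Subgroup.mem_centralizer_iff, Subgroup.mem_centralizer_iff]
    constructor
    · rintro hx _ ⟨y, hy, rfl⟩
      have := hx y hy
      rw [← map_mul, ← map_mul, this]
    · intro hx y hy
      apply hf
      rw [map_mul, map_mul]
      exact hx (f y) ⟨y, hy, rfl⟩
  have hg : f h ∈ Subgroup.normalizer (P : Set G) := hnorm h hh
  have hcommG : ⁅⁅P, Subgroup.zpowers (f h)⁆, Subgroup.zpowers (f h)⁆ = ⊥ := by
    have h1 : Subgroup.zpowers (f h) = (Subgroup.zpowers h).map f := by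
      rw [MonoidHom.map_zpowers]
    rw [h1, hP, ← Subgroup.map_commutator, ← Subgroup.map_commutator, hcomm, Subgroup.map_bot]
  have key := hst P hPp (f h) hg hcommG
  let ψ : ↥(Subgroup.normalizer (P' : Set H)) →* ↥(Subgroup.normalizer (P : Set G)) :=
    { toFun := fun x => ⟨f (x : H), hnorm x x.2⟩
      map_one' := by ext; simp
      map_mul' := fun _ _ => by ext; simp }
  have hψ : (Subgroup.centralizer (P' : Set H)).subgroupOf (Subgroup.normalizer (P' : Set H)) =
      ((Subgroup.centralizer (P : Set G)).subgroupOf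
        (Subgroup.normalizer (P : Set G))).comap ψ := by
    ext x
    rw [Subgroup.mem_comap, Subgroup.mem_subgroupOf, Subgroup.mem_subgroupOf]
    exact hcent x
  let ψb := QuotientGroup.map
    ((Subgroup.centralizer (P' : Set H)).subgroupOf (Subgroup.normalizer (P' : Set H)))
    ((Subgroup.centralizer (P : Set G)).subgroupOf (Subgroup.normalizer (P : Set G))) ψ
    (le_of_eq hψ)
  have hψb_inj : Function.Injective ψb := by
    rw [← MonoidHom.ker_eq_bot_iff, QuotientGroup.ker_map, ← hψ]
    ext q
    constructor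
    · rintro ⟨x, hx, rfl⟩
      rw [Subgroup.mem_bot]
      exact (QuotientGroup.eq_one_iff x).mpr hx
    · intro hq
      rw [Subgroup.mem_bot] at hq
      rw [hq]; exact Subgroup.one_mem _
  have hK : (Cfsg.pCore p _).comap ψb ≤ Cfsg.pCore p _ := by
    apply le_sSup
    refine ⟨inferInstance, ?_⟩
    exact Cfsg.Agent.S3836.pCore_isPGroup.comap_of_injective ψb hψb_inj
  apply hK
  rw [Subgroup.mem_comap]
  exact key

/-- `p`-stability in the normalizer form is isomorphism invariant. -/
theorem isNormalizerPStable_of_mulEquiv {X Y : Type*} [Group X] [Group Y] {p : ℕ} [Fact p.Prime]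
    (e : X ≃* Y) (hst : Cfsg.IsNormalizerPStable p X) : Cfsg.IsNormalizerPStable p Y :=
  isNormalizerPStable_of_injective e.symm.toMonoidHom e.symm.injective hst

theorem isoInvFin_stable (p : ℕ) [Fact p.Prime] :
    Cfsg.Agent.Helper33.IsoInvFin.{u} (fun (Q : Type u) [Group Q] => Cfsg.IsNormalizerPStable p Q) := by
  intro Q R _ _ _ e h
  exact isNormalizerPStable_of_mulEquiv e h

/-- If all sections of `X` are `p`-stable then all quotients of all sections of `X` are. -/
theorem stable_quotient_of_section {X : Type u} [Group X] [Finite X] {p : ℕ} [Fact p.Prime]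
    (hst : ∀ (K R : Subgroup X) [(R.subgroupOf K).Normal],
      Cfsg.IsNormalizerPStable p (↥K ⧸ R.subgroupOf K))
    (K R : Subgroup X) [hR : (R.subgroupOf K).Normal]
    (N : Subgroup (↥K ⧸ R.subgroupOf K)) [hN : N.Normal] :
    Cfsg.IsNormalizerPStable p ((↥K ⧸ R.subgroupOf K) ⧸ N) := by
  have hiso := isoInvFin_stable.{u} p
  have h0 : Cfsg.Agent.Helper33.SecHave
      (fun (Q : Type u) [Group Q] => Cfsg.IsNormalizerPStable p Q) X := fun K R _ => hst K R
  have h1 : Cfsg.Agent.Helper33.SecHave
      (fun (Q : Type u) [Group Q] => Cfsg.IsNormalizerPStable p Q) (↥K ⧸ R.subgroupOf K) :=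
    (h0.subgroup hiso K).quotient hiso _
  have h2 : Cfsg.Agent.Helper33.SecHave
      (fun (Q : Type u) [Group Q] => Cfsg.IsNormalizerPStable p Q)
      ((↥K ⧸ R.subgroupOf K) ⧸ N) := h1.quotient hiso N
  exact h2.self hiso

end Cfsg.Agent.Helper54.PStabTransport
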