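import Mathlib
import Cfsg.Agent.Lib.Helper54.PStabTransport
import Cfsg.Agent.Lib.Helper54.KInfFunctor
import Cfsg.Agent.Lib.Helper33.SecFusionG

/-!
# Assemblies for the `p`-stable K-infinity theorems, conditional on the normality interface
-/

set_option autoImplicit false

namespace Cfsg.Agent.Helper54.KInfStableAsm

open Cfsg Cfsg.Agent.Helper33

universe u

/-- The normality interface: in a constrained group all of whose quotients are `p`-stable
(normalizer form), both K-infinity subgroups of a Sylow `p`-subgroup are normal. -/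
def NormalityHyp (p : ℕ) [Fact p.Prime] : Prop :=
  ∀ (H : Type u) [Group H] [Finite H],
    Subgroup.centralizer ((pCore p H : Subgroup H) : Set H) ≤ pCore p H →
    (∀ (N : Subgroup H) [N.Normal], IsNormalizerPStable p (H ⧸ N)) →
    ∀ S : Sylow p H, (inducedFunctor kInfLower (S : Subgroup H)).Normal ∧
      (inducedFunctor kInfUpper (S : Subgroup H)).Normal

/-- strong fusion control from the normality interface: general functor form -/
theorem controlsStrongFusion_of_normalityHyp {p : ℕ} [Fact p.Prime]
    {W : ∀ (Q : Type u) [Group Q], Subgroup Q} (hW : IsCharPFunctor.{u} p W)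
    (hnorm : ∀ (H : Type u) [Group H] [Finite H],
      Subgroup.centralizer ((pCore p H : Subgroup H) : Set H) ≤ pCore p H →
      (∀ (N : Subgroup H) [N.Normal], IsNormalizerPStable p (H ⧸ N)) →
      ∀ S : Sylow p H, (inducedFunctor W (S : Subgroup H)).Normal)
    {G : Type u} [Group G] [Finite G]
    (hst : ∀ (K R : Subgroup G) [(R.subgroupOf K).Normal],
      IsNormalizerPStable p (↥K ⧸ R.subgroupOf K))
    (S : Sylow p G) : ControlsStrongFusion p (inducedFunctor W (S : Subgroup G)) := by
  have hW' : ∀ W' ∈ ({W} : Set (∀ (Q : Type u) [Group Q], Subgroup Q)), IsCharPFunctor.{u} p W' :=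
    fun W' h => by rw [Set.mem_singleton_iff.mp h]; exact hW
  have hsec : SecHave (LocHyp.{u} p {W}) G := by
    intro K R hR hcon
    obtain ⟨T⟩ : Nonempty (Sylow p (↥K ⧸ R.subgroupOf K)) := inferInstance
    refine fcsf_of_normal T ⟨W, rfl, rfl⟩ (hnorm _ hcon ?_ T)
    intro N hN
    exact Cfsg.Agent.Helper54.PStabTransport.stable_quotient_of_section hst K R N
  exact controlsStrongFusion_of_fcsf hW (secFusion hW' G hsec) S

theorem controlsStrongFusion_kInfUpper {p : ℕ} [Fact p.Prime] (hnorm : NormalityHyp.{u} p)
    {G : Type u} [Group G] [Finite G]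
    (hst : ∀ (K R : Subgroup G) [(R.subgroupOf K).Normal],
      IsNormalizerPStable p (↥K ⧸ R.subgroupOf K))
    (S : Sylow p G) : ControlsStrongFusion p (inducedFunctor kInfUpper (S : Subgroup G)) :=
  controlsStrongFusion_of_normalityHyp (Cfsg.Agent.Helper54.KInf.isCharPFunctor_kInfUpper p)
    (fun H _ _ hc hs T => (hnorm H hc hs T).2) hst S

theorem controlsStrongFusion_kInfLower {p : ℕ} [Fact p.Prime] (hnorm : NormalityHyp.{u} p)
    {G : Type u} [Group G] [Finite G]
    (hst : ∀ (K R : Subgroup G) [(R.subgroupOf K).Normal],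
      IsNormalizerPStable p (↥K ⧸ R.subgroupOf K))
    (S : Sylow p G) : ControlsStrongFusion p (inducedFunctor kInfLower (S : Subgroup G)) :=
  controlsStrongFusion_of_normalityHyp (Cfsg.Agent.Helper54.KInf.isCharPFunctor_kInfLower p)
    (fun H _ _ hc hs T => (hnorm H hc hs T).1) hst S

/-- clause (c) of the theorem on `K_∞`, `K^∞` from the normality interface -/
theorem exists_not_stable_quotient {p : ℕ} [Fact p.Prime] (hnorm : NormalityHyp.{u} p)
    {G : Type u} [Group G] [Finite G] (S : Sylow p G)
    (hK : ¬ (inducedFunctor kInfLower (S : Subgroup G)).Normal ∨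
      ¬ (inducedFunctor kInfUpper (S : Subgroup G)).Normal)
    (hcon : Subgroup.centralizer ((pCore p G : Subgroup G) : Set G) ≤ pCore p G) :
    ∃ (N : Subgroup G) (_ : N.Normal), ¬ IsNormalizerPStable p (G ⧸ N) := by
  by_contra hne
  push Not at hne
  have := hnorm G hcon (fun N hN => hne N hN) S
  rcases hK with h | h
  · exact h this.1
  · exact h this.2

end Cfsg.Agent.Helper54.KInfStableAsm
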