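import Mathlib

/-!
# O2520 (row S0984), piece S3C: the generic counting lemma (L)

For `y` with `y ^ 3 = 1` and a set `S` of elements `s` with `s ^ 8 = 1` commuting with `y`, the set
`conjProducts y S` of all conjugates `h * (y * s) * h⁻¹` has at least `|G| * |S| / |C(y)|` elements, and
the 16th power of each of its elements is a conjugate of `y`.
-/

set_option autoImplicit false

namespace Cfsg.Agent.Helper54.O2520

/-- The set of conjugates of the products `y * s`, `s ∈ S`. -/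
def conjProducts {G : Type*} [Group G] (y : G) (S : Set G) : Set G :=
  {g | ∃ h s, s ∈ S ∧ g = h * (y * s) * h⁻¹}

theorem h54_pow16_conj {G : Type*} [Group G] (y : G) (hy : y ^ 3 = 1) (S : Set G)
    (hS : ∀ s ∈ S, s ^ 8 = 1 ∧ s * y = y * s) (h s : G) (hs : s ∈ S) :
    (h * (y * s) * h⁻¹) ^ 16 = h * y * h⁻¹ := by
  obtain ⟨h8, hc⟩ := hS s hs
  have hcomm : Commute y s := hc.symm
  have e1 : y ^ 16 = y := by
    have : y ^ 16 = (y ^ 3) ^ 5 * y := by rw [← pow_mul, ← pow_succ]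
    rw [this, hy, one_pow, one_mul]
  have e2 : s ^ 16 = 1 := by
    have : s ^ 16 = (s ^ 8) ^ 2 := by rw [← pow_mul]
    rw [this, h8, one_pow]
  rw [conj_pow, hcomm.mul_pow, e1, e2, mul_one]

/-- every element of `conjProducts y S` has its 16th power conjugate to `y`. -/
theorem pow16_mem {G : Type*} [Group G] (y : G) (hy : y ^ 3 = 1) (S : Set G)
    (hS : ∀ s ∈ S, s ^ 8 = 1 ∧ s * y = y * s) (g : G) (hg : g ∈ conjProducts y S) :
    IsConj y (g ^ 16) := by
  obtain ⟨h, s, hs, rfl⟩ := hg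
  rw [h54_pow16_conj y hy S hS h s hs]
  exact isConj_iff.mpr ⟨h, rfl⟩

theorem h54_key {G : Type*} [Group G] (y : G) (hy : y ^ 3 = 1) (S : Set G)
    (hS : ∀ s ∈ S, s ^ 8 = 1 ∧ s * y = y * s) (h h' s s' : G) (hs : s ∈ S) (hs' : s' ∈ S)
    (heq : h * (y * s) * h⁻¹ = h' * (y * s') * h'⁻¹) :
    h'⁻¹ * h ∈ Subgroup.centralizer ({y} : Set G) := by
  have e : h * y * h⁻¹ = h' * y * h'⁻¹ := by
    rw [← h54_pow16_conj y hy S hS h s hs, ← h54_pow16_conj y hy S hS h' s' hs', heq]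
  rw [Subgroup.mem_centralizer_singleton_iff]
  have : h'⁻¹ * (h * y * h⁻¹) * h = h'⁻¹ * (h' * y * h'⁻¹) * h := by rw [e]
  calc h'⁻¹ * h * y = h'⁻¹ * (h * y * h⁻¹) * h := by group
    _ = h'⁻¹ * (h' * y * h'⁻¹) * h := this
    _ = y * (h'⁻¹ * h) := by group

/-- (L) `|G| * |S| ≤ |C(y)| * |conjProducts y S|`. -/
theorem card_le_conjProducts {G : Type*} [Group G] [Finite G] (y : G) (hy : y ^ 3 = 1) (S : Set G)
    (hS : ∀ s ∈ S, s ^ 8 = 1 ∧ s * y = y * s) :
    Nat.card G * Nat.card S ≤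
      Nat.card (Subgroup.centralizer ({y} : Set G)) * Nat.card (conjProducts y S) := by
  classical
  have hrep : ∀ w : conjProducts y S, ∃ h s, s ∈ S ∧ (w : G) = h * (y * s) * h⁻¹ := fun w => w.2
  choose rh rs hrs hrw using hrep
  let wq : G × S → conjProducts y S := fun q =>
    ⟨q.1 * (y * (q.2 : G)) * q.1⁻¹, q.1, (q.2 : G), q.2.2, rfl⟩
  have hmem : ∀ q : G × S, (rh (wq q))⁻¹ * q.1 ∈ Subgroup.centralizer ({y} : Set G) := by
    intro q
    refine h54_key y hy S hS q.1 (rh (wq q)) (q.2 : G) (rs (wq q)) q.2.2 (hrs (wq q)) ?_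
    exact hrw (wq q)
  let f : G × S → conjProducts y S × Subgroup.centralizer ({y} : Set G) := fun q =>
    (wq q, ⟨(rh (wq q))⁻¹ * q.1, hmem q⟩)
  have hf : Function.Injective f := by
    intro q q' hqq
    have h1 : wq q = wq q' := congrArg Prod.fst hqq
    have h2 : (rh (wq q))⁻¹ * q.1 = (rh (wq q'))⁻¹ * q'.1 :=
      congrArg (fun z => ((z.2 : Subgroup.centralizer ({y} : Set G)) : G)) hqq
    rw [h1] at h2
    have h3 : q.1 = q'.1 := mul_left_cancel h2
    have h4 : q.1 * (y * (q.2 : G)) * q.1⁻¹ = q'.1 * (y * (q'.2 : G)) * q'.1⁻¹ :=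
      congrArg (fun z : conjProducts y S => (z : G)) h1
    rw [← h3] at h4
    have h5 : (q.2 : G) = (q'.2 : G) := by
      have := mul_left_cancel (mul_right_cancel h4)
      exact mul_left_cancel this
    exact Prod.ext h3 (Subtype.ext h5)
  have hcard := Nat.card_le_card_of_injective f hf
  rw [Nat.card_prod, Nat.card_prod] at hcard
  calc Nat.card G * Nat.card S ≤ Nat.card (conjProducts y S) *
        Nat.card (Subgroup.centralizer ({y} : Set G)) := hcard
    _ = _ := Nat.mul_comm _ _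

/-- every element of `conjProducts y S` has order dividing `48`. -/
theorem pow48_eq_one {G : Type*} [Group G] (y : G) (hy : y ^ 3 = 1) (S : Set G)
    (hS : ∀ s ∈ S, s ^ 8 = 1 ∧ s * y = y * s) (g : G) (hg : g ∈ conjProducts y S) :
    g ^ 48 = 1 := by
  obtain ⟨h, s, hs, rfl⟩ := hg
  have : (h * (y * s) * h⁻¹) ^ 48 = ((h * (y * s) * h⁻¹) ^ 16) ^ 3 := by rw [← pow_mul]
  rw [this, h54_pow16_conj y hy S hS h s hs, conj_pow, hy, mul_one, mul_inv_cancel]

/-- elements of order `5` or `7` (or any order not dividing `48`) are not in `conjProducts y S`. -/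
theorem not_mem_of_orderOf {G : Type*} [Group G] (y : G) (hy : y ^ 3 = 1) (S : Set G)
    (hS : ∀ s ∈ S, s ^ 8 = 1 ∧ s * y = y * s) (g : G) (hg : ¬ orderOf g ∣ 48) :
    g ∉ conjProducts y S := fun h =>
  hg (orderOf_dvd_of_pow_eq_one (pow48_eq_one y hy S hS g h))

/-- the sets belonging to non-conjugate `y`, `y'` are disjoint. -/
theorem disjoint_conjProducts {G : Type*} [Group G] (y y' : G) (hy : y ^ 3 = 1) (hy' : y' ^ 3 = 1)
    (S S' : Set G) (hS : ∀ s ∈ S, s ^ 8 = 1 ∧ s * y = y * s)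
    (hS' : ∀ s ∈ S', s ^ 8 = 1 ∧ s * y' = y' * s) (hne : ¬ IsConj y y') :
    Disjoint (conjProducts y S) (conjProducts y' S') := by
  rw [Set.disjoint_left]
  intro g hg hg'
  exact hne ((pow16_mem y hy S hS g hg).trans (pow16_mem y' hy' S' hS' g hg').symm)

end Cfsg.Agent.Helper54.O2520
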