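import Mathlib

/-!
# O2520 (row S0984), sub-server S3C (helper20), piece (Q1) `s3c_structure`

A four-group `T` in `N(P)` acts faithfully on `P = C3 × C3 = C(P)`: there are commuting involutions `a`, `b`
and non-trivial `x`, `x'` in `P` with `a : (x, x') ↦ (x, x'⁻¹)` and `b : (x, x') ↦ (x⁻¹, x')`.
-/

set_option autoImplicit false

namespace Cfsg.Agent.Helper54.O2520

universe u

section aux
variable {G : Type u} [Group G]

theorem h54_eq_one_of_sq_of_cube {t : G} (h2 : t ^ 2 = 1) (h3 : t ^ 3 = 1) : t = 1 := by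
  have h : t ^ 3 = t ^ 2 * t := pow_succ t 2
  rw [h3, h2, one_mul] at h
  exact h.symm

theorem h54_conj_conj (t z : G) (htt : t * t = 1) : t * (t * z * t⁻¹) * t⁻¹ = z := by
  have h : t * (t * z * t⁻¹) * t⁻¹ = (t * t) * z * (t * t)⁻¹ := by group
  rw [h, htt]; simp

theorem h54_conj_comm (s t z : G) (hst : s * t = t * s) :
    s * (t * z * t⁻¹) * s⁻¹ = t * (s * z * s⁻¹) * t⁻¹ := by
  calc s * (t * z * t⁻¹) * s⁻¹ = (s * t) * z * (s * t)⁻¹ := by group
    _ = (t * s) * z * (t * s)⁻¹ := by rw [hst]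
    _ = t * (s * z * s⁻¹) * t⁻¹ := by group

theorem h54_conj_mul (t y z : G) : t * (y * z) * t⁻¹ = (t * y * t⁻¹) * (t * z * t⁻¹) := by group

theorem h54_conj_inv (t z : G) : t * z⁻¹ * t⁻¹ = (t * z * t⁻¹)⁻¹ := by group

/-- a subgroup `F ≤ P` (`|P| = 9`, exponent 3) containing a non-trivial `a`-fixed element and a non-trivial
`a`-inverted element is `P`. -/
theorem h54_sub {P : Subgroup G} (hP : Nat.card P = 9) (hexp : ∀ x ∈ P, x ^ 3 = 1)
    (F : Subgroup G) (hFP : F ≤ P) (a u v : G) (hu : u ∈ F) (hv : v ∈ F) (hu1 : u ≠ 1) (hv1 : v ≠ 1)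
    (hau : a * u * a⁻¹ = u) (hav : a * v * a⁻¹ = v⁻¹) : F = P := by
  have : Finite P := Nat.finite_of_card_ne_zero (by rw [hP]; norm_num)
  have : Fact (Nat.Prime 3) := ⟨Nat.prime_three⟩
  have hdvd : Nat.card F ∣ 3 ^ 2 := by
    have := Subgroup.card_dvd_of_le hFP
    rw [hP] at this; exact this
  obtain ⟨k, hk, hk'⟩ := (Nat.dvd_prime_pow Nat.prime_three).mp hdvd
  have hcard : Nat.card F = 9 := by
    interval_cases k
    · exfalso
      have hbot : F = ⊥ := Subgroup.card_eq_one.mp (by rw [hk']; norm_num)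
      rw [hbot, Subgroup.mem_bot] at hu
      exact hu1 hu
    · exfalso
      have : Finite F := Nat.finite_of_card_ne_zero (by rw [hk']; norm_num)
      have hou : orderOf u = 3 := orderOf_eq_prime (hexp u (hFP hu)) hu1
      have hz : Subgroup.zpowers u ≤ F := by rw [Subgroup.zpowers_le]; exact hu
      have hzF : Subgroup.zpowers u = F :=
        Subgroup.eq_of_le_of_card_ge hz (by rw [Nat.card_zpowers, hou, hk']; norm_num)
      have hvz : v ∈ Subgroup.zpowers u := by rw [hzF]; exact hv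
      have hcen : Subgroup.zpowers u ≤ Subgroup.centralizer ({a} : Set G) := by
        rw [Subgroup.zpowers_le, Subgroup.mem_centralizer_singleton_iff]
        calc u * a = (a * u * a⁻¹) * a := by rw [hau]
          _ = a * u := by group
      have h1 := hcen hvz
      rw [Subgroup.mem_centralizer_singleton_iff] at h1
      have h2 : a * v * a⁻¹ = v := by rw [← h1]; group
      rw [hav] at h2
      have h3 : v ^ 2 = 1 := by
        rw [pow_two]
        calc v * v = v⁻¹ * v := by rw [h2]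
          _ = 1 := inv_mul_cancel v
      exact hv1 (h54_eq_one_of_sq_of_cube h3 (hexp v (hFP hv)))
    · rw [hk']; norm_num
  exact Subgroup.eq_of_le_of_card_ge hFP (by rw [hcard, hP])

end aux

/-- (Q1) of helper20's S3C sub-server. -/
theorem s3c_structure {G : Type u} [Group G] [Finite G] (P : Subgroup G) (hP : Nat.card P = 9)
    (hexp : ∀ x ∈ P, x ^ 3 = 1) (hC : Subgroup.centralizer (P : Set G) = P)
    (hN : Nat.card (Subgroup.normalizer (P : Set G)) = 36)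
    (h4 : ∀ u ∈ Subgroup.normalizer (P : Set G), orderOf u ≠ 4) :
    ∃ x x' a b : G, x ∈ P ∧ x' ∈ P ∧ x ≠ 1 ∧ x' ≠ 1 ∧
      a ∈ Subgroup.normalizer (P : Set G) ∧ b ∈ Subgroup.normalizer (P : Set G) ∧
      orderOf a = 2 ∧ orderOf b = 2 ∧ a * b = b * a ∧
      a * x * a⁻¹ = x ∧ a * x' * a⁻¹ = x'⁻¹ ∧ b * x * b⁻¹ = x⁻¹ ∧ b * x' * b⁻¹ = x' := by
  classical
  have : Fact (Nat.Prime 2) := ⟨Nat.prime_two⟩
  have hab : ∀ x ∈ P, ∀ y ∈ P, x * y = y * x := by
    intro x hx y hy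
    have hx' : x ∈ Subgroup.centralizer (P : Set G) := by rw [hC]; exact hx
    exact (Subgroup.mem_centralizer_iff.mp hx' y hy).symm
  -- a subgroup of order 4 of N(P)
  obtain ⟨K, hK⟩ : ∃ K : Subgroup (Subgroup.normalizer (P : Set G)), Nat.card K = 2 ^ 2 :=
    Sylow.exists_subgroup_card_pow_prime 2 (by rw [hN]; norm_num)
  obtain ⟨T, hT, hTN⟩ : ∃ T : Subgroup G, Nat.card T = 4 ∧ T ≤ Subgroup.normalizer (P : Set G) := by
    refine ⟨K.map (Subgroup.normalizer (P : Set G)).subtype, ?_, Subgroup.map_subtype_le K⟩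
    rw [Subgroup.card_map_of_injective (Subgroup.subtype_injective _), hK]; norm_num
  have hsq : ∀ t ∈ T, t ^ 2 = 1 := by
    intro t ht
    have h1 : orderOf t ∣ 2 ^ 2 := by
      have := Subgroup.orderOf_dvd_natCard T ht
      rw [hT] at this; exact this
    obtain ⟨k, hk, hk'⟩ := (Nat.dvd_prime_pow Nat.prime_two).mp h1
    have hne := h4 t (hTN ht)
    interval_cases k
    · rw [pow_zero, orderOf_eq_one_iff] at hk'
      rw [hk', one_pow]
    · rw [pow_one] at hk'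
      rw [← hk']; exact pow_orderOf_eq_one t
    · exfalso; exact hne (by rw [hk']; norm_num)
  have htt : ∀ t ∈ T, t * t = 1 := fun t ht => by rw [← pow_two]; exact hsq t ht
  have hinv : ∀ t ∈ T, t⁻¹ = t := fun t ht => inv_eq_of_mul_eq_one_right (htt t ht)
  have hcomm : ∀ s ∈ T, ∀ t ∈ T, s * t = t * s := by
    intro s hs t ht
    have h' : (s * t)⁻¹ = s * t := hinv _ (T.mul_mem hs ht)
    rw [mul_inv_rev, hinv s hs, hinv t ht] at h'
    exact h'.symm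
  have hτ : ∀ t ∈ T, ∀ z ∈ P, t * z * t⁻¹ ∈ P := fun t ht z hz =>
    (Subgroup.mem_normalizer_iff.mp (hTN ht) z).mp hz
  have hTP : ∀ t ∈ T, t ∈ P → t = 1 := fun t ht htP =>
    h54_eq_one_of_sq_of_cube (hsq t ht) (hexp t htP)
  -- an element of `T` centralizing `P` is trivial
  have hcent : ∀ t ∈ T, (∀ z ∈ P, t * z * t⁻¹ = z) → t = 1 := by
    intro t ht hfix
    apply hTP t ht
    have : t ∈ Subgroup.centralizer (P : Set G) := by
      rw [Subgroup.mem_centralizer_iff]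
      intro z hz
      calc z * t = (t * z * t⁻¹) * t := by rw [hfix z hz]
        _ = t * z := by group
    rw [hC] at this; exact this
  -- plus and minus parts
  have hplus : ∀ t ∈ T, ∀ z ∈ P, t * (z * (t * z * t⁻¹)) * t⁻¹ = z * (t * z * t⁻¹) := by
    intro t ht z hz
    rw [h54_conj_mul, h54_conj_conj t z (htt t ht)]
    exact hab _ (hτ t ht z hz) _ hz
  have hminus : ∀ t ∈ T, ∀ z ∈ P,
      t * (z * (t * z * t⁻¹)⁻¹) * t⁻¹ = (z * (t * z * t⁻¹)⁻¹)⁻¹ := by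
    intro t ht z hz
    rw [h54_conj_mul, h54_conj_inv, h54_conj_conj t z (htt t ht), mul_inv_rev, inv_inv]
  -- dichotomy
  have hdich : ∀ t ∈ T, (∃ x ∈ P, x ≠ 1 ∧ t * x * t⁻¹ = x) ∨ (∀ z ∈ P, t * z * t⁻¹ = z⁻¹) := by
    intro t ht
    by_cases h : ∃ x ∈ P, x ≠ 1 ∧ t * x * t⁻¹ = x
    · exact Or.inl h
    · right
      intro z hz
      have h1 : z * (t * z * t⁻¹) = 1 := by
        by_contra hne
        exact h ⟨_, P.mul_mem hz (hτ t ht z hz), hne, hplus t ht z hz⟩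
      exact (eq_inv_of_mul_eq_one_right h1)
  -- two distinct non-trivial elements
  obtain ⟨a0, ha0T, ha01⟩ : ∃ a0 ∈ T, a0 ≠ 1 := by
    by_contra hcon
    push Not at hcon
    have hbot : T = ⊥ := (Subgroup.eq_bot_iff_forall T).mpr hcon
    rw [hbot, Subgroup.card_bot] at hT
    norm_num at hT
  obtain ⟨b0, hb0T, hb0z⟩ : ∃ b0 ∈ T, b0 ∉ Subgroup.zpowers a0 := by
    by_contra hcon
    push Not at hcon
    have hle : T ≤ Subgroup.zpowers a0 := hcon
    have hd := Subgroup.card_dvd_of_le hle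
    rw [hT, Nat.card_zpowers] at hd
    have h2 : orderOf a0 ∣ 2 := orderOf_dvd_of_pow_eq_one (hsq a0 ha0T)
    have h42 : 4 ∣ 2 := hd.trans h2
    norm_num at h42
  have hb01 : b0 ≠ 1 := fun h => hb0z (by rw [h]; exact Subgroup.one_mem _)
  have hab0 : b0 ≠ a0 := fun h => hb0z (by rw [h]; exact Subgroup.mem_zpowers a0)
  -- Step A: a mixed involution
  obtain ⟨a, haT, ha1, x0, hx0P, hx01, hax0⟩ :
      ∃ a ∈ T, a ≠ 1 ∧ ∃ x0 ∈ P, x0 ≠ 1 ∧ a * x0 * a⁻¹ = x0 := by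
    by_contra hcon
    push Not at hcon
    have hinvall : ∀ t ∈ T, t ≠ 1 → ∀ z ∈ P, t * z * t⁻¹ = z⁻¹ := by
      intro t ht ht1
      rcases hdich t ht with ⟨x, hx, hx1, hfx⟩ | h
      · exact absurd hfx (hcon t ht ht1 x hx hx1)
      · exact h
    have hc0 : a0 * b0 ≠ 1 := by
      intro h
      have : a0 = b0⁻¹ := eq_inv_of_mul_eq_one_left h
      rw [hinv b0 hb0T] at this
      exact hab0 this.symm
    have hall : ∀ z ∈ P, z = 1 := by
      intro z hz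
      have e1 : (a0 * b0) * z * (a0 * b0)⁻¹ = z⁻¹ := hinvall _ (T.mul_mem ha0T hb0T) hc0 z hz
      have e2 : (a0 * b0) * z * (a0 * b0)⁻¹ = z := by
        have : (a0 * b0) * z * (a0 * b0)⁻¹ = a0 * (b0 * z * b0⁻¹) * a0⁻¹ := by group
        rw [this, hinvall b0 hb0T hb01 z hz, hinvall a0 ha0T ha01 _ (P.inv_mem hz), inv_inv]
      have e3 : z = z⁻¹ := e2.symm.trans e1
      have h3 : z ^ 2 = 1 := by
        rw [pow_two]
        calc z * z = z⁻¹ * z := by rw [← e3]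
          _ = 1 := inv_mul_cancel z
      exact h54_eq_one_of_sq_of_cube h3 (hexp z hz)
    exact ha01 (hcent a0 ha0T (fun z hz => by rw [hall z hz]; group))
  -- another involution b of T
  obtain ⟨b, hbT, hb1, hba⟩ : ∃ b ∈ T, b ≠ 1 ∧ b ≠ a := by
    by_cases h : a0 = a
    · exact ⟨b0, hb0T, hb01, fun hb => hab0 (hb.trans h.symm)⟩
    · exact ⟨a0, ha0T, ha01, h⟩
  have habc : a * b = b * a := hcomm a haT b hbT
  have hcT : a * b ∈ T := T.mul_mem haT hbT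
  have hc1 : a * b ≠ 1 := by
    intro h
    have : a = b⁻¹ := eq_inv_of_mul_eq_one_left h
    rw [hinv b hbT] at this
    exact hba this.symm
  have hoa : orderOf a = 2 := orderOf_eq_prime (hsq a haT) ha1
  have hob : orderOf b = 2 := orderOf_eq_prime (hsq b hbT) hb1
  have hoc : orderOf (a * b) = 2 := orderOf_eq_prime (hsq _ hcT) hc1
  -- a non-trivial element inverted by a
  obtain ⟨w, hwP, hw1, haw⟩ : ∃ w ∈ P, w ≠ 1 ∧ a * w * a⁻¹ = w⁻¹ := by
    have hnf : ¬ ∀ z ∈ P, a * z * a⁻¹ = z := fun h => ha1 (hcent a haT h)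
    push Not at hnf
    obtain ⟨z, hz, hne⟩ := hnf
    refine ⟨z * (a * z * a⁻¹)⁻¹, P.mul_mem hz (P.inv_mem (hτ a haT z hz)), ?_, hminus a haT z hz⟩
    intro h
    exact hne (eq_of_mul_inv_eq_one h).symm
  -- the four joint eigen-elements
  have hbx0P : b * x0 * b⁻¹ ∈ P := hτ b hbT x0 hx0P
  have hbwP : b * w * b⁻¹ ∈ P := hτ b hbT w hwP
  have hab_x0 : a * (b * x0 * b⁻¹) * a⁻¹ = b * x0 * b⁻¹ := by
    rw [h54_conj_comm a b x0 habc, hax0]
  have hab_w : a * (b * w * b⁻¹) * a⁻¹ = (b * w * b⁻¹)⁻¹ := by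
    rw [h54_conj_comm a b w habc, haw, h54_conj_inv]
  -- e₊₋ := x0 * (b x0 b⁻¹)⁻¹ ; f₊ := w * (b w b⁻¹) ; f₋ := w * (b w b⁻¹)⁻¹
  have hepmP : x0 * (b * x0 * b⁻¹)⁻¹ ∈ P := P.mul_mem hx0P (P.inv_mem hbx0P)
  have hfpP : w * (b * w * b⁻¹) ∈ P := P.mul_mem hwP hbwP
  have hfmP : w * (b * w * b⁻¹)⁻¹ ∈ P := P.mul_mem hwP (P.inv_mem hbwP)
  have ha_epm : a * (x0 * (b * x0 * b⁻¹)⁻¹) * a⁻¹ = x0 * (b * x0 * b⁻¹)⁻¹ := by
    rw [h54_conj_mul, h54_conj_inv, hab_x0, hax0]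
  have hb_epm : b * (x0 * (b * x0 * b⁻¹)⁻¹) * b⁻¹ = (x0 * (b * x0 * b⁻¹)⁻¹)⁻¹ := hminus b hbT x0 hx0P
  have ha_fp : a * (w * (b * w * b⁻¹)) * a⁻¹ = (w * (b * w * b⁻¹))⁻¹ := by
    rw [h54_conj_mul, hab_w, haw, mul_inv_rev w (b * w * b⁻¹)]
    exact hab _ (P.inv_mem hwP) _ (P.inv_mem hbwP)
  have hb_fp : b * (w * (b * w * b⁻¹)) * b⁻¹ = w * (b * w * b⁻¹) := hplus b hbT w hwP
  have ha_fm : a * (w * (b * w * b⁻¹)⁻¹) * a⁻¹ = (w * (b * w * b⁻¹)⁻¹)⁻¹ := by
    rw [h54_conj_mul, h54_conj_inv, hab_w, haw, mul_inv_rev w (b * w * b⁻¹)⁻¹]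
    exact hab _ (P.inv_mem hwP) _ (P.inv_mem (P.inv_mem hbwP))
  have hb_fm : b * (w * (b * w * b⁻¹)⁻¹) * b⁻¹ = (w * (b * w * b⁻¹)⁻¹)⁻¹ := hminus b hbT w hwP
  -- f₊ = 1 → f₋ ≠ 1
  have hfm_of : w * (b * w * b⁻¹) = 1 → w * (b * w * b⁻¹)⁻¹ ≠ 1 := by
    intro h1 h2
    have e1 : b * w * b⁻¹ = w⁻¹ := eq_inv_of_mul_eq_one_right h1
    have e2 : w = b * w * b⁻¹ := eq_of_mul_inv_eq_one h2
    have e3 : w = w⁻¹ := e2.trans e1
    have h3 : w ^ 2 = 1 := by
      rw [pow_two]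
      calc w * w = w⁻¹ * w := by rw [← e3]
        _ = 1 := inv_mul_cancel w
    exact hw1 (h54_eq_one_of_sq_of_cube h3 (hexp w hwP))
  -- conjugation by c = a * b
  have hc_conj : ∀ z : G, (a * b) * z * (a * b)⁻¹ = a * (b * z * b⁻¹) * a⁻¹ := by
    intro z; group
  -- commuting with all of P ∩ C(t) = P means central
  have hFP : ∀ t ∈ T, t ≠ 1 → ∀ u v : G, u ∈ P → v ∈ P → u ≠ 1 → v ≠ 1 →
      t * u * t⁻¹ = u → t * v * t⁻¹ = v → a * u * a⁻¹ = u → a * v * a⁻¹ = v⁻¹ → False := by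
    intro t ht ht1 u v hu hv hu1 hv1 htu htv hau hav
    have hmemF : ∀ z ∈ P, t * z * t⁻¹ = z → z ∈ P ⊓ Subgroup.centralizer ({t} : Set G) := by
      intro z hz hfz
      refine Subgroup.mem_inf.mpr ⟨hz, ?_⟩
      rw [Subgroup.mem_centralizer_singleton_iff]
      calc z * t = (t * z * t⁻¹) * t := by rw [hfz]
        _ = t * z := by group
    have hF : P ⊓ Subgroup.centralizer ({t} : Set G) = P :=
      h54_sub hP hexp _ inf_le_left a u v (hmemF u hu htu) (hmemF v hv htv) hu1 hv1 hau hav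
    apply ht1
    apply hcent t ht
    intro z hz
    have hzF : z ∈ P ⊓ Subgroup.centralizer ({t} : Set G) := by rw [hF]; exact hz
    have h1 := (Subgroup.mem_inf.mp hzF).2
    rw [Subgroup.mem_centralizer_singleton_iff] at h1
    rw [← h1]; group
  by_cases hepm : x0 * (b * x0 * b⁻¹)⁻¹ = 1
  · -- Case II: b fixes x0: impossible
    exfalso
    have hbx0 : b * x0 * b⁻¹ = x0 := (eq_of_mul_inv_eq_one hepm).symm
    by_cases hfp : w * (b * w * b⁻¹) = 1
    · -- f₋ ≠ 1 is fixed by c = a * b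
      have hfm := hfm_of hfp
      refine hFP (a * b) hcT hc1 x0 (w * (b * w * b⁻¹)⁻¹) hx0P hfmP hx01 hfm ?_ ?_ hax0 ha_fm
      · rw [hc_conj, hbx0, hax0]
      · rw [hc_conj, hb_fm, h54_conj_inv, ha_fm, inv_inv]
    · exact hFP b hbT hb1 x0 (w * (b * w * b⁻¹)) hx0P hfpP hx01 hfp hbx0 hb_fp hax0 ha_fp
  · -- Case I
    by_cases hfp : w * (b * w * b⁻¹) = 1
    · have hfm := hfm_of hfp
      refine ⟨x0 * (b * x0 * b⁻¹)⁻¹, w * (b * w * b⁻¹)⁻¹, a, a * b, hepmP, hfmP, hepm, hfm,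
        hTN haT, hTN hcT, hoa, hoc, hcomm a haT _ hcT, ha_epm, ha_fm, ?_, ?_⟩
      · rw [hc_conj, hb_epm, h54_conj_inv, ha_epm]
      · rw [hc_conj, hb_fm, h54_conj_inv, ha_fm, inv_inv]
    · exact ⟨x0 * (b * x0 * b⁻¹)⁻¹, w * (b * w * b⁻¹), a, b, hepmP, hfpP, hepm, hfp,
        hTN haT, hTN hbT, hoa, hob, habc, ha_epm, ha_fp, hb_epm, hb_fp⟩

end Cfsg.Agent.Helper54.O2520
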