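import Mathlib
import Cfsg.Agent.S1017
import Cfsg.Agent.Lib.Helper17.Simple
import Cfsg.Agent.Lib.Helper85.O4320BASE2
import Cfsg.Agent.Lib.Helper45.Design16
import Cfsg.Agent.Lib.Helper54.O5760BDefs
import Cfsg.Agent.Lib.Helper13.N96P1
import Cfsg.Agent.Lib.Helper44.N96P2
import Cfsg.Agent.Lib.Helper86.N96P3a
import Cfsg.Agent.Lib.Helper44.N96P3b
import Cfsg.Agent.Lib.Helper44.N96P3c
import Cfsg.Agent.Lib.Helper86.N96P3d
import Cfsg.Agent.Lib.Helper33.N96P4
import Cfsg.Agent.Lib.Helper67.N96P5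
import Cfsg.Agent.Lib.Helper82.N96P6
import Cfsg.Agent.Lib.Helper25.N96P8
import Cfsg.Agent.Lib.Helper20.N96P9
import Cfsg.Agent.Lib.Helper44.N96P10
import Cfsg.Agent.Lib.Helper82.N96P11
import Cfsg.Agent.Lib.Helper13.N96L1
import Cfsg.Agent.Lib.Helper29.N96L2
import Cfsg.Agent.Lib.Helper23.N96L3
import Cfsg.Agent.Lib.Helper29.N96L4
import Cfsg.Agent.Lib.Helper23.N96L1
import Cfsg.Agent.Lib.Helper99.N96L6
import Cfsg.Agent.Lib.Helper13.N96L7
import Cfsg.Agent.Lib.Helper99.N96L10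

/-!
# S0980, case `n_5 = 96`: assembly of the lemma server N96 (helper54)
-/

set_option autoImplicit false

namespace Cfsg.Agent.Helper54.O5760B

open Cfsg MulAction

universe u

/-- A proper subgroup of a simple group of order 5760 has index at least 10. -/
theorem index_ge_ten {G : Type u} [Group G] [Finite G] [IsSimpleGroup G] (hG : Nat.card G = 5760)
    (H : Subgroup G) (hH : H ≠ ⊤) : 10 ≤ H.index := by
  have hnp : ¬ (Nat.card G).Prime := by rw [hG]; norm_num
  have hd := Cfsg.Agent.Helper17.two_mul_card_dvd_factorial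
    (Cfsg.Agent.Helper17.not_comm_of_not_prime hnp) H hH
  rw [hG] at hd
  by_contra hlt
  push Not at hlt
  have h9 : (H.index).factorial ∣ (9 : ℕ).factorial := Nat.factorial_dvd_factorial (by omega)
  have h := dvd_trans hd h9
  revert h
  decide

/-- The geometric part: the configuration `Cfg` is impossible in a simple group of order 5760. -/
theorem false_of_cfg {G : Type u} [Group G] [Finite G] [IsSimpleGroup G] (hG : Nat.card G = 5760)
    (x r : G) (M : Subgroup G) (c : Cfg x r M) : False := by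
  have hsmul : ∀ g a b : G, (fun p : G ⧸ M => g • p) '' ln x M a b = ln x M (g * a) (g * b) :=
    fun g a b => Cfsg.Agent.Helper13.N96.ln_smul x M g a b
  have hcongr : ∀ a a' b b' : G, ((a : G) : G ⧸ M) = ((a' : G) : G ⧸ M) →
      ((b : G) : G ⧸ M) = ((b' : G) : G ⧸ M) → ln x M a b = ln x M a' b' :=
    fun a a' b b' ha hb => Cfsg.Agent.Helper29.N96.ln_congr c a a' b b' ha hb
  have hncard : ∀ a b : G, ((a : G) : G ⧸ M) ≠ ((b : G) : G ⧸ M) → (ln x M a b).ncard = 4 :=
    fun a b hab => Cfsg.Agent.Helper23.N96.ln_ncard c a b hab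
  have hfix : ∀ a b : G, ((a : G) : G ⧸ M) ≠ ((b : G) : G ⧸ M) → ∀ v : G, orderOf v = 2 →
      Commute v (a * x * a⁻¹) → Commute v (b * x * b⁻¹) → ln x M a b = fixedBy (G ⧸ M) v :=
    fun a b hab v hv h1 h2 =>
      Cfsg.Agent.Helper29.N96.ln_eq_fixedBy c a b (hncard a b hab) v hv h1 h2
  have hsymm : ∀ a b : G, ((a : G) : G ⧸ M) ≠ ((b : G) : G ⧸ M) → ln x M a b = ln x M b a :=
    fun a b hab => Cfsg.Agent.Helper23.N96.ln_symm c a b hab hfix
  have hmem : ∀ a b d : G, ((d : G) : G ⧸ M) ∈ ln x M a b → ((d : G) : G ⧸ M) ≠ ((a : G) : G ⧸ M) →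
      ln x M a d = ln x M a b :=
    fun a b d hd hda => Cfsg.Agent.Helper99.N96.ln_eq_of_mem c a b d hd hda
  have huniq : ∀ p q : G ⧸ M, p ≠ q → ∃! ℓ : Set (G ⧸ M), ℓ ∈ lines x M ∧ p ∈ ℓ ∧ q ∈ ℓ :=
    fun p q hpq => Cfsg.Agent.Helper13.N96.exists_unique_line x M hcongr hsymm hmem p q hpq
  have hL4 : ∀ l ∈ lines x M, l.ncard = 4 := by
    rintro l ⟨a, b, hab, rfl⟩
    exact hncard a b hab
  have hinv : ∀ (g : G), ∀ l ∈ lines x M, (fun p : G ⧸ M => g • p) '' l ∈ lines x M :=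
    fun g l hl => Cfsg.Agent.Helper13.N96.lines_smul x M hsmul g l hl
  obtain ⟨b, hb⟩ : ∃ b : G, b ∉ M := by
    by_contra h
    push Not at h
    have hM : M = ⊤ := eq_top_iff.2 fun g _ => h g
    have h1 : M.index = 1 := by rw [hM]; exact Subgroup.index_top
    have h16 := c.hidx
    rw [← Subgroup.index_eq_card, h1] at h16
    omega
  have hne : (((1 : G) : G) : G ⧸ M) ≠ ((b : G) : G ⧸ M) := by
    intro h
    rw [QuotientGroup.eq] at h
    apply hb
    simpa using h
  have hl0 : ln x M 1 b ∈ lines x M := ⟨1, b, hne, rfl⟩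
  obtain ⟨K, hK0, hK5, hKmem⟩ :=
    Cfsg.Agent.Helper45.Design16.exists_subgroup_index_le_five_set (G := G) (X := G ⧸ M) c.hidx
      (lines x M) hL4 hinv huniq (ln x M 1 b) hl0
  have hKtop : K ≠ ⊤ := by
    intro h
    have hr : r ∈ K := h ▸ Subgroup.mem_top r
    have h2 := (hKmem r).1 hr
    exact Cfsg.Agent.Helper99.N96.not_par c b hb hsmul hcongr h2
  have := index_ge_ten hG K hKtop
  omega

/-- The Sylow part: in a simple group of order 5760 with `n_5 = 96` the configuration `Cfg` arises. -/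
theorem exists_cfg {G : Type u} [Group G] [Finite G] [IsSimpleGroup G] (hG : Nat.card G = 5760)
    (h96 : Nat.card (Sylow 5 G) = 96) : ∃ (x r : G) (M : Subgroup G), Cfg x r M := by
  have : Fact (Nat.Prime 5) := ⟨by norm_num⟩
  obtain ⟨R⟩ : Nonempty (Sylow 5 G) := inferInstance
  obtain ⟨hR5, hN60, hC⟩ := Cfsg.Agent.Helper13.N96.ns96 hG h96 R
  obtain ⟨x, hx, hxC, hnx⟩ := Cfsg.Agent.Helper44.N96.exists_x R hR5 hC
  have hm' := Cfsg.Agent.Helper86.N96.m_cases R hR5 hN60 x hx hxC hnx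
  have h9 := Cfsg.Agent.Helper44.N96.nine_dvd hG x hx
  have hx1 : x ≠ 1 := by
    intro h
    rw [h, orderOf_one] at hx
    omega
  have hA := Cfsg.Agent.Helper44.N96.A_ne hG h96 x hx1
  have hRle : (R : Subgroup G) ≤ Subgroup.centralizer ({x} : Set G) :=
    (Cfsg.Agent.S1017.le_centralizer_singleton_iff _ x).2 hxC
  have hB2 := Cfsg.Agent.Helper85.O4320.card_sylow_le_mod 5 R hR5
    (Subgroup.centralizer ({x} : Set G)) hRle
  obtain ⟨m, hm⟩ : ∃ m : ℕ, Nat.card ↥(Subgroup.normalizer ((R : Subgroup G) : Set G) ⊓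
      Subgroup.centralizer ({x} : Set G)) = m := ⟨_, rfl⟩
  rw [hm] at hm'
  have hCx := Cfsg.Agent.Helper86.N96.cx_card hG h96 R x hxC m hm hm' h9 hA hB2
  have hidx : ∀ H : Subgroup G, H ≠ ⊤ → 10 ≤ H.index := fun H hH => index_ge_ten hG H hH
  obtain ⟨hM360, hNM⟩ :=
    Cfsg.Agent.Helper33.N96.M_card hG R hN60 x hx hnx m hm hm' hCx hidx
  obtain ⟨M, hMdef⟩ : ∃ M : Subgroup G,
      M = Subgroup.normalizer ((Subgroup.zpowers x : Subgroup G) : Set G) := ⟨_, rfl⟩
  rw [← hMdef] at hM360 hNM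
  -- an element of order 5
  obtain ⟨r, hrR, hr1⟩ : ∃ r ∈ (R : Subgroup G), r ≠ 1 := by
    have h1 : 1 < Nat.card (R : Subgroup G) := by rw [hR5]; norm_num
    rw [Subgroup.one_lt_card_iff_ne_bot] at h1
    obtain ⟨k, hk⟩ := (Subgroup.ne_bot_iff_exists_ne_one (H := (R : Subgroup G))).1 h1
    exact ⟨(k : G), k.2, fun h => hk (Subtype.ext h)⟩
  have hr5 : orderOf r = 5 := by
    have hdvd : orderOf r ∣ 5 := by
      have h := orderOf_dvd_natCard (⟨r, hrR⟩ : (R : Subgroup G))
      rw [hR5, Subgroup.orderOf_mk] at h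
      exact h
    rcases (Nat.dvd_prime (by norm_num : Nat.Prime 5)).1 hdvd with h | h
    · exact absurd (orderOf_eq_one_iff.1 h) hr1
    · exact h
  have hrM : r ∈ M := hNM (Subgroup.le_normalizer hrR)
  have hfr : ∀ g : G, g⁻¹ * r * g ∈ M → g ∈ M :=
    fun g hg => Cfsg.Agent.Helper67.N96.fix_R R hR5 M hNM r hrR hr1 g hg
  have hcomm : Commute r x := Subgroup.mem_centralizer_iff.1 hxC r hrR
  have hxM : x ∈ M := by
    rw [hMdef]
    exact Subgroup.le_normalizer (Subgroup.mem_zpowers x)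
  have hfx : ∀ g : G, g⁻¹ * x * g ∈ M → g ∈ M :=
    fun g hg => Cfsg.Agent.Helper82.N96.fix_x hG M hM360 x hx hxM r hr5 hrM hcomm hfr g hg
  have hnorm : ∀ k ∈ M, k * x * k⁻¹ ∈ Subgroup.zpowers x := by
    intro k hk
    rw [hMdef, Subgroup.mem_normalizer_iff] at hk
    exact (hk x).1 (Subgroup.mem_zpowers x)
  have hcent : ∀ g : G, Commute g x → g ∈ M := by
    intro g hg
    rw [hMdef, Subgroup.mem_normalizer_iff]
    intro h
    have key : ∀ y : G, y ∈ Subgroup.zpowers x → g * y * g⁻¹ = y := by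
      intro y hy
      obtain ⟨n, rfl⟩ := Subgroup.mem_zpowers_iff.1 hy
      have hc : Commute g (x ^ n) := hg.zpow_right n
      rw [hc.eq, mul_inv_cancel_right]
    constructor
    · intro hh
      rw [key h hh]
      exact hh
    · intro hh
      have h3 : g⁻¹ * (g * h * g⁻¹) * g = h := by group
      have hc' : Commute g⁻¹ x := hg.inv_left
      have key' : ∀ y : G, y ∈ Subgroup.zpowers x → g⁻¹ * y * g = y := by
        intro y hy
        obtain ⟨n, rfl⟩ := Subgroup.mem_zpowers_iff.1 hy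
        have hc : Commute g⁻¹ (x ^ n) := hc'.zpow_right n
        have := hc.eq
        calc g⁻¹ * x ^ n * g = x ^ n * g⁻¹ * g := by rw [this]
          _ = x ^ n := by group
      rw [← h3, key' _ hh]
      exact hh
  have hCM : Subgroup.centralizer ({x} : Set G) ≤ M := by
    intro g hg
    apply hcent
    have := Subgroup.mem_centralizer_iff.1 hg x rfl
    exact this.symm
  have hm30 : m = 30 := by
    rcases hm' with h | h
    · exact h
    · exfalso
      exact Cfsg.Agent.Helper25.N96.c360_false hG x hx M hCM (by rw [hCx, h]) hM360 hfx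
  have hH180 : Nat.card (Subgroup.centralizer ({x} : Set G)) = 180 := by rw [hCx, hm30]
  have hidx16 : Nat.card (G ⧸ M) = 16 := by
    have h := Subgroup.card_mul_index M
    rw [hM360, hG, Subgroup.index_eq_card] at h
    omega
  refine ⟨x, r, M, ⟨hx, hxM, hnorm, hcent, hidx16, hfx, hr5, hrM, hfr, ?_, ?_⟩⟩
  · intro g hg
    have h12 := Cfsg.Agent.Helper20.N96.stab_card hG M x hx hH180 hCM hM360 r hr5 hcomm
      hfx hfr g hg
    exact Cfsg.Agent.Helper44.N96.exists_invol x hx M hnorm g h12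
  · intro v hv hvx
    exact Cfsg.Agent.Helper82.N96.invol_fix_four hG M hM360 x hx hcent hfx v hv hvx

/-- **Export**: no simple group of order 5760 has 96 Sylow 5-subgroups. -/
theorem false_of_ninetysix {G : Type u} [Group G] [Finite G] [IsSimpleGroup G]
    (hG : Nat.card G = 5760) (h96 : Nat.card (Sylow 5 G) = 96) : False := by
  obtain ⟨x, r, M, c⟩ := exists_cfg hG h96
  exact false_of_cfg hG x r M c

end Cfsg.Agent.Helper54.O5760B
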