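import Mathlib

set_option autoImplicit false

namespace Cfsg.Agent.Helper54

/-- If `r ^ m ≡ 1 (mod 2 ^ k)` with `m` odd then `r ≡ 1 (mod 2 ^ k)`. -/
theorem modEq_one_of_pow_odd (k r m : ℕ) (hm : Odd m) (h : r ^ m ≡ 1 [MOD 2 ^ k]) :
    r ≡ 1 [MOD 2 ^ k] := by
  rcases Nat.eq_zero_or_pos k with rfl | hk
  · simp [Nat.modEq_one]
  have hne : NeZero (2 ^ k) := ⟨by positivity⟩
  have h' : ((r : ZMod (2 ^ k))) ^ m = 1 := by
    have := (ZMod.natCast_eq_natCast_iff (r ^ m) 1 (2 ^ k)).mpr h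
    simpa using this
  have hm0 : m ≠ 0 := by rcases hm with ⟨j, rfl⟩; omega
  set u : (ZMod (2 ^ k))ˣ := Units.ofPowEqOne _ m h' hm0 with hu
  have hum : u ^ m = 1 := Units.ext (by simp [hu])
  have h1 : orderOf u ∣ m := orderOf_dvd_of_pow_eq_one hum
  have h2 : orderOf u ∣ 2 ^ (k - 1) := by
    have h3 : orderOf u ∣ Fintype.card (ZMod (2 ^ k))ˣ := orderOf_dvd_card
    rw [ZMod.card_units_eq_totient, Nat.totient_prime_pow Nat.prime_two hk] at h3
    simpa using h3
  have hcop : Nat.Coprime m (2 ^ (k - 1)) := by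
    apply Nat.Coprime.pow_right
    exact Nat.coprime_two_right.mpr hm
  have h4 : orderOf u = 1 := Nat.eq_one_of_dvd_coprimes hcop h1 h2
  have h5 : u = 1 := orderOf_eq_one_iff.mp h4
  have h6 : (r : ZMod (2 ^ k)) = 1 := by
    have := congrArg Units.val h5
    simpa [hu] using this
  have h7 : ((r : ℕ) : ZMod (2 ^ k)) = ((1 : ℕ) : ZMod (2 ^ k)) := by simpa using h6
  exact (ZMod.natCast_eq_natCast_iff r 1 (2 ^ k)).mp h7

/-- An automorphism of odd order that maps an element `g` of `2`-power order into the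
cyclic group generated by `g` fixes `g`. -/
theorem aut_fixes_of_mem_powers {P : Type*} [Group P] (α : MulAut P) (m : ℕ) (hm : Odd m)
    (hα : α ^ m = 1) (g : P) (k : ℕ) (hg : orderOf g = 2 ^ k) (r : ℕ) (hr : α g = g ^ r) :
    α g = g := by
  have hpow : ∀ j : ℕ, (α ^ j) g = g ^ (r ^ j) := by
    intro j
    induction j with
    | zero => simp
    | succ j ih =>
      rw [pow_succ', MulAut.mul_apply, ih, map_pow, hr, ← pow_mul, pow_succ']
  have h1 : g ^ (r ^ m) = g ^ 1 := by
    rw [← hpow m, hα, pow_one]; rfl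
  have h2 : r ^ m ≡ 1 [MOD 2 ^ k] := by
    rw [← hg]; exact pow_eq_pow_iff_modEq.mp h1
  have h3 := modEq_one_of_pow_odd k r m hm h2
  rw [hr]
  have h4 : g ^ r = g ^ 1 := by
    rw [pow_eq_pow_iff_modEq, hg]; exact h3
  rw [h4, pow_one]

open QuaternionGroup

/-- The cyclic subgroup of index two of the generalized quaternion group. -/
def rot (N : ℕ) : Subgroup (QuaternionGroup N) where
  carrier := {q | ∃ i, q = a i}
  mul_mem' := by
    rintro _ _ ⟨i, rfl⟩ ⟨j, rfl⟩
    exact ⟨i + j, rfl⟩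
  one_mem' := ⟨0, rfl⟩
  inv_mem' := by
    rintro _ ⟨i, rfl⟩
    refine ⟨-i, ?_⟩
    apply inv_eq_of_mul_eq_one_right
    simp

theorem a_mem_rot {N : ℕ} (i : ZMod (2 * N)) : (a i : QuaternionGroup N) ∈ rot N := ⟨i, rfl⟩

theorem xa_not_mem_rot {N : ℕ} (i : ZMod (2 * N)) : (xa i : QuaternionGroup N) ∉ rot N := by
  rintro ⟨j, hj⟩
  cases hj

theorem mem_rot_or {N : ℕ} (q : QuaternionGroup N) : q ∈ rot N ∨ ∃ i, q = xa i := by
  cases q with
  | a i => exact Or.inl ⟨i, rfl⟩
  | xa i => exact Or.inr ⟨i, rfl⟩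

instance rot_isCyclic (N : ℕ) [NeZero N] : IsCyclic (rot N) := by
  refine ⟨⟨⟨a 1, a_mem_rot 1⟩, ?_⟩⟩
  intro x
  obtain ⟨i, hi⟩ := x.2
  refine ⟨(i.val : ℤ), ?_⟩
  apply Subtype.ext
  show ((⟨a 1, a_mem_rot 1⟩ : rot N) ^ (i.val : ℤ) : rot N).1 = x.1
  rw [zpow_natCast, Subgroup.coe_pow]
  show (a 1 : QuaternionGroup N) ^ i.val = x.1
  rw [a_one_pow, hi, ZMod.natCast_zmod_val]

theorem a_inv {N : ℕ} (i : ZMod (2 * N)) : (a i : QuaternionGroup N)⁻¹ = a (-i) := by
  apply inv_eq_of_mul_eq_one_right; simp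

theorem a_pow {N : ℕ} (i : ZMod (2 * N)) (k : ℕ) :
    (a i : QuaternionGroup N) ^ k = a ((k : ZMod (2 * N)) * i) := by
  induction k with
  | zero => simp
  | succ k ih => rw [pow_succ, ih, a_mul_a]; congr 1; push_cast; ring

theorem commute_a_iff {N : ℕ} (j : ZMod (2 * N)) (hj : 2 * j ≠ 0) (q : QuaternionGroup N) :
    q * a j = a j * q ↔ q ∈ rot N := by
  cases q with
  | a i => simp [a_mem_rot, add_comm]
  | xa i =>
    simp only [xa_mul_a, a_mul_xa, xa_not_mem_rot, iff_false]
    intro h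
    injection h with h
    apply hj
    linear_combination h

theorem natCast_two_mul_self (N : ℕ) : (2 : ZMod (2 * N)) * (N : ZMod (2 * N)) = 0 := by
  have : ((2 * N : ℕ) : ZMod (2 * N)) = 0 := ZMod.natCast_self _
  push_cast at this
  exact this

theorem small_ne_zero (n : ℕ) (hn : 3 ≤ n) (c : ℕ) (hc0 : 0 < c) (hc : c ≤ 8) :
    ((c : ℕ) : ZMod (2 * 2 ^ n)) ≠ 0 := by
  rw [Ne, ZMod.natCast_eq_zero_iff]
  intro h
  have h1 := Nat.le_of_dvd hc0 h
  have h2 : 2 ^ 3 ≤ 2 ^ n := Nat.pow_le_pow_right (by norm_num) hn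
  omega

/-- Orders in a generalized quaternion `2`-group are powers of two. -/
theorem quat_orderOf_pow_two (n : ℕ) (q : QuaternionGroup (2 ^ n)) : ∃ k, orderOf q = 2 ^ k := by
  have : NeZero (2 ^ n) := ⟨by positivity⟩
  have h1 : orderOf q ∣ Nat.card (QuaternionGroup (2 ^ n)) := orderOf_dvd_natCard q
  rw [Nat.card_eq_fintype_card, QuaternionGroup.card] at h1
  have h2 : 4 * 2 ^ n = 2 ^ (n + 2) := by ring
  rw [h2] at h1
  obtain ⟨k, _, hk⟩ := (Nat.dvd_prime_pow Nat.prime_two).mp h1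
  exact ⟨k, hk⟩

/-- A normal subgroup of `Q_{2^(n+2)}`, `n ≥ 3`, not inside the rotation subgroup contains `a 2`. -/
theorem a_two_mem_of_normal (n : ℕ) (P' : Subgroup (QuaternionGroup (2 ^ n))) [hP : P'.Normal]
    (i₀ : ZMod (2 * 2 ^ n)) (h1 : (xa i₀ : QuaternionGroup (2 ^ n)) ∈ P') :
    (a 2 : QuaternionGroup (2 ^ n)) ∈ P' := by
  have h2 : (a 1 * xa i₀ * (a 1)⁻¹ : QuaternionGroup (2 ^ n)) ∈ P' := hP.conj_mem _ h1 _
  rw [a_inv, a_mul_xa, xa_mul_a] at h2
  have h3 := P'.mul_mem h1 h2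
  rw [xa_mul_xa] at h3
  have h4 := P'.mul_mem (P'.pow_mem h1 2) h3
  rw [xa_sq, a_mul_a] at h4
  have h5 : (((2 ^ n : ℕ) : ZMod (2 * 2 ^ n)) + (((2 ^ n : ℕ) : ZMod (2 * 2 ^ n)) + (i₀ - 1 + -1) - i₀))
      = -2 := by
    have := natCast_two_mul_self (2 ^ n)
    linear_combination this
  rw [h5] at h4
  have := P'.inv_mem h4
  rwa [a_inv, neg_neg] at this

/-- An automorphism of odd order of a normal subgroup of a generalized quaternion group
of order at least `32` is trivial. -/
theorem quat_odd_aut_trivial (n : ℕ) (hn : 3 ≤ n) (P' : Subgroup (QuaternionGroup (2 ^ n)))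
    [hP : P'.Normal] (α : MulAut P') (m : ℕ) (hm : Odd m) (hα : α ^ m = 1) : α = 1 := by
  have : NeZero (2 ^ n) := ⟨by positivity⟩
  have hordP : ∀ p : P', ∃ k, orderOf p = 2 ^ k := fun p => by
    rw [← Subgroup.orderOf_coe]; exact quat_orderOf_pow_two n p
  -- invariance of the rotation part
  have hinv : ∀ p : P', (p : QuaternionGroup (2 ^ n)) ∈ rot (2 ^ n) ↔
      ((α p : P') : QuaternionGroup (2 ^ n)) ∈ rot (2 ^ n) := by
    by_cases hcase : ∀ p : P', (p : QuaternionGroup (2 ^ n)) ∈ rot (2 ^ n)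
    · intro p; exact ⟨fun _ => hcase _, fun _ => hcase _⟩
    · push_neg at hcase
      obtain ⟨p₀, hp₀⟩ := hcase
      obtain ⟨i₀, hi₀⟩ := (mem_rot_or (p₀ : QuaternionGroup (2 ^ n))).resolve_left hp₀
      have h1 : (xa i₀ : QuaternionGroup (2 ^ n)) ∈ P' := hi₀ ▸ p₀.2
      have hb := a_two_mem_of_normal n P' i₀ h1
      have hb4 : (a 2 : QuaternionGroup (2 ^ n)) ^ 4 ≠ 1 := by
        rw [a_pow, one_def]
        intro h
        injection h with h
        have h8 := small_ne_zero n hn 8 (by norm_num) (by norm_num)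
        apply h8
        push_cast at h ⊢
        linear_combination h
      set b : P' := ⟨a 2, hb⟩ with hbdef
      have hαb4 : (α b) ^ 4 ≠ 1 := by
        intro h
        apply hb4
        have h' : α (b ^ 4) = α 1 := by rw [map_pow, h, map_one]
        have h'' := α.injective h'
        have := congrArg Subtype.val h''
        simpa [hbdef] using this
      obtain ⟨j, hj⟩ : ∃ j, ((α b : P') : QuaternionGroup (2 ^ n)) = a j := by
        rcases mem_rot_or ((α b : P') : QuaternionGroup (2 ^ n)) with h | ⟨i, hi⟩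
        · exact h
        · exfalso; apply hαb4; apply Subtype.ext
          rw [Subgroup.coe_pow, hi, xa_pow_four]; rfl
      have hj2 : 2 * j ≠ 0 := by
        intro h
        apply hαb4
        apply Subtype.ext
        rw [Subgroup.coe_pow, hj, a_pow]
        have : ((4 : ℕ) : ZMod (2 * 2 ^ n)) * j = 0 := by push_cast; linear_combination 2 * h
        rw [this]; rfl
      have h22 : (2 : ZMod (2 * 2 ^ n)) * 2 ≠ 0 := by
        have h4 := small_ne_zero n hn 4 (by norm_num) (by norm_num)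
        intro h; apply h4; push_cast; linear_combination h
      intro p
      rw [← commute_a_iff 2 h22, ← commute_a_iff j hj2]
      constructor
      · intro h
        have h' : p * b = b * p := Subtype.ext h
        have h2 := congrArg α h'
        rw [map_mul, map_mul] at h2
        have h3 := congrArg Subtype.val h2
        simpa [hj] using h3
      · intro h
        have h' : α p * α b = α b * α p := Subtype.ext (by simpa [hj] using h)
        rw [← map_mul, ← map_mul] at h'
        exact congrArg Subtype.val (α.injective h')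
  -- the rotation part is fixed pointwise
  have hBfix : ∀ p : P', (p : QuaternionGroup (2 ^ n)) ∈ rot (2 ^ n) → α p = p := by
    let B : Subgroup P' := (rot (2 ^ n)).subgroupOf P'
    let f : B →* rot (2 ^ n) :=
      (P'.subtype.comp B.subtype).codRestrict (rot (2 ^ n)) (fun x => Subgroup.mem_subgroupOf.mp x.2)
    have hf : Function.Injective f := by
      intro x y hxy
      have := congrArg Subtype.val hxy
      exact Subtype.ext (Subtype.ext this)
    haveI : IsCyclic B := isCyclic_of_injective f hf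
    obtain ⟨g, hg⟩ := IsCyclic.exists_generator (α := B)
    have hαg : α g.1 ∈ B :=
      Subgroup.mem_subgroupOf.mpr ((hinv g.1).mp (Subgroup.mem_subgroupOf.mp g.2))
    obtain ⟨z, hz⟩ := Subgroup.mem_zpowers_iff.mp (hg ⟨α g.1, hαg⟩)
    have hz' : (g.1 : P') ^ z = α g.1 := by
      have := congrArg Subtype.val hz
      simpa using this
    obtain ⟨k, hk⟩ := hordP g.1
    have hopos : (0 : ℤ) < (orderOf g.1 : ℤ) := by
      rw [hk]; positivity
    have hr : α g.1 = g.1 ^ (z % (orderOf g.1 : ℤ)).toNat := by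
      rw [← hz', ← zpow_natCast, Int.toNat_of_nonneg (Int.emod_nonneg _ hopos.ne'),
        zpow_mod_orderOf]
    have hfixg := aut_fixes_of_mem_powers α m hm hα g.1 k hk _ hr
    intro p hp
    obtain ⟨w, hw⟩ := Subgroup.mem_zpowers_iff.mp (hg ⟨p, Subgroup.mem_subgroupOf.mpr hp⟩)
    have hw' : (g.1 : P') ^ w = p := by
      have := congrArg Subtype.val hw
      simpa using this
    rw [← hw', map_zpow, hfixg]
  -- the remaining elements
  ext1 p
  show α p = p
  by_cases hp : (p : QuaternionGroup (2 ^ n)) ∈ rot (2 ^ n)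
  · exact hBfix p hp
  · have hαp : ((α p : P') : QuaternionGroup (2 ^ n)) ∉ rot (2 ^ n) := fun h => hp ((hinv p).mpr h)
    obtain ⟨i, hi⟩ := (mem_rot_or _).resolve_left hp
    obtain ⟨j, hj⟩ := (mem_rot_or _).resolve_left hαp
    have hcrot : ((p⁻¹ * α p : P') : QuaternionGroup (2 ^ n)) ∈ rot (2 ^ n) := by
      rcases mem_rot_or ((p⁻¹ * α p : P') : QuaternionGroup (2 ^ n)) with h | ⟨k, hk⟩
      · exact h
      · exfalso
        have h1 : (p : QuaternionGroup (2 ^ n)) * ((p⁻¹ * α p : P') : QuaternionGroup (2 ^ n))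
            = ((α p : P') : QuaternionGroup (2 ^ n)) := by
          rw [← Subgroup.coe_mul, mul_inv_cancel_left]
        rw [hi, hk, hj, xa_mul_xa] at h1
        cases h1
    have hαc : α (p⁻¹ * α p) = p⁻¹ * α p := hBfix _ hcrot
    have hpc : α p = p * (p⁻¹ * α p) := by rw [mul_inv_cancel_left]
    have hcm : (p⁻¹ * α p) ^ m = 1 := by
      generalize p⁻¹ * α p = c at hαc hpc
      have hpow : ∀ t : ℕ, (α ^ t) p = p * c ^ t := by
        intro t
        induction t with
        | zero => simp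
        | succ t ih =>
          rw [pow_succ', MulAut.mul_apply, ih, map_mul, map_pow, hαc, hpc, mul_assoc, ← pow_succ']
      have h1 := hpow m
      rw [hα] at h1
      have h2 : p = p * c ^ m := h1
      exact mul_eq_left.mp h2.symm
    obtain ⟨k, hk⟩ := hordP (p⁻¹ * α p)
    have hdvd : orderOf (p⁻¹ * α p) ∣ m := orderOf_dvd_of_pow_eq_one hcm
    have hone : orderOf (p⁻¹ * α p) = 1 := by
      rw [hk] at hdvd ⊢
      rcases Nat.eq_zero_or_pos k with rfl | hkpos
      · simp
      · exfalso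
        have h2 : 2 ∣ m := (dvd_pow_self 2 hkpos.ne').trans hdvd
        exact (Nat.not_even_iff_odd.mpr hm) (even_iff_two_dvd.mpr h2)
    have hc1 : p⁻¹ * α p = 1 := orderOf_eq_one_iff.mp hone
    exact (inv_mul_eq_one.mp hc1).symm

end Cfsg.Agent.Helper54
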