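import Cfsg.Statements.S1993
import Cfsg.Agent.S1972
import Cfsg.Agent.Lib.Helper54.KInfFunctor
import Cfsg.Agent.Lib.Helper33.TransferControl
import Cfsg.Agent.Lib.Helper33.SecFusionA

set_option autoImplicit false
universe u
open Cfsg

namespace Cfsg.Agent.Helper54.S1993Aux

theorem controlsTransfer_upper {G : Type u} [Group G] [Finite G] {p : ℕ} [Fact p.Prime] (hp : 5 ≤ p) :
    Cfsg.ControlsTransferIn p (Cfsg.inducedFunctor (G := G) Cfsg.kInfUpper) ⊤ := by
  have hW : Cfsg.IsCharPFunctor.{u} p Cfsg.kInfUpper :=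
    Cfsg.Agent.Helper54.KInf.isCharPFunctor_kInfUpper p
  have hsec := Cfsg.Agent.S1972.result (G := G) (p := p) Cfsg.kInfUpper hW (by
    intro K R hR _ T hT
    exact Cfsg.Agent.Helper54.KInf.local_engel hp T (Or.inr hT))
  have h1 : Cfsg.Agent.Helper33.SecHave (fun (H : Type u) [Group H] =>
      Cfsg.FamilyControlsTransferIn p (Cfsg.Agent.Helper33.indFam {Cfsg.kInfUpper} H) ⊤) G := by
    intro K R hR
    exact Cfsg.Agent.Helper54.KInf.fct_of_controlsTransferIn (hsec K R)
  exact Cfsg.Agent.Helper33.controlsTransferIn_of_fct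
    (h1.self (Cfsg.Agent.Helper33.fct_isoInv (Cfsg.Agent.Helper33.singleton_charP hW)))

theorem first_conjunct {G : Type u} [Group G] [Finite G] {p : ℕ} [Fact p.Prime] (S : Sylow p G)
    (hp : 5 ≤ p) :
    (S : Subgroup G) ⊓ commutator G = (S : Subgroup G) ⊓ ⁅Subgroup.normalizer ((Cfsg.inducedFunctor Cfsg.kInfUpper (S : Subgroup G) : Subgroup G) : Set G), Subgroup.normalizer ((Cfsg.inducedFunctor Cfsg.kInfUpper (S : Subgroup G) : Subgroup G) : Set G)⁆ := by
  have hW : Cfsg.IsCharPFunctor.{u} p Cfsg.kInfUpper :=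
    Cfsg.Agent.Helper54.KInf.isCharPFunctor_kInfUpper p
  have hW' := Cfsg.Agent.Helper33.isConjugacyFunctor_indF hW G
  have h := controlsTransfer_upper (G := G) (p := p) hp
  have hsyl : Cfsg.Agent.Helper33.IsSylIn p (S : Subgroup G) (⊤ : Subgroup G) := by
    refine ⟨le_top, S.isPGroup', ?_⟩
    rw [Subgroup.relIndex_top_right]
    exact S.not_dvd_index
  have key := Cfsg.Agent.Helper33.controlsTransferIn_at hW' h hsyl
  unfold Cfsg.Agent.Helper33.derivedPart at key
  rw [top_inf_eq] at key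
  rw [commutator_def, key]

end Cfsg.Agent.Helper54.S1993Aux
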